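import Mathlib
import Cfsg.Prelude.Def_Classical
import Cfsg.Prelude.Def_CaseTheorems
import Cfsg.Prelude.Def_TwoFusion
import Cfsg.Prelude.Def_Transfer
import Cfsg.Prelude.Def_Local
import Cfsg.Prelude.Def_Spor_J2

/-! Definitions for the groups with the element orders of `A₁₀` (plans/A10S.md). -/

set_option autoImplicit false

namespace CfsgLib.A10S
open Cfsg Subgroup
open scoped commutatorElement

universe u

/-- The element orders of `A₁₀`. -/
def om : Finset ℕ := {1, 2, 3, 4, 5, 6, 7, 8, 9, 10, 12, 15, 21}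

/-- Every element order is an element order of `A₁₀`. -/
def Om (G : Type*) [Group G] : Prop := ∀ g : G, orderOf g ∈ om

abbrev An (n : ℕ) : Type := ↥(alternatingGroup (Fin n))

def A56 (K : Type*) [Group K] : Prop := Nonempty (K ≃* An 5) ∨ Nonempty (K ≃* An 6)

def L34 (S : Type*) [Group S] : Prop :=
  ∃ (F : Type) (_ : Field F) (_ : Fintype F), Fintype.card F = 4 ∧
    Nonempty (S ≃* Matrix.ProjectiveSpecialLinearGroup (Fin 3) F)

def U43 (S : Type*) [Group S] : Prop :=
  ∃ (F : Type) (_ : Field F) (_ : Fintype F), Fintype.card F = 9 ∧ Nonempty (S ≃* PSU 4 F 3)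

def Six (S : Type*) [Group S] : Prop :=
  Nonempty (S ≃* An 8) ∨ Nonempty (S ≃* An 9) ∨ Nonempty (S ≃* An 10) ∨ L34 S ∨ U43 S ∨ Spor.IsoJ2 S

/-- The simple sections. -/
def Lst (S : Type*) [Group S] : Prop :=
  A56 S ∨ (Nat.card S = 25920 ∧ ∃ g : S, orderOf g = 9) ∨
    (¬ 64 ∣ Nat.card S ∧ 7 ∣ Nat.card S ∧ ¬ 49 ∣ Nat.card S) ∨ Six S

/-- The hypothesis on a simple section. -/
structure Hs (S : Type*) [Group S] : Prop where
  simple : IsSimpleGroup S
  na : ¬ IsMulCommutative S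
  om : Om S
  two : ¬ 256 ∣ Nat.card S

/-- The case of sectional rank at most four, as a hypothesis. -/
def SrkSt : Prop := ∀ (S : Type u) [Group S] [Finite S], Hs S → SectionalPRankLE 2 4 S → Lst S

/-- The case `|S|₂ ≤ 64`, as a hypothesis. -/
def Sm : Prop := ∀ (S : Type u) [Group S] [Finite S], Hs S → ¬ 128 ∣ Nat.card S → Lst S

/-- The classification of the simple sections, as a hypothesis. -/
def ClSt : Prop := ∀ (S : Type u) [Group S] [Finite S], Hs S → Lst S

/-- The residual case. -/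
structure Hd (S : Type u) [Group S] : Prop extends Hs S where
  d7 : 128 ∣ Nat.card S
  cls : ∀ P : Sylow 2 S, ∃ a ∈ P, ∃ b ∈ P, ∃ c ∈ P, ⁅⁅a, b⁆, c⁆ ≠ 1
  srk : ∀ P : Sylow 2 S, ¬ SectionalPRankLE 2 4 (P : Subgroup S)
  nsc : ∀ (P : Sylow 2 S) (A : Subgroup S), A ≠ ⊥ → IsMulCommutative A → ¬ IsStronglyClosed A (P : Subgroup S)
  sm : Sm.{u}

section
variable {S : Type u} [Group S]

/-- Characteristic 2 type: `Q = O₂(N(Q))`, and `L / Q ≅ A₅, A₆` is normal in `N(Q) / Q`. -/
structure Loc (Q L : Subgroup S) : Prop where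
  hd : Hd S
  c2 : IsCharacteristicTwoType S
  two : IsPGroup 2 Q
  card : Nat.card Q = 16 ∨ Nat.card Q = 32
  self : centralizer (Q : Set S) ≤ Q
  core : ∀ R : Subgroup S, IsPGroup 2 R → R ≤ normalizer (Q : Set S) →
    normalizer (Q : Set S) ≤ normalizer (R : Set S) → R ≤ Q
  QL : Q ≤ L
  le : L ≤ normalizer (Q : Set S)
  nrm : normalizer (Q : Set S) ≤ normalizer (L : Set S)
  iso : ∃ n, (n = 5 ∨ n = 6) ∧ ∃ φ : L →* An n, Function.Surjective φ ∧ φ.ker = Q.subgroupOf L

/-- `K` is normal in `C(t)` and contains every perfect subgroup of `C(t)`. -/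
structure Top (t : S) (K : Subgroup S) : Prop where
  ord : orderOf t = 2
  le : K ≤ centralizer ({t} : Set S)
  nrm : centralizer ({t} : Set S) ≤ normalizer (K : Set S)
  top : ∀ J : Subgroup S, J ≤ centralizer ({t} : Set S) → Group.IsPerfect J → J ≤ K
end

/-- A double cover of `A₅` or `A₆` with its unique involution `w`. -/
structure Dbl (K : Type*) [Group K] (w : K) : Prop where
  perf : Group.IsPerfect K
  ord : orderOf w = 2
  cen : center K = zpowers w
  uniq : ∀ k : K, orderOf k = 2 → k = w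
  quo : A56 (K ⧸ center K)

/-- The hypothesis of S3490. -/
structure Hg (G : Type*) [Group G] : Prop where
  om : Om G
  all : ∀ n ∈ A10S.om, ∃ g : G, orderOf g = n
  d7 : 128 ∣ Nat.card G
  two : ¬ 256 ∣ Nat.card G

/-- The reduction: `π` has kernel of order prime to 14, and its image `H` is almost simple with socle `S`. -/
structure Rd {G H : Type u} [Group G] [Group H] (π : G →* H) (S : Subgroup H) : Prop where
  hg : Hg G
  surj : Function.Surjective π
  odd : Odd (Nat.card π.ker)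
  n7 : ¬ 7 ∣ Nat.card π.ker
  nrm : S.Normal
  simple : IsSimpleGroup S
  na : ¬ IsMulCommutative S
  cen : centralizer (S : Set H) = ⊥
  min : ∀ N : Subgroup H, N.Normal → N ≠ ⊥ → S ≤ N
  idx2 : ¬ 4 ∣ S.index
  idx5 : ¬ 5 ∣ S.index

/-- `a` and `b` generate `Z₄ × Z₄`. -/
structure Z44 {X : Type*} [Group X] (a b : X) : Prop where
  comm : Commute a b
  a4 : a ^ 4 = 1
  b4 : b ^ 4 = 1
  a2 : a ^ 2 ≠ 1
  b2 : b ^ 2 ≠ 1
  ab : a ^ 2 ≠ b ^ 2

/-- `A ⟨y⟩ ≅ A₄ × E₄`. -/
structure AE {X : Type*} [Group X] (A : Subgroup X) (y : X) : Prop where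
  el : IsElementaryAbelian 2 A
  card : Nat.card A = 16
  y3 : orderOf y = 3
  nrm : y ∈ normalizer (A : Set X)
  fix : Nat.card ↥(A ⊓ centralizer ({y} : Set X)) = 4

end CfsgLib.A10S
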