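import Mathlib
import Cfsg.Agent.Lib.A10S.Defs
import Cfsg.Agent.S2477

/-! BAS: the element orders.  See plans/A10S.md. -/

set_option autoImplicit false

namespace CfsgLib.A10S
open Cfsg Subgroup
open scoped commutatorElement

universe u

variable {G H : Type*} [Group G] [Group H]

theorem om_dvd {m n : ℕ} (hn : n ∈ om) (d : m ∣ n) : m ∈ om := by
  have h : ∀ n ∈ om, ∀ m ∈ n.divisors, m ∈ om := by decide
  refine h n hn m (Nat.mem_divisors.2 ⟨d, ?_⟩)
  rintro rfl
  exact absurd hn (by decide)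

theorem Om.of_inj (h : Om G) (f : H →* G) (hf : Function.Injective f) : Om H := fun g =>
  orderOf_injective f hf g ▸ h (f g)

theorem Om.sub (h : Om G) (K : Subgroup G) : Om K := h.of_inj K.subtype K.subtype_injective

theorem Om.of_surj (h : Om G) (f : G →* H) (hf : Function.Surjective f) : Om H := fun g => by
  obtain ⟨x, rfl⟩ := hf g
  exact om_dvd (h x) (orderOf_map_dvd f x)

theorem Om.quot (h : Om G) (N : Subgroup G) [N.Normal] : Om (G ⧸ N) :=
  h.of_surj (QuotientGroup.mk' N) (QuotientGroup.mk'_surjective N)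

/-- no element order is a multiple of `n ∉ om` -/
theorem Om.not_dvd (h : Om G) {n : ℕ} (hn : n ∉ om) (g : G) : ¬ n ∣ orderOf g := fun d =>
  hn (om_dvd (h g) d)

theorem Om.ne_zero (h : Om G) (g : G) : orderOf g ≠ 0 := fun e => absurd (e ▸ h g) (by decide)

theorem Om.pow_ord (h : Om G) {a : G} {m : ℕ} (hm : m ∣ orderOf a) : orderOf (a ^ (orderOf a / m)) = m :=
  orderOf_pow_orderOf_div (h.ne_zero a) hm

/-- commuting elements whose orders are multiples of coprime numbers -/
theorem Om.comm (h : Om G) {a b : G} (c : Commute a b) {m n : ℕ} (hm : m ∣ orderOf a) (hn : n ∣ orderOf b)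
    (co : Nat.Coprime m n) : m * n ∈ om := by
  have h1 := h.pow_ord hm
  have h2 := h.pow_ord hn
  have := (c.pow_pow (orderOf a / m) (orderOf b / n)).orderOf_mul_eq_mul_orderOf_of_coprime (by rwa [h1, h2])
  rw [h1, h2] at this
  exact this ▸ h _

/-- three pairwise commuting elements -/
theorem Om.comm3 (h : Om G) {a b c : G} (ab : Commute a b) (ac : Commute a c) (bc : Commute b c) {l m n : ℕ}
    (hl : l ∣ orderOf a) (hm : m ∣ orderOf b) (hn : n ∣ orderOf c) (c1 : Nat.Coprime l m)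
    (c2 : Nat.Coprime (l * m) n) : l * m * n ∈ om := by
  have h1 := h.pow_ord hl
  have h2 := h.pow_ord hm
  have := (ab.pow_pow (orderOf a / l) (orderOf b / m)).orderOf_mul_eq_mul_orderOf_of_coprime (by rwa [h1, h2])
  rw [h1, h2] at this
  exact h.comm ((ac.pow_left _).mul_left (bc.pow_left _)) this.symm.dvd hn c2

theorem Om.prime [Finite G] (h : Om G) {p : ℕ} (hp : p.Prime) (d : p ∣ Nat.card G) :
    p = 2 ∨ p = 3 ∨ p = 5 ∨ p = 7 := by
  have := Fact.mk hp
  obtain ⟨g, hg⟩ := exists_prime_orderOf_dvd_card' p d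
  have k : ∀ n ∈ om, n.Prime → n = 2 ∨ n = 3 ∨ n = 5 ∨ n = 7 := by decide
  exact k p (hg ▸ h g) hp

theorem dvd_orderOf_of_pgroup {p : ℕ} (hp : p.Prime) {Q : Subgroup G} (hQ : IsPGroup p Q) {q : G} (hq : q ∈ Q)
    (h1 : q ≠ 1) : p ∣ orderOf q := by
  obtain ⟨k, hk⟩ := hQ ⟨q, hq⟩
  have e : q ^ p ^ k = 1 := by simpa using congrArg Subtype.val hk
  obtain ⟨j, -, hj⟩ := (Nat.dvd_prime_pow hp).1 (orderOf_dvd_of_pow_eq_one e)
  rcases j with _ | j
  · exact absurd (orderOf_eq_one_iff.1 (by simpa using hj)) h1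
  · exact hj ▸ Dvd.intro_left _ (pow_succ p j).symm

/-- counting the fixed points of an element of prime order on a subgroup -/
theorem card_mod_fix [Finite G] {r : ℕ} (hr : r.Prime) {Q : Subgroup G} {x : G} (hx : orderOf x = r)
    (n : x ∈ normalizer (Q : Set G)) :
    Nat.card Q ≡ Nat.card ↥(Q ⊓ centralizer ({x} : Set G)) [MOD r] := by
  have := Fact.mk hr
  let X : Subgroup (normalizer (Q : Set G)) := zpowers ⟨x, n⟩
  have hX : IsPGroup r X := IsPGroup.of_card (n := 1) (by
    rw [Nat.card_zpowers, pow_one, ← hx, ← Subgroup.orderOf_coe])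
  letI : MulAction X Q := MulAction.compHom Q ((Subgroup.normalizerMonoidHom Q).comp X.subtype)
  have sm : ∀ (g : X) (q : Q), ((g • q : Q) : G) = g.1.1 * q * g.1.1⁻¹ := fun _ _ => rfl
  refine (hX.card_modEq_card_fixedPoints Q).trans ?_
  rw [Nat.card_congr (β := ↥(Q ⊓ centralizer ({x} : Set G))) ?_]
  refine ⟨fun q => ⟨q.1.1, q.1.2, ?_⟩, fun q => ⟨⟨q.1, q.2.1⟩, ?_⟩, fun _ => rfl, fun _ => rfl⟩
  · have := congrArg Subtype.val (q.2 ⟨⟨x, n⟩, mem_zpowers _⟩)
    rw [sm] at this
    exact mem_centralizer_singleton_iff.2 (by simpa [mul_inv_eq_iff_eq_mul] using this.symm.symm ▸ (mul_inv_eq_iff_eq_mul.1 this).symm)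
  · rintro ⟨g, k, rfl⟩
    apply Subtype.ext
    rw [sm]
    have c : Commute (q : G) x := mem_centralizer_singleton_iff.1 q.2.2
    have := (c.zpow_right k).symm.eq
    simp only [SubgroupClass.coe_zpow]
    rw [this, mul_inv_cancel_right]

/-- an element of order 7 that normalizes a 2-subgroup or a 5-subgroup acts without fixed points -/
theorem Om.mod7 [Finite G] (h : Om G) {p : ℕ} (hp : p = 2 ∨ p = 5) {Q : Subgroup G} (hQ : IsPGroup p Q) {x : G}
    (hx : orderOf x = 7) (n : x ∈ normalizer (Q : Set G)) : Nat.card Q % 7 = 1 := by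
  have e : Q ⊓ centralizer ({x} : Set G) = ⊥ := by
    rw [eq_bot_iff]
    intro q hq
    by_contra h1
    have c : Commute q x := mem_centralizer_singleton_iff.1 hq.2
    rcases hp with rfl | rfl
    · exact absurd (h.comm c (dvd_orderOf_of_pgroup (by norm_num) hQ hq.1 h1) hx.symm.dvd (by norm_num)) (by decide)
    · exact absurd (h.comm c (dvd_orderOf_of_pgroup (by norm_num) hQ hq.1 h1) hx.symm.dvd (by norm_num)) (by decide)
  have := card_mod_fix (by norm_num) hx n
  rw [e, card_bot] at this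
  exact this

theorem exists_mem_orderOf [Finite G] {p : ℕ} (hp : p.Prime) {K : Subgroup G} (d : p ∣ Nat.card K) :
    ∃ a ∈ K, orderOf a = p := by
  have := Fact.mk hp
  obtain ⟨a, ha⟩ := exists_prime_orderOf_dvd_card' p d
  exact ⟨a, a.2, by rw [Subgroup.orderOf_coe, ha]⟩

/-- inside an involution centralizer, the centralizer of elements of order 3 and 5 is an elementary abelian
2-group -/
theorem Om.cent35 [Finite G] (h : Om G) {K : Subgroup G} (h3 : 3 ∣ Nat.card K) (h5 : 5 ∣ Nat.card K) {t : G}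
    (ht : orderOf t = 2) (le : K ≤ centralizer ({t} : Set G)) :
    IsElementaryAbelian 2 (centralizer (K : Set G) ⊓ centralizer ({t} : Set G)) := by
  obtain ⟨a, aK, ha⟩ := exists_mem_orderOf (by norm_num) h3
  obtain ⟨b, bK, hb⟩ := exists_mem_orderOf (by norm_num) h5
  have sq : ∀ g ∈ centralizer (K : Set G) ⊓ centralizer ({t} : Set G), g ^ 2 = 1 := by
    intro g hg
    have ga : Commute a g := hg.1 a aK
    have gb : Commute b g := hg.1 b bK
    have gt : Commute g t := mem_centralizer_singleton_iff.1 hg.2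
    have at' : Commute a t := mem_centralizer_singleton_iff.1 (le aK)
    have bt : Commute b t := mem_centralizer_singleton_iff.1 (le bK)
    have n3 : ¬ 3 ∣ orderOf g := fun d =>
      absurd (h.comm3 gb bt gt hb.symm.dvd d ht.symm.dvd (by norm_num) (by norm_num)) (by decide)
    have n5 : ¬ 5 ∣ orderOf g := fun d =>
      absurd (h.comm3 ga at' gt ha.symm.dvd d ht.symm.dvd (by norm_num) (by norm_num)) (by decide)
    have n7 : ¬ 7 ∣ orderOf g := fun d => absurd (h.comm gt d ht.symm.dvd (by norm_num)) (by decide)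
    have n4 : ¬ 4 ∣ orderOf g := fun d => absurd (h.comm gb hb.symm.dvd d (by norm_num)) (by decide)
    have k : ∀ n ∈ om, ¬ 3 ∣ n → ¬ 5 ∣ n → ¬ 7 ∣ n → ¬ 4 ∣ n → n ∣ 2 := by decide
    exact orderOf_dvd_iff_pow_eq_one.1 (k _ (h g) n3 n5 n7 n4)
  refine ⟨⟨⟨fun x y => Subtype.ext ?_⟩⟩, sq⟩
  have e1 := sq _ x.2
  have e2 := sq _ y.2
  have e3 := sq _ (mul_mem x.2 y.2)
  rw [pow_two] at e1 e2 e3
  change (x : G) * y = y * x
  calc (x : G) * y = x * (x * y * (x * y)) * y := by rw [e3, mul_one]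
    _ = (x * x) * y * x * (y * y) := by simp only [mul_assoc]
    _ = y * x := by rw [e1, e2, one_mul, mul_one]

theorem hg_of_spec [Finite G]
    (h : Set.range (orderOf : G → ℕ) = Set.range (orderOf : alternatingGroup (Fin 10) → ℕ))
    (h2 : 2 ^ 7 ∣ Nat.card G) (h2' : ¬ 2 ^ 8 ∣ Nat.card G) : Hg G := by
  rw [Cfsg.Agent.S2477.result] at h
  refine ⟨fun g => ?_, fun n hn => ?_, h2, h2'⟩
  · have : orderOf g ∈ Set.range (orderOf : G → ℕ) := ⟨g, rfl⟩
    rw [h] at this
    simpa [om] using this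
  · have : n ∈ Set.range (orderOf : G → ℕ) := by rw [h]; simpa [om] using hn
    exact this

end CfsgLib.A10S
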