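import Mathlib
import Cfsg.Agent.Lib.A10S.Defs
import Cfsg.Agent.Lib.Sect.E16

/-! A1: a normal `E₁₆`.  See plans/A10S.md. -/

set_option autoImplicit false
set_option linter.unusedVariables false

namespace CfsgLib.A10S
open Cfsg Subgroup
open scoped commutatorElement

universe u

open CfsgLib.Sect in
theorem srk_a1 {P : Type*} [Group P] [Finite P] (hP : Nat.card P = 128) (Q P0 : Subgroup P) [Q.Normal]
    (hQ : IsElementaryAbelian 2 Q) (h16 : Nat.card Q = 16) (hs : centralizer (Q : Set P) ≤ Q) (h0 : Q ≤ P0)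
    (hi : P0.index ≤ 2)
    (nt : ∀ t ∈ P0, t ∉ Q → t ^ 2 ∈ Q → Nat.card ↥(Q ⊓ centralizer ({t} : Set P)) ≤ 4)
    (ne : ∃ a b : P, ⁅a, b⁆ ∉ Q ∨ a ^ 2 ∉ Q) : SectionalPRankLE 2 4 P := by
  have hG : IsPGroup 2 P := IsPGroup.of_card (n := 7) hP
  have i8 : Q.index = 8 := by
    have := Q.index_mul_card
    rw [h16, hP] at this
    omega
  refine sr_top_iff.2 (sr_of_le fun H _ K hKH hK => ?_)
  by_cases hH : H ≤ Q
  · exact (relIndex_le_card K H).trans ((card_le_of_le hH).trans h16.le)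
  obtain ⟨g, hg, hg'⟩ := SetLike.not_le_iff_exists.1 hH
  refine (split' hKH Q).trans ?_
  by_cases h2 : 2 < Q.relIndex H
  swap
  · have h3 := card_cent_le fun e => hg' (hs e)
    exact Nat.mul_le_mul ((comm_bound' hK Q hg).trans (by omega : _ ≤ 8))
      ((relIndex_anti_left le_sup_right H).trans (not_lt.1 h2))
  obtain ⟨x, hx, hxQ⟩ : ∃ x ∈ H ⊓ P0, x ∉ Q := by
    by_contra! hn
    have := relIndex_le_mul Q H P0
    rw [relIndex_eq_one.2 hn] at this
    have := relIndex_le_index P0 H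
    omega
  obtain ⟨j, t1, t2⟩ := exists_pow_sq hG hxQ
  have b1 : K.relIndex (H ⊓ Q) ≤ 4 := (comm_bound' hK Q (pow_mem hx.1 j)).trans
    (inf_comm Q _ ▸ nt _ (pow_mem hx.2 j) t1 (by rwa [pow_two]))
  refine (Nat.mul_le_mul b1 (?_ : _ ≤ 4)).trans (by norm_num)
  by_contra hn
  have h8 : 8 ≤ (K ⊔ Q).relIndex H := by
    by_contra hn'
    exact hn (relIndex_le_pow (hG.to_subgroup H) 2 (by omega))
  have i1 := relIndex_le_index Q H
  have KQ : K ≤ Q := by
    by_contra hn'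
    have e := relIndex_mul_relIndex (Q ⊓ H) ((K ⊔ Q) ⊓ H) H (inf_le_inf_right _ le_sup_right) inf_le_right
    rw [inf_relIndex_right, inf_relIndex_right] at e
    have := two_le_relIndex (K := Q ⊓ H) (H := (K ⊔ Q) ⊓ H) fun hle =>
      hn' fun x hx => (hle (mem_inf.2 ⟨mem_sup_left hx, hKH hx⟩)).1
    have := Nat.mul_le_mul this h8
    omega
  have sq : ∀ x ∈ (⊤ : Subgroup P), x * x ∈ Q := fun x hx => by
    obtain ⟨y, hy, e⟩ := cover_of_le (K := Q) (le_top : H ≤ ⊤)
      (by rw [relIndex_top_right, i8]; exact h8.trans (relIndex_anti_left le_sup_right H)) hx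
    have := mul_mem (mul_mem (KQ (hK y hy)) (‹Q.Normal›.conj_mem _ e y⁻¹)) e
    convert this using 1
    group
  obtain ⟨a, b, e | e⟩ := ne
  · exact e (comm_mem sq (mem_top a) (mem_top b))
  · exact e (pow_two a ▸ sq a (mem_top a))

end CfsgLib.A10S
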