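import Mathlib
import Cfsg.Agent.Lib.A10S.Defs
import Cfsg.Agent.Lib.CGT2.PSr

/-! A2: an `E₁₆` with two conjugates.  See plans/A10S.md. -/

set_option autoImplicit false

namespace CfsgLib.A10S
open Cfsg Subgroup
open scoped commutatorElement

universe u

open CfsgLib.Sect in
theorem srk_a2 {P : Type*} [Group P] [Finite P] (hP : Nat.card P = 128) (T Q : Subgroup P) (hT : T.index = 2)
    (hQT : Q ≤ T) (hn : T ≤ normalizer (Q : Set P)) (hQ : IsElementaryAbelian 2 Q) (h16 : Nat.card Q = 16)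
    (nn : ¬ Q.Normal) (nt : ∀ t ∈ T, t ∉ Q → Nat.card ↥(Q ⊓ centralizer ({t} : Set P)) ≤ 4) :
    SectionalPRankLE 2 4 P := by
  have hG : IsPGroup 2 P := IsPGroup.of_card (n := 7) hP
  have Tn : T.Normal := normal_of_index_eq_two hT
  have c64 : Nat.card T = 64 := by
    have := T.index_mul_card
    rw [hT, hP] at this
    omega
  obtain ⟨g, -, hg⟩ := exists_notMem (K := T) (H := ⊤) (by rw [card_top]; omega)
  have m2 : ∀ x ∉ T, ∀ y ∉ T, x * y ∈ T := fun x hx y hy =>
    (mul_mem_iff_of_index_two hT).2 (iff_of_false hx hy)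
  have g' : g⁻¹ ∉ T := fun e => hg (inv_mem_iff.1 e)
  have q2 : ∀ a ∈ Q, a * a = 1 := fun a ha => pow_two a ▸ hQ.2 a ha
  have q2' : ∀ a ∈ cjg g Q, a * a = 1 := fun a ha => by
    have := q2 _ (mem_cjg.1 ha)
    calc a * a = g * (g⁻¹ * a * g * (g⁻¹ * a * g)) * g⁻¹ := by group
      _ = 1 := by rw [this]; group
  have nQ : ∀ x ∈ T, ∀ a ∈ Q, x * a * x⁻¹ ∈ Q := fun x hx a ha => (mem_normalizer_iff.1 (hn hx) a).1 ha
  have Q'T : cjg g Q ≤ T := fun a ha => by
    have := Tn.conj_mem _ (hQT (mem_cjg.1 ha)) g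
    convert this using 1
    group
  have nQ' : ∀ x ∈ T, ∀ a ∈ cjg g Q, x * a * x⁻¹ ∈ cjg g Q := fun x hx a ha => by
    have := nQ _ (Tn.conj_mem x hx g⁻¹) _ (mem_cjg.1 ha)
    rw [mem_cjg]
    convert this using 1
    group
  have sw : ∀ x ∉ T, (∀ a ∈ Q, x * a * x⁻¹ ∈ cjg g Q) ∧ ∀ a ∈ cjg g Q, x * a * x⁻¹ ∈ Q := fun x hx => by
    refine ⟨fun a ha => ?_, fun a ha => ?_⟩
    · have := nQ _ (m2 _ g' x hx) a ha
      rw [mem_cjg]
      convert this using 1
      group
    · have := nQ _ (m2 x hx g hg) _ (mem_cjg.1 ha)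
      convert this using 1
      group
  obtain ⟨t, ht, htQ⟩ : ∃ t ∈ cjg g Q, t ∉ Q := by
    by_contra! h
    refine nn ⟨fun a ha x => ?_⟩
    by_cases hx : x ∈ T
    · exact nQ x hx a ha
    · exact h _ ((sw x hx).1 a ha)
  have c16 : Nat.card (cjg g Q) = 16 := (card_cjg g Q).trans h16
  have cD : Nat.card (Q ⊓ cjg g Q : Subgroup P) = 4 := by
    have h1 := card_mul_le Q'T hQT
    have h2 := (card_le_of_le (show Q ⊓ cjg g Q ≤ Q ⊓ centralizer ({t} : Set P) from fun a ha =>
      mem_inf.2 ⟨ha.1, mem_cent.2 (comm_of_sq q2' ha.2 ht)⟩)).trans (nt t (Q'T ht) htQ)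
    rw [c16, h16, c64] at h1
    omega
  have iA : Q.relIndex T = 4 := by
    have := card_eq_relIndex' hQT
    rw [c64, h16] at this
    omega
  have dec : ∀ b ∈ T, ∃ y ∈ cjg g Q, ∃ q ∈ Q, b = y * q := fun b hb => by
    have := card_eq_relIndex Q (cjg g Q)
    rw [c16, cD] at this
    obtain ⟨y, hy, e⟩ := cover_of_le (K := Q) Q'T (by omega) hb
    exact ⟨y, hy, _, e, by group⟩
  have cm : ∀ a ∈ Q, ∀ b ∈ T, a * b = b * a → a ∈ cjg g Q ∨ b ∈ Q := fun a ha b hb e => by
    refine or_iff_not_imp_right.2 fun hbQ => ?_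
    have h1 := nt b hb hbQ
    obtain ⟨y, hy, q, hq, rfl⟩ := dec b hb
    refine (eq_of_card_lt (K := Q ⊓ cjg g Q) (H := Q ⊓ centralizer ({y * q} : Set P))
      (fun d hd => mem_inf.2 ⟨hd.1, mem_cent.2 ?_⟩) (by omega) (mem_inf.2 ⟨ha, mem_cent.2 e⟩)).2
    rw [← mul_assoc, comm_of_sq q2' hd.2 hy, mul_assoc, comm_of_sq q2 hd.1 hq, mul_assoc]
  have Dn : (Q ⊓ cjg g Q).Normal := ⟨fun a ha x => by
    by_cases hx : x ∈ T
    · exact mem_inf.2 ⟨nQ x hx a ha.1, nQ' x hx a ha.2⟩
    · exact mem_inf.2 ⟨(sw x hx).2 a ha.2, (sw x hx).1 a ha.1⟩⟩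
  refine sr_top_iff.2 (CGT2.SrP.Sh.sr (B := T) (A := Q) (A' := cjg g Q) (D := Q ⊓ cjg g Q) (K := T)
    { pg := hG
      hD := rfl
      AB := hQT
      A'B := Q'T
      BK := le_rfl
      cD := cD
      iA := iA
      iA' := by
        have := card_eq_relIndex' Q'T
        rw [c64, c16] at this
        omega
      iD := by
        have := card_eq_relIndex' (inf_le_left : Q ⊓ cjg g Q ≤ Q)
        rw [h16, cD] at this
        omega
      iB := by omega
      cm := cm
      cm' := fun a ha b hb e => by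
        rcases cm _ ((sw g hg).2 a ha) _ (Tn.conj_mem b hb g) (by
          calc g * a * g⁻¹ * (g * b * g⁻¹) = g * (a * b) * g⁻¹ := by group
            _ = _ := by rw [e]; group) with h | h
        · left
          have := mem_cjg.1 h
          convert this using 1
          group
        · right
          have := (sw _ g').1 _ h
          convert this using 1
          group
      sq := fun b hb => by
        obtain ⟨y, hy, q, hq, rfl⟩ := dec b hb
        refine mem_inf.2 ⟨?_, ?_⟩
        · have := mul_mem (nQ y (Q'T hy) q hq) hq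
          rw [← eq_inv_of_mul_eq_one_left (q2' y hy)] at this
          convert this using 1
          group
        · have := mul_mem hy (nQ' q (hQT hq) y hy)
          rw [← eq_inv_of_mul_eq_one_left (q2 q hq)] at this
          convert this using 1
          group
      el := fun X hX e => le_or_le fun x hx => by
        obtain ⟨y, hy, q, hq, rfl⟩ := dec x (hX hx)
        have e1 : q * y = y * q := by
          rw [eq_inv_of_mul_eq_one_left (e _ hx), mul_inv_rev, ← eq_inv_of_mul_eq_one_left (q2' y hy),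
            ← eq_inv_of_mul_eq_one_left (q2 q hq)]
        exact (cm q hq y (Q'T hy) e1).symm.imp (fun h => mul_mem h hq) fun h => mul_mem hy h
      KA := nQ
      sw := sw
      sw2 := m2
      f2 := fun x hx _ _ h _ => absurd hx h
      mD := fun x hx _ => hx
      mA := fun x hx _ => hx
      mA' := fun x hx _ => hx })

end CfsgLib.A10S
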