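import Mathlib
import Cfsg.Agent.Lib.A10S.Defs
import Cfsg.Agent.Lib.CGT2.PSr

/-! B1: a normal extraspecial subgroup of order 32.  See plans/A10S.md. -/

set_option autoImplicit false
set_option linter.unusedVariables false

namespace CfsgLib.A10S
open Cfsg Subgroup
open scoped commutatorElement

universe u

open CfsgLib.Sect in
theorem srk_b1 {P : Type*} [Group P] [Finite P] (hP : Nat.card P = 128) (Q Z : Subgroup P) [Q.Normal]
    (h32 : Nat.card Q = 32) (hZ : Nat.card Z = 2) (cen : Q ⊓ centralizer (Q : Set P) = Z)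
    (sq : ∀ q ∈ Q, q ^ 2 ∈ Z) (cm : ∀ a ∈ Q, ∀ b ∈ Q, ⁅a, b⁆ ∈ Z)
    (nt : ∀ t : P, t ∉ Q → ∀ B : Subgroup P, Z ≤ B → B ≤ Q → (∀ q ∈ B, ⁅q, t⁆ ∈ Z) → Nat.card B ≤ 8) :
    SectionalPRankLE 2 4 P := by
  have hG : IsPGroup 2 P := IsPGroup.of_card (n := 7) hP
  have ZQ : Z ≤ Q := cen ▸ inf_le_left
  have Zn : Z.Normal := cen ▸ inferInstance
  obtain ⟨z, hz, z1, z2, zc⟩ := exists_central hG Z (by omega)
  have eZ : Z ≤ zpowers z := fun x hx => (mem_zpowers_two z2).2 (two_cases hZ.le hz z1 hx)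
  refine sr_top_iff.2 (CGT2.SrP.extra hG h32 (ZQ hz) z1 z2 zc (fun r hr => eZ (pow_two r ▸ sq r hr))
    fun x hx => eZ (cen ▸ mem_inf.2 ⟨?_, hx⟩))
  by_contra hn
  have := nt x hn Q ZQ le_rfl fun q hq => by
    rw [commutatorElement_eq_one_iff_mul_comm.2 (mem_cent'.1 hx q hq)]
    exact one_mem _
  omega

end CfsgLib.A10S
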