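import Mathlib
import Cfsg.Agent.Lib.A10S.Bas

/-! NTV: no transvections.  See plans/A10S.md. -/

set_option autoImplicit false
set_option linter.unusedSectionVars false
set_option linter.unusedVariables false

namespace CfsgLib.A10S
open Cfsg Subgroup
open scoped commutatorElement

universe u

variable {S : Type u} [Group S] [Finite S] {Q L : Subgroup S}

theorem ntv_conj {H : Subgroup S} {x a : S} (hx : x ∈ normalizer (H : Set S)) (ha : a ∈ H) : x * a * x⁻¹ ∈ H :=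
  (mem_normalizer_iff.1 hx a).1 ha

theorem ntv_two {Z : Subgroup S} (hZ : Nat.card Z ≤ 2) {a b : S} (ha : a ∈ Z) (hb : b ∈ Z) (a1 : a ≠ 1)
    (b1 : b ≠ 1) : a = b := by
  by_contra k
  have h1 : ({⟨1, one_mem _⟩, ⟨a, ha⟩, ⟨b, hb⟩} : Set Z).ncard = 3 :=
    Set.ncard_eq_three.2 ⟨_, _, _, by simpa using a1.symm, by simpa using b1.symm, by simpa using k, rfl⟩
  have := Set.ncard_le_card ({⟨1, one_mem _⟩, ⟨a, ha⟩, ⟨b, hb⟩} : Set Z)
  omega

/-- every involution of `A₅`, `A₆` inverts an element of order 5 -/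
theorem ntv_inv {n : ℕ} (hn : n = 5 ∨ n = 6) {s : An n} (s2 : s ^ 2 = 1) (s1 : s ≠ 1) :
    ∃ y : An n, y ^ 5 = 1 ∧ y ≠ 1 ∧ s * y * s * y = 1 := by
  have ho : orderOf (s : Equiv.Perm (Fin n)) = 2 := by
    rw [orderOf_coe]; exact orderOf_eq_prime s2 s1
  obtain ⟨k, hk⟩ := Equiv.Perm.cycleType_prime_order (σ := (s : Equiv.Perm (Fin n))) (ho ▸ Nat.prime_two)
  rw [ho] at hk
  have h1 := Equiv.Perm.sum_cycleType_le (s : Equiv.Perm (Fin n))
  have h2 := Equiv.Perm.sign_of_cycleType (s : Equiv.Perm (Fin n))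
  rw [hk, Multiset.sum_replicate, Fintype.card_fin, smul_eq_mul] at h1
  rw [hk, Multiset.sum_replicate, Multiset.card_replicate, Equiv.Perm.mem_alternatingGroup.1 s.2] at h2
  obtain rfl : k = 1 := by
    have : k ≤ 2 := by omega
    interval_cases k
    · exact absurd h2 (by decide)
    · rfl
    · exact absurd h2 (by decide)
  have key : ∀ s₀ y₀ : Equiv.Perm (Fin n), s₀.cycleType = Multiset.replicate (1 + 1) 2 → Equiv.Perm.sign y₀ = 1 →
      y₀ ^ 5 = 1 → y₀ ≠ 1 → s₀ * y₀ * s₀ * y₀ = 1 → ∃ y : An n, y ^ 5 = 1 ∧ y ≠ 1 ∧ s * y * s * y = 1 := by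
    intro s₀ y₀ k1 k2 k3 k4 k5
    obtain ⟨g, hg⟩ := isConj_iff.1 (Equiv.Perm.isConj_iff_cycleType_eq.2 (k1.trans hk.symm))
    refine ⟨⟨g * y₀ * g⁻¹, by simp [k2]⟩, Subtype.ext ?_, fun e => k4 ?_, Subtype.ext ?_⟩
    · simp [k3]
    · simpa using congrArg Subtype.val e
    · change (s : Equiv.Perm (Fin n)) * (g * y₀ * g⁻¹) * s * (g * y₀ * g⁻¹) = 1
      rw [← hg, show g * s₀ * g⁻¹ * (g * y₀ * g⁻¹) * (g * s₀ * g⁻¹) * (g * y₀ * g⁻¹) =
        g * (s₀ * y₀ * s₀ * y₀) * g⁻¹ by group, k5]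
      group
  rcases hn with rfl | rfl
  · exact key (Equiv.swap 1 4 * Equiv.swap 2 3)
      (Equiv.swap 0 1 * Equiv.swap 1 2 * Equiv.swap 2 3 * Equiv.swap 3 4)
      (by decide) (by decide) (by decide) (by decide) (by decide)
  · exact key (Equiv.swap 1 4 * Equiv.swap 2 3)
      (Equiv.swap 0 1 * Equiv.swap 1 2 * Equiv.swap 2 3 * Equiv.swap 3 4)
      (by decide) (by decide) (by decide) (by decide) (by decide)

theorem Loc.ntv_lift (h : Loc Q L) {n : ℕ} {φ : L →* An n} (hs : Function.Surjective φ)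
    (hk : φ.ker = Q.subgroupOf L) {y : An n} (y5 : y ^ 5 = 1) (y1 : y ≠ 1) :
    ∃ x : L, φ x = y ∧ orderOf (x : S) = 5 := by
  obtain ⟨x, rfl⟩ := hs y
  have h1 : ((x ^ 5 : L) : S) ∈ Q := mem_subgroupOf.1 (hk ▸ show x ^ 5 ∈ φ.ker by rwa [MonoidHom.mem_ker, map_pow])
  have h2 : ((x ^ 5 : L) : S) ^ 32 = 1 := orderOf_dvd_iff_pow_eq_one.1
    ((Q.orderOf_dvd_natCard h1).trans (by rcases h.card with k | k <;> rw [k]; decide))
  have h3 : φ (x ^ 96) = φ x := by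
    rw [map_pow, show 96 = 5 * 19 + 1 by rfl, pow_succ, pow_mul, y5, one_pow, one_mul]
  have := Fact.mk Nat.prime_five
  refine ⟨x ^ 96, h3, orderOf_eq_prime ?_ fun e => y1 ?_⟩
  · rw [coe_pow, ← pow_mul] at h2 ⊢
    rw [show 96 * 5 = 5 * 32 * 3 by rfl, pow_mul, h2, one_pow]
  · rw [← h3, show x ^ 96 = 1 from Subtype.ext e, map_one]

theorem Loc.exists_five (h : Loc Q L) : ∃ x ∈ L, orderOf x = 5 := by
  obtain ⟨n, hn, φ, hs, hk⟩ := h.iso
  refine exists_mem_orderOf Nat.prime_five (Dvd.dvd.trans ?_ (card_dvd_of_surjective φ hs))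
  rcases hn with rfl | rfl <;> rw [nat_card_alternatingGroup, Nat.card_eq_fintype_card, Fintype.card_fin] <;> decide

/-- the fixed points of an element of order 5 -/
theorem Loc.fix5 (h : Loc Q L) {x : S} (hx : x ∈ L) (x5 : orderOf x = 5) :
    Nat.card Q = 16 * Nat.card ↥(Q ⊓ centralizer ({x} : Set S)) := by
  have h1 := card_mod_fix Nat.prime_five x5 (h.le hx)
  have h2 : Nat.card ↥(Q ⊓ centralizer ({x} : Set S)) ∣ Nat.card Q := card_dvd_of_le inf_le_left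
  have h3 : Nat.card ↥(Q ⊓ centralizer ({x} : Set S)) ≠ Nat.card Q := fun k => by
    have h4 := eq_of_le_of_card_ge (inf_le_left : Q ⊓ centralizer ({x} : Set S) ≤ Q) k.ge
    have h5 : x ∈ Q := h.self fun q hq => mem_centralizer_singleton_iff.1 (h4.ge hq).2
    have := dvd_orderOf_of_pgroup Nat.prime_two h.two h5 (fun e => by simp [e] at x5)
    omega
  generalize Nat.card ↥(Q ⊓ centralizer ({x} : Set S)) = m at *
  rcases h.card with k | k <;> rw [k] at h1 h2 h3 ⊢ <;> have := Nat.le_of_dvd (by decide) h2 <;>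
    interval_cases m <;> simp_all [Nat.ModEq]

/-- an element of order 5 of `L` moves `Q / Z` -/
theorem Loc.five (h : Loc Q L) {x : S} (hx : x ∈ L) (x5 : orderOf x = 5) {Z B : Subgroup S} (hZ : Nat.card Z ≤ 2)
    (ZB : Z ≤ B) (BQ : B ≤ Q) (hB : ∀ q ∈ B, ⁅q, x⁆ ∈ Z) : 16 ≤ B.relIndex Q := by
  have h1 : B ≤ Q ⊓ centralizer ({x} : Set S) := fun q hq => ⟨BQ hq, mem_centralizer_singleton_iff.2 (by
    rw [← commutatorElement_eq_one_iff_mul_comm]
    by_contra z1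
    have hz := hB q hq
    generalize e : ⁅q, x⁆ = z at z1 hz
    have e1 : x * z⁻¹ * x⁻¹ = z⁻¹ := ntv_two hZ (by
      have := mul_mem (inv_mem hz) (hB z (ZB hz))
      rwa [commutatorElement_def, mul_assoc z, mul_assoc z, inv_mul_cancel_left] at this) (inv_mem hz)
      (by simpa using z1) (by simpa using z1)
    have e2 : Commute x z := Commute.inv_right_iff.1 (mul_inv_eq_iff_eq_mul.1 e1)
    have e3 : ∀ n : ℕ, x ^ n * q⁻¹ = q⁻¹ * z ^ n * x ^ n := fun n => by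
      induction n with
      | zero => simp
      | succ n ih =>
        rw [pow_succ', mul_assoc, ih, ← mul_assoc, ← mul_assoc, show x * q⁻¹ = q⁻¹ * z * x by
          rw [← e, commutatorElement_def]; group, mul_assoc _ x, (e2.pow_right n).eq, pow_succ' z]
        group
    have e4 := e3 5
    rw [← x5, pow_orderOf_eq_one, x5, one_mul, mul_one, left_eq_mul] at e4
    have e5 : z = z⁻¹ := ntv_two hZ hz (inv_mem hz) z1 (by simpa using z1)
    rw [show 5 = 2 * 2 + 1 by rfl, pow_succ, pow_mul, pow_two z, mul_eq_one_iff_eq_inv.2 e5, one_pow,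
      one_mul] at e4
    exact z1 e4)⟩
  have h2 := card_le_of_le h1
  have h3 := h.fix5 hx x5
  have h4 : Nat.card B * B.relIndex Q = Nat.card Q := by
    rw [← card_mul_index (B.subgroupOf Q), Nat.card_congr (subgroupOfEquivOfLe BQ).toEquiv]; rfl
  have h5 : 0 < Nat.card B := Nat.card_pos
  by_contra k
  nlinarith

/-- involutions of `L / Q` are not transvections on `Q / Z` -/
theorem Loc.ntv (h : Loc Q L) {Z : Subgroup S} (hZ : Nat.card Z ≤ 2) (ZQ : Z ≤ Q) (nZ : L ≤ normalizer (Z : Set S))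
    (ab : ∀ a ∈ Q, ∀ b ∈ Q, ⁅a, b⁆ ∈ Z) {t : S} (ht : t ∈ L) (tQ : t ∉ Q) (t2 : t ^ 2 ∈ Q)
    {B : Subgroup S} (ZB : Z ≤ B) (BQ : B ≤ Q) (hB : ∀ q ∈ B, ⁅q, t⁆ ∈ Z) : 4 ≤ B.relIndex Q := by
  obtain ⟨n, hn, φ, hs, hk⟩ := h.iso
  have hφ : ∀ a : L, φ a = 1 ↔ (a : S) ∈ Q := fun a => by rw [← MonoidHom.mem_ker, hk, mem_subgroupOf]
  obtain ⟨y, y5, y1, hy⟩ := ntv_inv hn (s := φ ⟨t, ht⟩) (by rw [← map_pow, hφ]; exact t2) (mt (hφ _).1 tQ)
  obtain ⟨⟨x, hx⟩, rfl, x5⟩ := h.ntv_lift hs hk y5 y1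
  have h1 : t * x * t * x ∈ Q := (hφ ⟨_, mul_mem (mul_mem (mul_mem ht hx) ht) hx⟩).1 (by
    rw [← hy, ← map_mul, ← map_mul, ← map_mul]; rfl)
  have x1 : x ^ 5 = 1 := x5 ▸ pow_orderOf_eq_one x
  let B' := B ⊓ B.comap (MulAut.conj x).toMonoidHom
  let K : Subgroup S :=
    { carrier := {g | g ∈ L ∧ ∀ q ∈ B', ⁅q, g⁆ ∈ Z}
      one_mem' := ⟨one_mem _, fun q _ => by simp⟩
      mul_mem' := fun {a b} ha hb => ⟨mul_mem ha.1 hb.1, fun q hq => by
        rw [show ⁅q, a * b⁆ = ⁅q, a⁆ * (a * ⁅q, b⁆ * a⁻¹) by simp only [commutatorElement_def]; group]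
        exact mul_mem (ha.2 q hq) (ntv_conj (nZ ha.1) (hb.2 q hq))⟩
      inv_mem' := fun {a} ha => ⟨inv_mem ha.1, fun q hq => by
        rw [show ⁅q, a⁻¹⁆ = a⁻¹ * ⁅q, a⁆⁻¹ * a⁻¹⁻¹ by simp only [commutatorElement_def]; group]
        exact ntv_conj (nZ (inv_mem ha.1)) (inv_mem (ha.2 q hq))⟩ }
  have k1 : t ∈ K := ⟨ht, fun q hq => hB q hq.1⟩
  have k2 : x⁻¹ * t * x ∈ K := ⟨mul_mem (mul_mem (inv_mem hx) ht) hx, fun q hq => by
    rw [show ⁅q, x⁻¹ * t * x⁆ = x⁻¹ * ⁅x * q * x⁻¹, t⁆ * x⁻¹⁻¹ by simp only [commutatorElement_def]; group]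
    exact ntv_conj (nZ (inv_mem hx)) (hB _ hq.2)⟩
  have k3 : ∀ a ∈ Q, a ∈ K := fun a ha => ⟨h.QL ha, fun q hq => ab q (BQ hq.1) a ha⟩
  have k4 : x ∈ K := by
    have h2 : t⁻¹ * (t * x * t * x) * t⁻¹⁻¹ ∈ Q := ntv_conj (h.le (inv_mem ht)) h1
    have h3 := mul_mem (mul_mem (k3 _ h2) (inv_mem k1)) (inv_mem k2)
    rw [show t⁻¹ * (t * x * t * x) * t⁻¹⁻¹ * t⁻¹ * (x⁻¹ * t * x)⁻¹ = x * x by group] at h3
    have h4 := pow_mem h3 3
    rwa [← pow_two, ← pow_mul, show 2 * 3 = 5 + 1 by rfl, pow_succ, x1, one_mul] at h4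
  have h5 := h.five hx x5 hZ (B := B') (fun z hz => ⟨ZB hz, ZB (ntv_conj (nZ hx) hz)⟩) (inf_le_left.trans BQ) k4.2
  have h6 : B'.relIndex Q ≤ _ := relIndex_inf_le
  rw [relIndex_comap, show Q.map (MulAut.conj x).toMonoidHom = Q from
    eq_of_le_of_card_ge (by rintro _ ⟨q, hq, rfl⟩; exact ntv_conj (h.le hx) hq)
      (card_map_of_injective (MulAut.conj x).injective).ge] at h6
  by_contra k
  nlinarith

/-- the preimage of `Ω₁ Z(Q / Z)` -/
theorem ntv_step (h2 : IsPGroup 2 Q) {Z : Subgroup S} (ZQ : Z ≤ Q) (hne : ¬ Q ≤ Z) (nZ : Q ≤ normalizer (Z : Set S))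
    {x : S} (xQ : x ∈ normalizer (Q : Set S)) (xZ : x ∈ normalizer (Z : Set S)) :
    ∃ Y : Subgroup S, Z < Y ∧ x ∈ normalizer (Y : Set S) ∧
      ∀ q, q ∈ Y ↔ q ∈ Q ∧ q ^ 2 ∈ Z ∧ ∀ a ∈ Q, ⁅q, a⁆ ∈ Z := by
  let Y : Subgroup S :=
    { carrier := {q | q ∈ Q ∧ q ^ 2 ∈ Z ∧ ∀ a ∈ Q, ⁅q, a⁆ ∈ Z}
      one_mem' := ⟨one_mem _, by simp, fun q _ => by simp⟩
      mul_mem' := fun {a b} ha hb => ⟨mul_mem ha.1 hb.1, by
        rw [show (a * b) ^ 2 = a ^ 2 * ⁅b, a⁻¹⁆⁻¹ * b ^ 2 by simp only [commutatorElement_def, pow_two]; group]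
        exact mul_mem (mul_mem ha.2.1 (inv_mem (hb.2.2 _ (inv_mem ha.1)))) hb.2.1, fun c hc => by
        rw [show ⁅a * b, c⁆ = a * ⁅b, c⁆ * a⁻¹ * ⁅a, c⁆ by simp only [commutatorElement_def]; group]
        exact mul_mem (ntv_conj (nZ ha.1) (hb.2.2 c hc)) (ha.2.2 c hc)⟩
      inv_mem' := fun {a} ha => ⟨inv_mem ha.1, inv_pow a 2 ▸ inv_mem ha.2.1, fun c hc => by
        rw [show ⁅a⁻¹, c⁆ = a⁻¹ * ⁅a, c⁆⁻¹ * a⁻¹⁻¹ by simp only [commutatorElement_def]; group]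
        exact ntv_conj (nZ (inv_mem ha.1)) (inv_mem (ha.2.2 c hc))⟩ }
  refine ⟨Y, lt_of_le_not_ge (fun z hz => ⟨ZQ hz, pow_mem hz 2, fun a ha => ?_⟩) ?_,
    mem_normalizer_fintype fun q hq => ⟨ntv_conj xQ hq.1, by rw [conj_pow]; exact ntv_conj xZ hq.2.1, fun a ha => ?_⟩,
    fun _ => Iff.rfl⟩
  · rw [commutatorElement_def, mul_assoc, mul_assoc, ← mul_assoc a]
    exact mul_mem hz (ntv_conj (nZ ha) (inv_mem hz))
  · have : (Z.subgroupOf Q).Normal := normal_subgroupOf_of_le_normalizer nZ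
    have : Nontrivial (Q ⧸ Z.subgroupOf Q) :=
      QuotientGroup.nontrivial_iff.2 fun k => hne (subgroupOf_eq_top.1 k)
    have h3 := h2.to_quotient (Z.subgroupOf Q)
    have := h3.center_nontrivial
    obtain ⟨n, hn, e⟩ := (h3.to_subgroup (center _)).nontrivial_iff_card.1 this
    obtain ⟨⟨c, hc⟩, c2⟩ := exists_prime_orderOf_dvd_card' (G := center (Q ⧸ Z.subgroupOf Q)) 2
      (e ▸ dvd_pow_self 2 hn.ne')
    obtain ⟨q, rfl⟩ := QuotientGroup.mk_surjective c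
    rw [← orderOf_coe] at c2
    intro k
    have k1 : (q : S) ∈ Z := k ⟨q.2, (QuotientGroup.eq_one_iff (N := Z.subgroupOf Q) (q ^ 2)).1 (by
      rw [QuotientGroup.mk_pow, ← c2]; exact pow_orderOf_eq_one _), fun a ha =>
      (QuotientGroup.eq_one_iff (N := Z.subgroupOf Q) ⁅q, ⟨a, ha⟩⁆).1 (by
        rw [← QuotientGroup.mk'_apply, map_commutatorElement, commutatorElement_eq_one_iff_mul_comm]
        exact (mem_center_iff.1 hc _).symm)⟩
    rw [show ((⟨q, hc⟩ : center (Q ⧸ Z.subgroupOf Q)) : Q ⧸ Z.subgroupOf Q) = 1 from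
      (QuotientGroup.eq_one_iff q).2 k1] at c2
    simp at c2
  · rw [show ⁅x * q * x⁻¹, a⁆ = x * ⁅q, x⁻¹ * a * x⁻¹⁻¹⁆ * x⁻¹ by simp only [commutatorElement_def]; group]
    exact ntv_conj xZ (hq.2.2 _ (ntv_conj (inv_mem xQ) ha))

/-- the shape of `Q` -/
theorem Loc.shape (h : Loc Q L) : IsElementaryAbelian 2 Q ∨
    (Nat.card Q = 32 ∧ ∃ Z : Subgroup S, Nat.card Z = 2 ∧ Q ⊓ centralizer (Q : Set S) = Z ∧
      (∀ q ∈ Q, q ^ 2 ∈ Z) ∧ ∀ a ∈ Q, ∀ b ∈ Q, ⁅a, b⁆ ∈ Z) := by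
  obtain ⟨x, hx, x5⟩ := h.exists_five
  have f := h.fix5 hx x5
  have xQ := h.le hx
  obtain ⟨Z, z1, xZ, hZ⟩ := ntv_step h.two bot_le (fun k => by
    have := card_le_of_le k
    rw [card_bot] at this
    rcases h.card with k | k <;> omega) (Z := ⊥) (le_top.trans (normalizer_eq_top _).ge) xQ
    ((normalizer_eq_top _).ge (mem_top x))
  simp only [mem_bot, commutatorElement_eq_one_iff_mul_comm] at hZ
  have ZQ : Z ≤ Q := fun q hq => ((hZ q).1 hq).1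
  by_cases hQ : Q ≤ Z
  · exact .inl ⟨⟨⟨fun a b => Subtype.ext (((hZ a).1 (hQ a.2)).2.2 b b.2)⟩⟩, fun a ha => ((hZ a).1 (hQ ha)).2.1⟩
  have c1 : Nat.card Z ≠ 1 := fun k => z1.ne' (card_eq_one.1 k)
  have c2 : Nat.card Z ≠ Nat.card Q := fun k => hQ (eq_of_le_of_card_ge ZQ k.ge).ge
  have c3 : Nat.card Z ∣ Nat.card Q := card_dvd_of_le ZQ
  have c4 := card_mod_fix Nat.prime_five x5 xZ
  have le : Z ⊓ centralizer ({x} : Set S) ≤ Q ⊓ centralizer ({x} : Set S) := inf_le_inf_right _ ZQ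
  have c5 := card_le_of_le le
  have c6 : 0 < Nat.card ↥(Z ⊓ centralizer ({x} : Set S)) := Nat.card_pos
  have key : Nat.card Q = 32 ∧ Nat.card ↥(Q ⊓ centralizer ({x} : Set S)) = 2 ∧
      (Nat.card Z = 16 ∧ Nat.card ↥(Z ⊓ centralizer ({x} : Set S)) = 1 ∨
        Nat.card Z = 2 ∧ Nat.card ↥(Z ⊓ centralizer ({x} : Set S)) = 2) := by
    generalize Nat.card ↥(Z ⊓ centralizer ({x} : Set S)) = m at *
    generalize Nat.card ↥(Q ⊓ centralizer ({x} : Set S)) = l at *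
    generalize Nat.card Z = n at *
    rcases h.card with k | k <;> rw [k] at f c2 c3 ⊢ <;> have := Nat.le_of_dvd (by decide) c3 <;>
      interval_cases n <;> simp only [Nat.ModEq] at c4 <;> omega
  obtain ⟨h32, f2, ⟨k1, k2⟩ | ⟨k1, k2⟩⟩ := key
  · exfalso
    obtain ⟨⟨c, hc⟩, c2⟩ := exists_prime_orderOf_dvd_card' (G := ↥(Q ⊓ centralizer ({x} : Set S))) 2 (f2 ▸ dvd_rfl)
    rw [← orderOf_coe] at c2
    have cZ : c ∉ Z := fun k => by
      have := (card_eq_one.1 k2).le ⟨k, hc.2⟩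
      rw [mem_bot] at this
      simp [this] at c2
    have i2 : (Z.subgroupOf Q).index = 2 := by
      have := card_mul_index (Z.subgroupOf Q)
      rw [Nat.card_congr (subgroupOfEquivOfLe ZQ).toEquiv, k1, h32] at this
      omega
    refine cZ ((hZ c).2 ⟨hc.1, c2 ▸ pow_orderOf_eq_one _, fun a ha => ?_⟩)
    by_cases aZ : a ∈ Z
    · exact (((hZ a).1 aZ).2.2 c hc.1).symm
    · have : c * a ∈ Z := (mul_mem_iff_of_index_two i2 (a := ⟨c, hc.1⟩) (b := ⟨a, ha⟩)).2 (iff_of_false cZ aZ)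
      exact mul_left_cancel (a := c) (by rw [← ((hZ _).1 this).2.2 c hc.1, mul_assoc])
  have Zx : Z ≤ centralizer ({x} : Set S) :=
    (eq_of_le_of_card_ge (inf_le_left : Z ⊓ centralizer ({x} : Set S) ≤ Z) (k2.trans k1.symm).ge).ge.trans inf_le_right
  have big : ∀ Y : Subgroup S, Z < Y → Y ≤ Q → x ∈ normalizer (Y : Set S) → Y = Q := fun Y h1 h2 h3 => by
    have d1 := card_mod_fix Nat.prime_five x5 h3
    have d2 := card_le_of_le (inf_le_inf_right (centralizer ({x} : Set S)) h2)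
    have d3 := card_le_of_le (inf_le_inf_right (centralizer ({x} : Set S)) h1.le)
    have d4 := card_dvd_of_le h2
    have d5 : Nat.card Y ≠ 2 := fun k => h1.ne (eq_of_le_of_card_ge h1.le (k.trans k1.symm).le)
    refine eq_of_le_of_card_ge h2 ?_
    rw [show Nat.card ↥(Y ⊓ centralizer ({x} : Set S)) = 2 by omega] at d1
    rw [h32] at d4 ⊢
    generalize Nat.card Y = n at *
    have := Nat.le_of_dvd (by decide) d4
    interval_cases n <;> simp only [Nat.ModEq] at d1 <;> omega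
  obtain ⟨Y, y1, xY, hY⟩ := ntv_step h.two ZQ hQ (fun q hq => mem_normalizer_fintype fun z hz => by
    rwa [← ((hZ z).1 hz).2.2 q hq, mul_inv_cancel_right]) xQ xZ
  obtain rfl := big Y y1 (fun q hq => ((hY q).1 hq).1) xY
  refine .inr ⟨h32, Z, k1, ?_, fun q hq => ((hY q).1 hq).2.1, fun a ha => ((hY a).1 ha).2.2⟩
  have zc : Z ≤ Y ⊓ centralizer (Y : Set S) := fun z hz => ⟨ZQ hz, fun a ha => (((hZ z).1 hz).2.2 a ha).symm⟩
  refine (zc.eq_or_lt.resolve_right fun k => ?_).symm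
  have ab := big _ k inf_le_left (mem_normalizer_fintype fun q hq => ⟨ntv_conj xQ hq.1, fun a ha => by
    have := hq.2 _ (ntv_conj (inv_mem xQ) ha)
    calc a * (x * q * x⁻¹) = x * (x⁻¹ * a * x⁻¹⁻¹ * q) * x⁻¹ := by group
      _ = _ := by rw [this]; group⟩)
  have := h.five hx x5 k1.le ZQ le_rfl fun q hq => by
    have q' := ntv_conj xQ (inv_mem hq)
    have e : ⁅q, x⁆ = q * (x * q⁻¹ * x⁻¹) := by rw [commutatorElement_def]; group
    refine (hZ _).2 ⟨e ▸ mul_mem hq q', ?_, fun a ha => ((ab.ge (e ▸ mul_mem hq q')).2 a ha).symm⟩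
    rw [e, Commute.mul_pow ((ab.ge q').2 q hq), conj_pow, inv_pow,
      ← mem_centralizer_singleton_iff.1 (Zx (inv_mem ((hY q).1 hq).2.1))]
    group
  simp at this

/-- for `|Q| = 32`: `L / Q ≅ A₅`, and `L` contains the Sylow 2-subgroups of `N(Q)`, which have order 128 -/
theorem Loc.of32 (h : Loc Q L) (h32 : Nat.card Q = 32) :
    (∃ φ : L →* An 5, Function.Surjective φ ∧ φ.ker = Q.subgroupOf L) ∧
    (∀ T : Subgroup S, IsPGroup 2 T → T ≤ normalizer (Q : Set S) → T ≤ L) ∧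
    (∀ t : S, t ∈ normalizer (Q : Set S) → (∃ k, t ^ 2 ^ k = 1) → t ^ 2 ∈ Q) ∧
    ∃ P : Sylow 2 S, Q ≤ (P : Subgroup S) ∧ (P : Subgroup S) ≤ L := by
  obtain ⟨n, hn, φ, hs, hk⟩ := h.iso
  have : Nontrivial (Fin n) := Fin.nontrivial_iff_two_le.2 (by omega)
  have c1 := card_mul_index φ.ker
  rw [index_ker, MonoidHom.range_eq_top.2 hs, card_top, hk, Nat.card_congr (subgroupOfEquivOfLe h.QL).toEquiv, h32,
    nat_card_alternatingGroup, Nat.card_eq_fintype_card, Fintype.card_fin] at c1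
  obtain rfl : n = 5 := hn.resolve_right (by
    rintro rfl
    exact h.hd.two (Dvd.dvd.trans (c1 ▸ by decide) (card_subgroup_dvd_card L)))
  have c2 : Nat.card L = 1920 := c1.symm
  have : (L.subgroupOf (normalizer (Q : Set S))).Normal := normal_subgroupOf_of_le_normalizer h.nrm
  have c3 := card_mul_index (L.subgroupOf (normalizer (Q : Set S)))
  rw [Nat.card_congr (subgroupOfEquivOfLe h.le).toEquiv, c2] at c3
  have c4 : Odd (L.subgroupOf (normalizer (Q : Set S))).index := Nat.not_even_iff_odd.1 fun ⟨m, hm⟩ =>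
    h.hd.two (Dvd.dvd.trans ⟨15 * m, by omega⟩ (card_subgroup_dvd_card (normalizer (Q : Set S))))
  have key : ∀ t : S, t ∈ normalizer (Q : Set S) → (∃ k, t ^ 2 ^ k = 1) → t ∈ L := fun t ht ⟨k, hk⟩ => by
    have e1 : t ^ (L.subgroupOf (normalizer (Q : Set S))).index ∈ L :=
      pow_index_mem (H := L.subgroupOf (normalizer (Q : Set S))) ⟨t, ht⟩
    obtain ⟨m, hm⟩ := exists_pow_eq_self_of_coprime (x := t) (Nat.Coprime.of_dvd_right
      (orderOf_dvd_of_pow_eq_one hk) (Nat.Coprime.pow_right k (Nat.coprime_two_right.2 c4)))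
    exact hm ▸ pow_mem e1 m
  refine ⟨⟨φ, hs, hk⟩, fun T hT le t ht => key t (le ht) ?_, fun t ht ⟨k, e⟩ => ?_, ?_⟩
  · obtain ⟨k, e⟩ := hT ⟨t, ht⟩
    exact ⟨k, congrArg Subtype.val e⟩
  · have tL := key t ht ⟨k, e⟩
    have e1 : φ ⟨t, tL⟩ ^ 2 ^ k = 1 := by rw [← map_pow, show (⟨t, tL⟩ : L) ^ 2 ^ k = 1 from Subtype.ext e, map_one]
    have e2 : ∀ g : Equiv.Perm (Fin 5), Equiv.Perm.sign g = 1 → g ^ 30 = 1 := by decide +kernel
    have e3 : φ ⟨t, tL⟩ ^ 30 = 1 := Subtype.ext (e2 _ (φ ⟨t, tL⟩).2)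
    have e4 : φ ⟨t, tL⟩ ^ 2 = 1 := orderOf_dvd_iff_pow_eq_one.1 (Nat.Coprime.dvd_of_dvd_mul_right
      (Nat.Coprime.of_dvd_left (orderOf_dvd_of_pow_eq_one e1) (Nat.Coprime.pow_left k (by decide : Nat.Coprime 2 15)))
      (orderOf_dvd_of_pow_eq_one e3))
    exact mem_subgroupOf.1 (hk ▸ show (⟨t, tL⟩ : L) ^ 2 ∈ φ.ker by rwa [MonoidHom.mem_ker, map_pow])
  · obtain ⟨P₀, hP₀⟩ := (h.two.comap_subtype (K := L)).exists_le_sylow
    have e1 : Nat.card ((P₀ : Subgroup L).map L.subtype) = 128 := by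
      rw [card_map_of_injective L.subtype_injective, P₀.card_eq_multiplicity, c2]
      decide +kernel
    obtain ⟨P, hP⟩ := (P₀.2.map L.subtype).exists_le_sylow
    obtain ⟨k, hk⟩ := P.2.exists_card_eq
    have e2 : Nat.card P ≤ 128 := by
      by_contra k1
      have k2 : 8 ≤ k := by
        by_contra k3
        have := Nat.pow_le_pow_right two_pos (show k ≤ 7 by omega)
        omega
      exact h.hd.two ((pow_dvd_pow 2 k2).trans (hk ▸ card_subgroup_dvd_card (P : Subgroup S)))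
    refine ⟨P, ?_⟩
    rw [← eq_of_le_of_card_ge hP (e1 ▸ e2)]
    exact ⟨fun q hq => ⟨⟨q, h.QL hq⟩, hP₀ hq, rfl⟩, map_subtype_le _⟩

end CfsgLib.A10S
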