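import Mathlib
import Cfsg.Agent.Lib.A10S.CNtv
import Cfsg.Agent.Lib.Sect.Tools

/-! E0: basic facts for `Q = E₃₂`.  See plans/A10S.md. -/

set_option autoImplicit false

namespace CfsgLib.A10S
open Cfsg Subgroup
open scoped commutatorElement

universe u

variable {S : Type u} [Group S] [Finite S] {Q L : Subgroup S}

namespace E0
open CfsgLib.Sect

omit [Finite S] in
theorem sq {A : Subgroup S} (el : IsElementaryAbelian 2 A) : ∀ a ∈ A, a * a = 1 := fun a ha =>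
  pow_two a ▸ el.2 a ha

omit [Finite S] in
theorem el_of {A : Subgroup S} (h : ∀ a ∈ A, a * a = 1) : IsElementaryAbelian 2 A :=
  ⟨⟨⟨fun a b => Subtype.ext (comm_of_sq h a.2 b.2)⟩⟩, fun a ha => (pow_two a).trans (h a ha)⟩

omit [Finite S] in
theorem el_cjg {A : Subgroup S} (el : IsElementaryAbelian 2 A) (g : S) : IsElementaryAbelian 2 (cjg g A) :=
  el_of fun a ha => by
    calc a * a = g * (g⁻¹ * a * g * (g⁻¹ * a * g)) * g⁻¹ := by group
      _ = 1 := by rw [sq el _ (mem_cjg.1 ha)]; group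

omit [Finite S] in
/-- `[q, t]` is a fixed point of `t` in `Q` -/
theorem cm_mem (el : IsElementaryAbelian 2 Q) {t : S} (ht : t ∈ normalizer (Q : Set S)) (t2 : t ^ 2 ∈ Q)
    {q : S} (hq : q ∈ Q) : q * t * q⁻¹ * t⁻¹ ∈ Q ⊓ centralizer ({t} : Set S) := by
  have h1 : t * q⁻¹ * t⁻¹ ∈ Q := (mem_normalizer_iff.1 ht _).1 (inv_mem hq)
  have h2 : q * t * q⁻¹ * t⁻¹ ∈ Q := by simpa only [mul_assoc] using mul_mem hq h1
  refine mem_inf.2 ⟨h2, mem_cent.2 ?_⟩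
  have e1 := eq_inv_of_mul_eq_one_left (sq el _ h2)
  have e2 := comm_of_sq (sq el) (pow_two t ▸ t2) (inv_mem hq)
  have e3 := comm_of_sq (sq el) hq h1
  calc q * t * q⁻¹ * t⁻¹ * t = (q * t * q⁻¹ * t⁻¹)⁻¹ * t := by rw [← e1]
    _ = t * q * t⁻¹ * t⁻¹ * (t * q⁻¹ * t⁻¹) * (t * t) := by group
    _ = t * q * t⁻¹ * t⁻¹ * (t * t) * (t * q⁻¹ * t⁻¹) := by
      rw [mul_assoc _ (t * q⁻¹ * t⁻¹), comm_of_sq (sq el) h1 (pow_two t ▸ t2), ← mul_assoc]
    _ = _ := by group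

/-- two 2-subgroups of `C` are conjugate in `C` into a common 2-subgroup -/
theorem common {C A B : Subgroup S} (hA : IsPGroup 2 A) (hB : IsPGroup 2 B) (AC : A ≤ C) (BC : B ≤ C) :
    ∃ c ∈ C, ∃ T : Subgroup S, IsPGroup 2 T ∧ A ≤ T ∧ ∀ b ∈ B, c * b * c⁻¹ ∈ T := by
  obtain ⟨P1, h1⟩ := (hA.comap_subtype (K := C)).exists_le_sylow
  obtain ⟨P2, h2⟩ := (hB.comap_subtype (K := C)).exists_le_sylow
  obtain ⟨c, rfl⟩ := MulAction.exists_smul_eq C P2 P1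
  refine ⟨c, c.2, _, (c • P2).isPGroup'.map C.subtype, fun a ha => ⟨⟨a, AC ha⟩, h1 ha, rfl⟩, fun b hb => ?_⟩
  exact ⟨c * ⟨b, BC hb⟩ * c⁻¹, ⟨⟨b, BC hb⟩, h2 hb, rfl⟩, rfl⟩

end E0

open E0 CfsgLib.Sect

theorem Loc.fix8 (h : Loc Q L) (h32 : Nat.card Q = 32) (el : IsElementaryAbelian 2 Q) {t : S}
    (ht : t ∈ normalizer (Q : Set S)) (tQ : t ∉ Q) (t2 : t ^ 2 ∈ Q) :
    Nat.card ↥(Q ⊓ centralizer ({t} : Set S)) = 8 := by
  have tL : t ∈ L := (h.of32 h32).2.1 (zpowers t) (IsPGroup.of_card_dvd_pow (n := 2) (by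
    rw [Nat.card_zpowers]
    exact orderOf_dvd_of_pow_eq_one (by rw [pow_two 2, pow_mul]; exact el.2 _ t2))) (zpowers_le.2 ht) (mem_zpowers t)
  have h1 := h.ntv (Z := ⊥) (by simp) bot_le (by rw [normalizer_eq_top]; exact le_top)
    (fun a ha b hb => commutatorElement_eq_one_iff_mul_comm.2 (comm_of_sq (sq el) ha hb)) tL tQ t2
    (B := Q ⊓ centralizer ({t} : Set S)) bot_le inf_le_left
    fun q hq => commutatorElement_eq_one_iff_mul_comm.2 (mem_cent.1 hq.2)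
  have h2 := card_eq_relIndex' (inf_le_left : Q ⊓ centralizer ({t} : Set S) ≤ Q)
  have h3 := comm_bound (A := Q) (K := Q ⊓ centralizer ({t} : Set S)) (fun a ha => (mem_normalizer_iff.1 ht a).1 ha)
    fun a ha => cm_mem el ht t2 ha
  rw [inf_comm (centralizer _)] at h3
  have h4 := Nat.mul_le_mul_left (Nat.card ↥(Q ⊓ centralizer ({t} : Set S))) h1
  by_contra hn
  have h5 := card_le_pow (h.two.to_le (inf_le_left : Q ⊓ centralizer ({t} : Set S) ≤ Q)) 2 (by omega)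
  have := Nat.mul_le_mul h5 (h3.trans h5)
  omega

theorem Loc.uq (h : Loc Q L) (h32 : Nat.card Q = 32) (el : IsElementaryAbelian 2 Q) (P : Sylow 2 S)
    (QP : Q ≤ P) (PL : (P : Subgroup S) ≤ L) {A : Subgroup S} (AP : A ≤ P) (elA : IsElementaryAbelian 2 A)
    (c32 : 32 ≤ Nat.card A) : A = Q := by
  by_cases AQ : A ≤ Q
  · exact eq_of_le_of_card_ge AQ (h32.trans_le c32)
  exfalso
  have cP : Nat.card P ≤ 128 := card_le_pow P.isPGroup' 7 (by
    by_contra hn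
    obtain ⟨k, hk⟩ := IsPGroup.iff_card.1 P.isPGroup'
    refine h.hd.two (dvd_trans ?_ (card_subgroup_dvd_card (P : Subgroup S)))
    rw [hk] at hn ⊢
    exact pow_dvd_pow 2 (show 8 ≤ k from (Nat.pow_le_pow_iff_right (by norm_num)).1 (not_lt.1 hn)))
  have f8 : ∀ a ∈ A, a ∉ Q → Nat.card ↥(Q ⊓ centralizer ({a} : Set S)) = 8 := fun a ha aQ =>
    h.fix8 h32 el (h.le (PL (AP ha))) aQ (by rw [elA.2 a ha]; exact one_mem _)
  have le : ∀ a ∈ A, Q ⊓ A ≤ Q ⊓ centralizer ({a} : Set S) := fun a ha w hw =>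
    mem_inf.2 ⟨hw.1, mem_cent.2 (comm_of_sq (sq elA) hw.2 ha)⟩
  obtain ⟨t, ht, tQ⟩ := SetLike.not_le_iff_exists.1 AQ
  have h1 := (card_le_of_le (le t ht)).trans (f8 t ht tQ).le
  have h2 := card_mul_le AP QP
  have h3 := Nat.mul_le_mul_left (Nat.card ↥(Q ⊓ A)) cP
  rw [h32] at h2
  have h4 : Nat.card ↥(Q ⊓ A) = 8 := by omega
  have dec : ∀ b ∈ (P : Subgroup S), ∃ y ∈ A, ∃ q ∈ Q, b = y * q := fun b hb => by
    have e1 := card_eq_relIndex Q A
    have e2 := card_eq_relIndex' QP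
    rw [h4] at e1
    rw [h32] at e2
    obtain ⟨y, hy, e⟩ := cover_of_le (K := Q) AP (by omega) hb
    exact ⟨y, hy, _, e, by group⟩
  have s2 : ∀ b ∈ (P : Subgroup S), b * b ∈ Q ⊓ A := fun b hb => by
    obtain ⟨y, hy, q, hq, rfl⟩ := dec b hb
    have e : y * q * (y * q) = (q * y * q⁻¹ * y⁻¹)⁻¹ := by
      rw [← eq_inv_of_mul_eq_one_left (sq el q hq), ← eq_inv_of_mul_eq_one_left (sq elA y hy)]
      simp only [mul_inv_rev, ← eq_inv_of_mul_eq_one_left (sq el q hq), ← eq_inv_of_mul_eq_one_left (sq elA y hy),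
        mul_assoc]
    rw [e]
    refine inv_mem ?_
    by_cases yQ : y ∈ Q
    · rw [comm_of_sq (sq el) hq yQ, mul_inv_cancel_right, mul_inv_cancel]
      exact one_mem _
    · exact eq_of_card_lt (le y hy) (by rw [f8 y hy yQ, h4]; norm_num)
        (cm_mem el (h.le (PL (AP hy))) (by rw [elA.2 y hy]; exact one_mem _) hq)
  obtain ⟨a, ha, b, hb, c, hc, e⟩ := h.hd.cls P
  obtain ⟨y, hy, q, hq, rfl⟩ := dec c hc
  have hw : ⁅a, b⁆ ∈ Q ⊓ A := comm_mem s2 ha hb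
  refine e (commutatorElement_eq_one_iff_mul_comm.2 ?_)
  rw [← mul_assoc, comm_of_sq (sq elA) hw.2 hy, mul_assoc, comm_of_sq (sq el) hw.1 hq, mul_assoc]

/-- `Q` is the only `E₃₂` in a 2-subgroup that contains it, and it is normal there -/
theorem Loc.uniq (h : Loc Q L) (h32 : Nat.card Q = 32) (el : IsElementaryAbelian 2 Q) {T : Subgroup S}
    (hT : IsPGroup 2 T) (QT : Q ≤ T) : T ≤ normalizer (Q : Set S) ∧
      ∀ A : Subgroup S, A ≤ T → IsElementaryAbelian 2 A → 32 ≤ Nat.card A → A = Q := by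
  obtain ⟨P, QP, PL⟩ := (h.of32 h32).2.2.2
  obtain ⟨c, -, T', hT', h1, h2⟩ := common P.isPGroup' hT le_top le_top
  rw [P.is_maximal' hT' h1] at h2
  have k : ∀ A : Subgroup S, A ≤ T → IsElementaryAbelian 2 A → 32 ≤ Nat.card A → cjg c A = Q := fun A AT elA c32 =>
    h.uq h32 el P QP PL (by rintro _ ⟨a, ha, rfl⟩; exact h2 a (AT ha)) (el_cjg elA c) (by rwa [card_cjg])
  have k' : ∀ A : Subgroup S, A ≤ T → IsElementaryAbelian 2 A → 32 ≤ Nat.card A → A = Q := fun A AT elA c32 =>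
    map_injective (MulAut.conj c).injective ((k A AT elA c32).trans (k Q QT el h32.ge).symm)
  refine ⟨fun x hx => mem_normalizer_fintype fun q hq => ?_, k'⟩
  refine (k' (cjg x Q) ?_ (el_cjg el x) (by rw [card_cjg, h32])).le ⟨q, hq, rfl⟩
  rintro _ ⟨a, ha, rfl⟩
  exact mul_mem (mul_mem hx (QT ha)) (inv_mem hx)

/-- `N(Q)` controls fusion in `Q` -/
theorem Loc.fus (h : Loc Q L) (h32 : Nat.card Q = 32) (el : IsElementaryAbelian 2 Q) {a g : S} (ha : a ∈ Q)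
    (hg : g * a * g⁻¹ ∈ Q) : ∃ n ∈ normalizer (Q : Set S), g * a * g⁻¹ = n * a * n⁻¹ := by
  obtain ⟨c, hc, T, hT, h1, h2⟩ := common (C := centralizer {g * a * g⁻¹}) (B := cjg g Q) h.two (h.two.map _)
    (fun q hq => mem_cent.2 (comm_of_sq (sq el) hq hg))
    fun q hq => mem_cent.2 (comm_of_sq (sq (el_cjg el g)) hq ⟨a, ha, rfl⟩)
  refine ⟨c * g, mem_normalizer_fintype fun q hq => ?_, ?_⟩
  · refine ((h.uniq h32 el hT h1).2 (cjg (c * g) Q) ?_ (el_cjg el _) (by rw [card_cjg, h32])).le ⟨q, hq, rfl⟩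
    rintro _ ⟨a, ha, rfl⟩
    have := h2 (g * a * g⁻¹) ⟨a, ha, rfl⟩
    convert this using 1
    simp [mul_assoc]
  · calc g * a * g⁻¹ = c * (g * a * g⁻¹) * c⁻¹ := by rw [mem_cent.1 hc, mul_inv_cancel_right]
      _ = _ := by group

end CfsgLib.A10S
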