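import Mathlib
import Cfsg.Agent.Lib.A10S.CE0
import Cfsg.Agent.Lib.LAE.CharP
import Cfsg.Agent.Lib.Core.Basic
import Cfsg.Agent.Lib.ZStar.Main

/-! EA: `Q = E₃₂` with a fixed point.  See plans/A10S.md. -/

set_option autoImplicit false
set_option linter.unusedSectionVars false

namespace CfsgLib.A10S
open Cfsg Subgroup
open scoped commutatorElement

universe u

variable {S : Type u} [Group S] [Finite S] {Q L : Subgroup S}

theorem ea_zp {v : S} (v1 : v ≠ 1) (v2 : v * v = 1) : Nat.card (zpowers v) = 2 := by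
  rw [Nat.card_zpowers]; exact orderOf_eq_prime (by rwa [sq]) v1

theorem ea_mem_zp {v w : S} (v2 : v * v = 1) (h : w ∈ zpowers v) : w = 1 ∨ w = v := by
  refine closure_induction (p := fun w _ => w = 1 ∨ w = v) (fun x hx => Or.inr hx) (Or.inl rfl) ?_ ?_
    (zpowers_eq_closure v ▸ h)
  · rintro _ _ - - (rfl | rfl) (rfl | rfl) <;> simp [v2]
  · rintro _ - (rfl | rfl)
    exacts [Or.inl inv_one, Or.inr (inv_eq_of_mul_eq_one_right v2)]

/-- the largest normal 2-subgroup of an involution centralizer -/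
theorem ea_R (c2 : IsCharacteristicTwoType S) {v : S} (v1 : v ≠ 1) (v2 : v * v = 1) :
    ∃ R : Subgroup S, IsPGroup 2 R ∧ (∀ g, g * v = v * g → g ∈ normalizer (R : Set S)) ∧
      ∀ g, g * v = v * g → (∀ r ∈ R, r * g = g * r) → g ∈ R := by
  have h1 : ∀ g, g * v = v * g → g ∈ normalizer (zpowers v : Set S) := fun g hg =>
    mem_normalizer_fintype fun n hn => by
      rcases ea_mem_zp v2 hn with rfl | rfl
      · simp
      · rw [hg, mul_inv_cancel_right]; exact mem_zpowers _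
  have hc : LAE.IsCharP 2 (normalizer (zpowers v : Set S)) := LAE.isCharP_iff.2
    (c2.2 _ (IsPGroup.of_card (n := 1) (by rw [ea_zp v1 v2, pow_one])) (by rwa [Ne, zpowers_eq_bot]))
  have h2 : ∀ g ∈ normalizer (zpowers v : Set S), g * v = v * g := fun g hg => by
    rcases ea_mem_zp v2 ((mem_normalizer_iff.1 hg v).1 (mem_zpowers v)) with e | e
    · exact absurd (by simpa using e) v1
    · exact mul_inv_eq_iff_eq_mul.1 e
  exact ⟨_, LAE.isPGroup_pCoreOf _, fun g hg => LAE.le_normalizer_pCoreOf _ (h1 g hg),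
    fun g hg h => hc ⟨h1 g hg, h⟩⟩

theorem ea_two {W A : Subgroup S} (h : W ≤ A) (h4 : Nat.card W = 4) (h8 : Nat.card A = 8) {a b : S} (ha : a ∈ A)
    (hb : b ∈ A) (h1 : a ∉ W) (h2 : b ∉ W) : a * b ∈ W := by
  have h3 := (W.subgroupOf A).card_mul_index
  rw [Nat.card_congr (subgroupOfEquivOfLe h).toEquiv, h4, h8] at h3
  exact (mul_mem_iff_of_index_two (H := W.subgroupOf A) (by omega) (a := ⟨a, ha⟩) (b := ⟨b, hb⟩)).2
    (iff_of_false h1 h2)

/-- the properties of `Q` and `c` that are needed for both conjugates -/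
structure EA (Q : Subgroup S) (c : S) : Prop where
  two : IsPGroup 2 Q
  comm : ∀ a ∈ Q, ∀ b ∈ Q, a * b = b * a
  sq : ∀ a ∈ Q, a * a = 1
  card : Nat.card Q = 32
  hc : c ∈ Q
  cen : ∀ g, g ∈ normalizer (Q : Set S) ↔ g * c = c * g
  fus : ∀ g, g * c * g⁻¹ ∈ Q → g * c * g⁻¹ = c
  nrm : ∀ T : Subgroup S, IsPGroup 2 T → Q ≤ T → T ≤ normalizer (Q : Set S)
  fix : ∀ t ∈ normalizer (Q : Set S), t ∉ Q → t * t = 1 → Nat.card ↥(Q ⊓ centralizer ({t} : Set S)) = 8 ∧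
    ∀ a ∈ Q ⊓ centralizer ({t} : Set S), ∃ q ∈ Q, a = ⁅q, t⁆ ∨ a = c * ⁅q, t⁆

theorem EA.map {c : S} (h : EA Q c) (f : S ≃* S) : EA (Q.map f) (f c) := by
  have hN : ∀ g, f g ∈ normalizer ((Q.map f : Subgroup S) : Set S) ↔ g ∈ normalizer (Q : Set S) := fun g => by
    rw [show normalizer ((Q.map f : Subgroup S) : Set S) = _ from (map_equiv_normalizer_eq Q f).symm]
    exact mem_map_iff_mem f.injective
  have hQ : ∀ g, f g ∈ Q.map f ↔ g ∈ Q := fun g => mem_map_iff_mem f.injective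
  refine ⟨h.two.map _, ?_, ?_, (card_map_of_injective f.injective).trans h.card, (hQ c).2 h.hc, fun g => ?_,
    fun g => ?_, fun T hT hle g hg => ?_, fun t => ?_⟩
  · rintro _ ⟨a, ha, rfl⟩ _ ⟨b, hb, rfl⟩
    rw [← map_mul, h.comm a ha b hb, map_mul]
  · rintro _ ⟨a, ha, rfl⟩
    rw [← map_mul, h.sq a ha, map_one]
  · obtain ⟨g, rfl⟩ := f.surjective g
    rw [hN, h.cen, ← map_mul, ← map_mul, f.injective.eq_iff]
  · obtain ⟨g, rfl⟩ := f.surjective g
    rw [← map_inv, ← map_mul, ← map_mul, hQ, f.injective.eq_iff]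
    exact h.fus g
  · obtain ⟨g, rfl⟩ := f.surjective g
    exact (hN g).2 (h.nrm (T.comap (f : S →* S)) (hT.comap_of_injective _ f.injective) (fun q hq => hle ((hQ q).2 hq)) hg)
  · obtain ⟨t, rfl⟩ := f.surjective t
    intro h1 h2 h3
    obtain ⟨h4, h5⟩ := h.fix t ((hN t).1 h1) (mt (hQ t).2 h2) (f.injective (by rw [map_mul, h3, map_one]))
    have e : Q.map f ⊓ centralizer ({f t} : Set S) = (Q ⊓ centralizer ({t} : Set S)).map f := by
      ext a
      obtain ⟨a, rfl⟩ := f.surjective a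
      rw [mem_inf, hQ, show f a ∈ (Q ⊓ centralizer ({t} : Set S)).map f ↔ _ from mem_map_iff_mem f.injective,
        mem_inf, mem_centralizer_singleton_iff, mem_centralizer_singleton_iff, ← map_mul, ← map_mul,
        f.injective.eq_iff]
    rw [e]
    refine ⟨(card_map_of_injective f.injective).trans h4, ?_⟩
    rintro _ ⟨a, ha, rfl⟩
    obtain ⟨q, hq, k⟩ := h5 a ha
    refine ⟨f q, (hQ q).2 hq, k.imp ?_ ?_⟩ <;> rintro rfl <;> simp [map_commutatorElement]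

theorem ea_cm (comm : ∀ a ∈ Q, ∀ b ∈ Q, a * b = b * a) {t : S} (ht : t ∈ normalizer (Q : Set S)) {a b : S}
    (ha : a ∈ Q) (hb : b ∈ Q) : ⁅a, t⁆ ∈ Q ∧ ⁅a * b, t⁆ = ⁅a, t⁆ * ⁅b, t⁆ := by
  have k : ∀ a ∈ Q, ⁅a, t⁆ ∈ Q := fun a ha => by
    rw [commutatorElement_def, mul_assoc, mul_assoc, ← mul_assoc t]
    exact mul_mem ha ((mem_normalizer_iff.1 ht _).1 (inv_mem ha))
  refine ⟨k a ha, ?_⟩
  calc ⁅a * b, t⁆ = a * ⁅b, t⁆ * a⁻¹ * ⁅a, t⁆ := by simp only [commutatorElement_def]; group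
    _ = _ := by rw [comm a ha _ (k b hb), mul_inv_cancel_right, comm _ (k b hb) _ (k a ha)]

theorem ea_fx (sq : ∀ a ∈ Q, a * a = 1) (comm : ∀ a ∈ Q, ∀ b ∈ Q, a * b = b * a) {t : S}
    (ht : t ∈ normalizer (Q : Set S)) (t2 : t * t = 1) {a : S} (ha : a ∈ Q) :
    ⁅a, t⁆ ∈ Q ⊓ centralizer ({t} : Set S) := by
  have h1 := (ea_cm comm ht ha ha).1
  refine mem_inf.2 ⟨h1, mem_centralizer_singleton_iff.2 ?_⟩
  have h2 : t⁻¹ = t := inv_eq_of_mul_eq_one_right t2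
  have h3 : t * ⁅a, t⁆ * t⁻¹ = ⁅a, t⁆⁻¹ := by
    rw [commutatorElement_inv, commutatorElement_def, commutatorElement_def, h2]
    calc _ = t * a * t * a⁻¹ * (t * t) := by simp only [mul_assoc]
      _ = _ := by rw [t2, mul_one]
  rw [inv_eq_of_mul_eq_one_right (sq _ h1)] at h3
  exact (mul_inv_eq_iff_eq_mul.1 h3).symm

theorem Loc.ea (h : Loc Q L) (h32 : Nat.card Q = 32) (el : IsElementaryAbelian 2 Q) {c : S} (hc : c ∈ Q)
    (c1 : c ≠ 1) (cL : L ≤ centralizer ({c} : Set S)) : EA Q c := by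
  have comm : ∀ a ∈ Q, ∀ b ∈ Q, a * b = b * a := fun a ha b hb =>
    congrArg Subtype.val (el.1.is_comm.comm (⟨a, ha⟩ : Q) ⟨b, hb⟩)
  have sq : ∀ a ∈ Q, a * a = 1 := fun a ha => by rw [← pow_two]; exact el.2 a ha
  obtain ⟨⟨φ, hφ, -⟩, o2, -⟩ := h.of32 h32
  have n1 : ∀ g ∈ normalizer (Q : Set S), g * c = c * g := fun g hg => by
    have := Fact.mk Nat.prime_five
    obtain ⟨x, hx⟩ := exists_prime_orderOf_dvd_card' (G := L) 5 (dvd_trans (by
      rw [nat_card_alternatingGroup]; simp; decide) (card_dvd_of_surjective φ hφ))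
    have h1 := h.five x.2 ((orderOf_coe x).trans hx) (Z := ⊥) (B := Q ⊓ centralizer (L : Set S)) (by simp) bot_le
      inf_le_left fun q hq => mem_bot.2 (commutatorElement_eq_one_iff_mul_comm.2 (hq.2 _ x.2).symm)
    have h2 := Core.card_mul_relIndex_of_le (inf_le_left : Q ⊓ centralizer (L : Set S) ≤ Q)
    have h3 : zpowers c = Q ⊓ centralizer (L : Set S) := eq_of_le_of_card_ge
      (zpowers_le.2 (mem_inf.2 ⟨hc, fun l hl => mem_centralizer_singleton_iff.1 (cL hl)⟩))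
      (by rw [ea_zp c1 (sq c hc)]; nlinarith)
    rcases ea_mem_zp (sq c hc) (w := g * c * g⁻¹) (h3 ▸ mem_inf.2 ⟨(mem_normalizer_iff.1 hg c).1 hc, fun l hl => by
      have := mem_centralizer_singleton_iff.1 (cL ((mem_normalizer_iff''.1 (h.nrm hg) l).1 hl))
      calc l * (g * c * g⁻¹) = g * (g⁻¹ * l * g * c) * g⁻¹ := by group
        _ = _ := by rw [this]; group⟩) with e | e
    · exact absurd (by simpa using e) c1
    · exact mul_inv_eq_iff_eq_mul.1 e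
  refine ⟨h.two, comm, sq, h32, hc, fun g => ⟨n1 g, fun hg => ?_⟩, fun g hg => ?_,
    fun T hT hle => (h.uniq h32 el hT hle).1, fun t ht tQ t2 => ?_⟩
  · obtain ⟨R, r1, r2, r3⟩ := ea_R h.c2 c1 (sq c hc)
    have h1 : R ≤ Q := h.core R r1 (le_sup_right.trans (h.uniq h32 el (h.two.to_sup_of_normal_right' r1
      fun q hq => r2 q (comm q hq c hc)) le_sup_left).1) fun g hg => r2 g (n1 g hg)
    rw [le_antisymm (fun q hq => r3 q (comm q hq c hc) fun r hr => comm r (h1 hr) q hq) h1]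
    exact r2 g hg
  · obtain ⟨n, hn, e⟩ := h.fus h32 el hc hg
    rw [e, n1 n hn, mul_inv_cancel_right]
  have t2' : t ^ 2 ∈ Q := by rw [pow_two, t2]; exact one_mem _
  have h8 := h.fix8 h32 el ht tQ t2'
  refine ⟨h8, fun a ha => ?_⟩
  let ψ : Q →* S := MonoidHom.mk' (fun q => ⁅(q : S), t⁆) fun a b => (ea_cm comm ht a.2 b.2).2
  have k1 : ψ.ker = (Q ⊓ centralizer ({t} : Set S)).subgroupOf Q := by
    ext q
    rw [MonoidHom.mem_ker, mem_subgroupOf, mem_inf, mem_centralizer_singleton_iff, and_iff_right q.2]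
    exact commutatorElement_eq_one_iff_mul_comm
  have k2 := ψ.ker.card_mul_index
  rw [index_ker, k1, Nat.card_congr (subgroupOfEquivOfLe inf_le_left).toEquiv, h8, h32] at k2
  have k3 : c ∉ ψ.range := by
    rintro ⟨q, hq⟩
    have t1 : t ≠ 1 := fun e => tQ (e ▸ one_mem _)
    have k4 := h.ntv (Z := zpowers c) (ea_zp c1 (sq c hc)).le (zpowers_le.2 hc)
      (fun l hl => mem_normalizer_fintype fun n hn => by
        rcases ea_mem_zp (sq c hc) hn with rfl | rfl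
        · simp
        · rw [n1 l (h.le hl), mul_inv_cancel_right]; exact mem_zpowers _)
      (fun a ha b hb => by rw [commutatorElement_eq_one_iff_mul_comm.2 (comm a ha b hb)]; exact one_mem _)
      (o2 (zpowers t) (IsPGroup.of_card (n := 1) (by rw [ea_zp t1 t2, pow_one])) (zpowers_le.2 ht) (mem_zpowers t))
      tQ t2' (B := ((zpowers c).comap ψ).map Q.subtype)
      (zpowers_le.2 ⟨⟨c, hc⟩, by
        show ⁅c, t⁆ ∈ zpowers c
        rw [commutatorElement_eq_one_iff_mul_comm.2 (n1 t ht).symm]; exact one_mem _, rfl⟩)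
      (map_subtype_le _) (by rintro _ ⟨q, hq, rfl⟩; exact hq)
    have k5 := Core.card_mul_relIndex_of_le (map_subtype_le ((zpowers c).comap ψ))
    have k6 : Q ⊓ centralizer ({t} : Set S) = ((zpowers c).comap ψ).map Q.subtype := eq_of_le_of_card_ge
      (fun b hb => ⟨⟨b, hb.1⟩, by
        show ⁅b, t⁆ ∈ zpowers c
        rw [commutatorElement_eq_one_iff_mul_comm.2 (mem_centralizer_singleton_iff.1 hb.2)]; exact one_mem _, rfl⟩)
      (by rw [h8]; nlinarith)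
    have k7 : (q : S) ∈ Q ⊓ centralizer ({t} : Set S) := k6 ▸ ⟨q, by
      show ψ q ∈ zpowers c
      rw [hq]; exact mem_zpowers c, rfl⟩
    exact c1 (hq.symm.trans (commutatorElement_eq_one_iff_mul_comm.2 (mem_centralizer_singleton_iff.1 k7.2)))
  by_cases k8 : a ∈ ψ.range
  · obtain ⟨q, e⟩ := k8
    exact ⟨q, q.2, Or.inl e.symm⟩
  obtain ⟨q, e⟩ := ea_two (W := ψ.range) (by rintro _ ⟨q, rfl⟩; exact ea_fx sq comm ht t2 q.2) (by omega) h8
    (mem_inf.2 ⟨hc, mem_centralizer_singleton_iff.2 (n1 t ht).symm⟩) ha k3 k8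
  exact ⟨q, q.2, Or.inr (by rw [show ⁅(q : S), t⁆ = c * a from e, ← mul_assoc, sq c hc, one_mul])⟩

/-- the elements of order at most 2 in the centre of `R` -/
def eaZ (R : Subgroup S) : Subgroup S where
  carrier := {z | z ∈ R ∧ (∀ r ∈ R, r * z = z * r) ∧ z * z = 1}
  one_mem' := ⟨one_mem _, by simp, mul_one _⟩
  mul_mem' := fun {a b} ⟨a1, a2, a3⟩ ⟨b1, b2, b3⟩ => ⟨mul_mem a1 b1,
    fun r hr => by rw [← mul_assoc, a2 r hr, mul_assoc, b2 r hr, mul_assoc],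
    by rw [mul_assoc, ← mul_assoc b, a2 b b1, mul_assoc, b3, mul_one, a3]⟩
  inv_mem' := fun {a} ⟨a1, a2, a3⟩ => by rw [inv_eq_of_mul_eq_one_right a3]; exact ⟨a1, a2, a3⟩

theorem eaZ_cj {R : Subgroup S} {g z : S} (hg : g ∈ normalizer (R : Set S)) (hz : z ∈ eaZ R) :
    g * z * g⁻¹ ∈ eaZ R := by
  refine ⟨(mem_normalizer_iff.1 hg z).1 hz.1, fun r hr => ?_, by rw [conj_mul, hz.2.2, mul_one, mul_inv_cancel]⟩
  have := hz.2.1 _ ((mem_normalizer_iff''.1 hg r).1 hr)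
  calc _ = g * (g⁻¹ * r * g * z) * g⁻¹ := by group
    _ = _ := by rw [this]; group

/-- the stabilizer of the chain `1 < W < A < A⟨d⟩` -/
def eaK {W A : Subgroup S} {c : S} (d : S) (hW : W ≤ A) (hc : c ∈ A) (hA : ∀ a ∈ A, a ∈ W ∨ ∃ w ∈ W, a = c * w) :
    Submonoid S where
  carrier := {k | (∀ w ∈ W, k * w * k⁻¹ = w) ∧ (∃ w ∈ W, k * c * k⁻¹ = c * w) ∧ ∃ a ∈ A, k * d * k⁻¹ = d * a}
  one_mem' := ⟨by simp, ⟨1, one_mem _, by simp⟩, 1, one_mem _, by simp⟩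
  mul_mem' := fun {k l} ⟨k1, ⟨w, hw, k2⟩, a, ha, k3⟩ ⟨l1, ⟨w', hw', l2⟩, a', ha', l3⟩ => by
    have e : ∀ x, k * l * x * (k * l)⁻¹ = k * (l * x * l⁻¹) * k⁻¹ := fun x => by group
    refine ⟨fun x hx => by rw [e, l1 x hx, k1 x hx], ⟨_, mul_mem hw hw', by
      rw [e, l2, ← conj_mul, k2, k1 w' hw', mul_assoc]⟩, a * (k * a' * k⁻¹), mul_mem ha ?_, by
      rw [e, l3, ← conj_mul, k3, mul_assoc]⟩
    rcases hA a' ha' with h | ⟨x, hx, rfl⟩
    · rw [k1 a' h]; exact ha'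
    · rw [← conj_mul, k2, k1 x hx]; exact mul_mem (mul_mem hc (hW hw)) (hW hx)

theorem Loc.e32a (h : Loc Q L) (h32 : Nat.card Q = 32) (el : IsElementaryAbelian 2 Q) {c : S} (hc : c ∈ Q)
    (c1 : c ≠ 1) (cL : L ≤ centralizer ({c} : Set S)) : False := by
  have e1 := h.ea h32 el hc c1 cL
  have := h.hd.simple
  have hZ := ZStar.not_isolated_of_simple h.hd.na c
  rw [IsIsolatedInvolution, not_and, not_forall] at hZ
  obtain ⟨g, hg⟩ := hZ (orderOf_eq_prime (by rw [pow_two, e1.sq c hc]) c1)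
  obtain ⟨cd, ne⟩ := Classical.not_imp.1 hg
  have e2 := e1.map (MulAut.conj g)
  rw [MulAut.conj_apply] at e2
  have dc : ∃ g', c = g' * (g * c * g⁻¹) * g'⁻¹ := ⟨g⁻¹, by group⟩
  have dQ : g * c * g⁻¹ ∉ Q := fun e => ne (e1.fus g e)
  generalize g * c * g⁻¹ = d at *
  obtain ⟨Q', e2⟩ : ∃ Q', EA Q' d := ⟨_, e2⟩
  obtain ⟨g', hg'⟩ := dc
  have cQ : c ∉ Q' := fun e => ne (e2.fus g' (hg' ▸ e) ▸ hg'.symm ▸ rfl)
  have dN := (e1.cen d).2 cd.eq.symm
  have cN := (e2.cen c).2 cd.eq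
  obtain ⟨a8, a1⟩ := e1.fix d dN dQ (e2.sq d e2.hc)
  obtain ⟨b8, b1⟩ := e2.fix c cN cQ (e1.sq c hc)
  set A := Q ⊓ centralizer ({d} : Set S) with hA
  set B := Q' ⊓ centralizer ({c} : Set S) with hB
  have cA : c ∈ A := mem_inf.2 ⟨hc, mem_centralizer_singleton_iff.2 cd.eq⟩
  have AN : A ≤ normalizer (Q' : Set S) := fun a ha => (e2.cen a).2 (mem_centralizer_singleton_iff.1 ha.2)
  obtain ⟨⟨v, hv⟩, v1⟩ := (ne_bot_iff_exists_ne_one (H := A ⊓ Q')).1 fun e => h.hd.two (by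
    have k := Core.card_sup_mul_card_inf_of_le_normalizer AN
    rw [e, card_bot, mul_one, a8, e2.card] at k
    exact (k ▸ card_subgroup_dvd_card (A ⊔ Q') :))
  have v1 : v ≠ 1 := fun e => v1 (Subtype.ext e)
  obtain ⟨R, r1, r2, r3⟩ := ea_R h.c2 v1 (e2.sq v hv.2)
  have q1 : Q ≤ normalizer (R : Set S) := fun q hq => r2 q (e1.comm q hq v hv.1.1)
  have q2 : Q' ≤ normalizer (R : Set S) := fun q hq => r2 q (e2.comm q hq v hv.2)
  have p1 := e1.two.to_sup_of_normal_right' r1 q1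
  have z1 : ∀ r ∈ R, r * c = c * r := fun r hr => (e1.cen r).1 (e1.nrm _ p1 le_sup_left (mem_sup_right hr))
  have z2 : ∀ r ∈ R, r * d = d * r := fun r hr =>
    (e2.cen r).1 (e2.nrm _ (e2.two.to_sup_of_normal_right' r1 q2) le_sup_left (mem_sup_right hr))
  have cZ : c ∈ eaZ R := ⟨r3 c (e1.comm c hc v hv.1.1) z1, z1, e1.sq c hc⟩
  have dZ : d ∈ eaZ R := ⟨r3 d (e2.comm d e2.hc v hv.2) z2, z2, e2.sq d e2.hc⟩
  have AZ : A ≤ eaZ R := fun a ha => by
    obtain ⟨q, hq, k⟩ := a1 a ha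
    have : ⁅q, d⁆ ∈ eaZ R := mul_mem (eaZ_cj (q1 hq) dZ) (inv_mem dZ)
    rcases k with rfl | rfl
    exacts [this, mul_mem cZ this]
  have BZ : B ≤ eaZ R := fun a ha => by
    obtain ⟨q, hq, k⟩ := b1 a ha
    have : ⁅q, c⁆ ∈ eaZ R := mul_mem (eaZ_cj (q2 hq) cZ) (inv_mem cZ)
    rcases k with rfl | rfl
    exacts [this, mul_mem dZ this]
  have w4 : Nat.card ↥(A ⊓ B) = 4 := by
    have k1 : Nat.card (eaZ R) < 32 := lt_of_not_ge fun k => dQ ((h.uniq h32 el p1 le_sup_left).2 (eaZ R)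
      (fun z hz => mem_sup_right hz.1) ⟨⟨⟨fun a b => Subtype.ext (b.2.2.1 _ a.2.1)⟩⟩,
        fun a ha => by rw [pow_two]; exact ha.2.2⟩ k ▸ dZ)
    have k2 := card_le_of_le (sup_le AZ BZ)
    have k3 := Core.card_sup_mul_card_inf_of_le_normalizer (H := A) (N := B) fun a ha =>
      mem_normalizer_fintype fun b hb => by rw [(BZ hb).2.1 a (AZ ha).1, mul_inv_cancel_right]; exact hb
    have k4 := card_dvd_of_le (inf_le_left : A ⊓ B ≤ A)
    have k5 : Nat.card ↥(A ⊓ B) ≠ 8 := fun e =>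
      cQ ((eq_of_le_of_card_ge (inf_le_left : A ⊓ B ≤ A) (by omega)).ge cA).2.1
    rw [a8, b8] at k3
    rw [a8] at k4
    have := Nat.le_of_dvd (by norm_num) k4
    generalize Nat.card ↥(A ⊓ B) = n at *
    interval_cases n <;> omega
  have hA2 : ∀ a ∈ A, a ∈ A ⊓ B ∨ ∃ w ∈ A ⊓ B, a = c * w := fun a ha => (em _).imp_right fun k =>
    ⟨c * a, ea_two inf_le_left w4 a8 cA ha (fun e => cQ e.2.1) k, by rw [← mul_assoc, e1.sq c hc, one_mul]⟩
  let K : Subgroup S := { eaK d inf_le_left cA hA2 with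
    inv_mem' := fun {k} hk => (Submonoid.powers_le.2 hk :) (mem_powers_iff_mem_zpowers.2 (inv_mem (mem_zpowers k))) }
  have QK : Q ≤ K := fun q hq => ⟨fun w hw => by rw [e1.comm q hq w hw.1.1, mul_inv_cancel_right],
    ⟨1, one_mem _, by rw [e1.comm q hq c hc, mul_inv_cancel_right, mul_one]⟩, ⁅q, d⁆,
    ea_fx e1.sq e1.comm dN (e2.sq d e2.hc) hq, by
      rw [← mem_centralizer_singleton_iff.1 (ea_fx e1.sq e1.comm dN (e2.sq d e2.hc) hq).2, commutatorElement_def,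
        inv_mul_cancel_right]⟩
  have K2 : IsPGroup 2 K := fun ⟨k, k1, ⟨w, hw, k2⟩, a, ha, k3⟩ => ⟨4, Subtype.ext (by
    have e : ∀ k x : S, k * k * x * (k * k)⁻¹ = k * (k * x * k⁻¹) * k⁻¹ := fun k x => by group
    have m1 : k * k * c * (k * k)⁻¹ = c := by
      rw [e, k2, ← conj_mul, k2, k1 w hw, mul_assoc, e1.sq w hw.1.1, mul_one]
    have m2 : ∀ w ∈ A ⊓ B, k * k * w * (k * k)⁻¹ = w := fun w hw => by rw [e, k1 w hw, k1 w hw]
    have m3 : ∃ w' ∈ A ⊓ B, k * k * d * (k * k)⁻¹ = d * w' := by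
      rcases hA2 a ha with k4 | ⟨x, hx, rfl⟩
      · exact ⟨_, mul_mem k4 k4, by rw [e, k3, ← conj_mul, k3, k1 a k4, mul_assoc]⟩
      · refine ⟨w, hw, ?_⟩
        rw [e, k3, ← conj_mul, k3, ← conj_mul, k2, k1 x hx, mul_assoc c w, e1.comm w hw.1.1 x hx.1.1,
          ← mul_assoc c, mul_assoc d, ← mul_assoc (c * x), e1.sq _ ha.1, one_mul]
    obtain ⟨w', hw', m3⟩ := m3
    have m4 : k * k * (k * k) * d * (k * k * (k * k))⁻¹ = d := by
      rw [e, m3, ← conj_mul, m3, m2 w' hw', mul_assoc, e1.sq w' hw'.1.1, mul_one]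
    have m5 : ∀ a ∈ A, k * k * (k * k) * a * (k * k * (k * k))⁻¹ = a := fun a ha => by
      rcases hA2 a ha with k4 | ⟨x, hx, rfl⟩
      · rw [e, m2 a k4, m2 a k4]
      · have m6 : k * k * (c * x) * (k * k)⁻¹ = c * x := by rw [← conj_mul (a := c), m1, m2 x hx]
        rw [e, m6, m6]
    have m6 : k ^ 2 ^ 4 = k * k * (k * k) * (k * k * (k * k)) * (k * k * (k * k) * (k * k * (k * k))) := by
      simp only [pow_succ, pow_zero, Nat.reduceMul, one_mul, mul_assoc]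
    generalize k * k * (k * k) = y at m4 m5 m6
    have yN := (e1.cen y).2 (mul_inv_eq_iff_eq_mul.1 (m5 c cA))
    refine m6.trans (e1.sq _ (h.self (mem_centralizer_iff.2 fun q hq => ?_)))
    have m7 := ea_fx e1.sq e1.comm dN (e2.sq d e2.hc) hq
    have m8 : q⁻¹ * (y * q * y⁻¹) ∈ A := by
      refine mem_inf.2 ⟨mul_mem (inv_mem hq) ((mem_normalizer_iff.1 yN q).1 hq), mem_centralizer_singleton_iff.2 ?_⟩
      have m9 := m5 _ m7
      rw [commutatorElement_def, ← conj_mul, ← conj_mul, ← conj_mul, m4, ← conj_inv, ← conj_inv, m4,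
        mul_left_inj] at m9
      calc _ = q⁻¹ * (y * q * y⁻¹ * d * (y * q * y⁻¹)⁻¹) * (y * q * y⁻¹) := by group
        _ = _ := by rw [m9]; group
    have m10 := m5 _ m8
    have m11 := e1.sq _ m8.1
    refine (mul_inv_eq_iff_eq_mul.1 ?_).symm
    calc y * y * q * (y * y)⁻¹ = y * q * y⁻¹ * (y * (q⁻¹ * (y * q * y⁻¹)) * y⁻¹) := by group
      _ = q * (q⁻¹ * (y * q * y⁻¹) * (q⁻¹ * (y * q * y⁻¹))) := by rw [m10]; group
      _ = q := by rw [m11, mul_one])⟩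
  have fin : ∀ q ∈ Q', ⁅q, c⁆ ∈ A ⊓ B → ⁅q, c⁆ = 1 := fun q hq k =>
    commutatorElement_eq_one_iff_mul_comm.2 ((e1.cen q).1 (e1.nrm K K2 QK (show q ∈ K from
      ⟨fun w hw => by rw [e2.comm q hq w hw.2.1, mul_inv_cancel_right], ⟨_, k, by
        rw [← mem_centralizer_singleton_iff.1 k.2.2, commutatorElement_def, inv_mul_cancel_right]⟩,
        1, one_mem _, by rw [e2.comm q hq d e2.hc, mul_inv_cancel_right, mul_one]⟩)))
  have one : ∀ x ∈ A ⊓ B, ∀ y ∈ A ⊓ B, x ≠ 1 → y ≠ 1 → x = y := fun x hx y hy x1 y1 => by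
    obtain ⟨q, hq, k⟩ := b1 x hx.2
    obtain ⟨q', hq', k'⟩ := b1 y hy.2
    have k1 := k.resolve_left fun e => x1 (e.trans (fin q hq (e ▸ hx)))
    have k2 := k'.resolve_left fun e => y1 (e.trans (fin q' hq' (e ▸ hy)))
    have k3 : ⁅q * q', c⁆ = x * y := by
      rw [(ea_cm e2.comm cN hq hq').2, k1, k2, e2.comm d e2.hc _ (ea_cm e2.comm cN hq hq).1, mul_assoc,
        ← mul_assoc d, e2.sq d e2.hc, one_mul]
    have k4 := fin _ (mul_mem hq hq') (k3 ▸ mul_mem hx hy)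
    rw [k3] at k4
    exact (eq_inv_of_mul_eq_one_left k4).trans (inv_eq_of_mul_eq_one_right (e1.sq y hy.1.1))
  obtain ⟨⟨x, hx⟩, x1⟩ := (ne_bot_iff_exists_ne_one (H := A ⊓ B)).1 fun e => by simp [e] at w4
  have x1 : x ≠ 1 := fun e => x1 (Subtype.ext e)
  have k := card_le_of_le (show A ⊓ B ≤ zpowers x from fun y hy => by
    by_cases y1 : y = 1
    exacts [y1 ▸ one_mem _, one x hx y hy x1 y1 ▸ mem_zpowers x])
  rw [w4, ea_zp x1 (e1.sq x hx.1.1)] at k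
  omega

end CfsgLib.A10S
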