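import Mathlib
import Cfsg.Agent.Lib.A10S.CE0
import Cfsg.Agent.Lib.TL2.Basic
import Cfsg.Agent.Lib.Transfer.Cocycle
import Cfsg.Agent.Lib.Sect.Tools
import Cfsg.Agent.Lib.Tech.SylowIn

/-! EB: `Q = E₃₂` without a fixed point.  See plans/A10S.md. -/

set_option autoImplicit false

namespace CfsgLib.A10S
open Cfsg Subgroup CfsgLib.Sect CfsgLib.Tech
open scoped commutatorElement

universe u

variable {S : Type u} [Group S] [Finite S] {Q L : Subgroup S}

theorem eb_cnt {x : S} (x5 : x ^ 5 = 1) (X : Set S) (hX : ∀ a ∈ X, x * a * x⁻¹ ∈ X) :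
    X.ncard ≡ {a | a ∈ X ∧ a * x = x * a}.ncard [MOD 5] := by
  classical
  haveI : Fact (Nat.Prime 5) := ⟨by norm_num⟩
  haveI := Fintype.ofFinite X
  let f : Function.End X := fun a => ⟨x * a * x⁻¹, hX a a.2⟩
  have hp : ∀ (n : ℕ) (a : X), ((f ^ n) a : S) = x ^ n * a * (x ^ n)⁻¹ := fun n => by
    induction n with
    | zero => intro a; simp; rfl
    | succ n ih =>
      intro a
      rw [pow_succ f]
      refine (ih (f a)).trans ?_
      simp only [f, pow_succ]; group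
  have h := Equiv.Perm.card_fixedPoints_modEq (f := f) (p := 5) (n := 1) (by
    funext a
    exact Subtype.ext (by rw [pow_one, hp, x5]; simp; rfl))
  rw [← Nat.card_eq_fintype_card, ← Nat.card_eq_fintype_card, Nat.card_coe_set_eq,
    Nat.card_coe_set_eq, ← Set.ncard_image_of_injective _ Subtype.val_injective] at h
  convert h using 2
  ext a
  refine ⟨fun ⟨h1, h2⟩ => ⟨⟨a, h1⟩, Subtype.ext ?_, rfl⟩, ?_⟩
  · exact mul_inv_eq_iff_eq_mul.2 h2.symm
  · rintro ⟨a, ha, rfl⟩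
    exact ⟨a.2, (mul_inv_eq_iff_eq_mul.1 (congrArg Subtype.val ha)).symm⟩

theorem eb_a5 : ∀ b : Equiv.Perm (Fin 5), Equiv.Perm.sign b = 1 → b * b = 1 → b ≠ 1 →
    ∃ g : Equiv.Perm (Fin 5), Equiv.Perm.sign g = 1 ∧
      g * (Equiv.swap 0 1 * Equiv.swap 2 3) * g⁻¹ = b := by decide +kernel

theorem eb_conj {a b : An 5} (ha : a * a = 1) (a1 : a ≠ 1) (hb : b * b = 1) (b1 : b ≠ 1) :
    ∃ g : An 5, g * a * g⁻¹ = b := by
  obtain ⟨g, hg, e⟩ := eb_a5 a a.2 (congrArg Subtype.val ha) fun e => a1 (Subtype.ext e)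
  obtain ⟨k, hk, e'⟩ := eb_a5 b b.2 (congrArg Subtype.val hb) fun e => b1 (Subtype.ext e)
  refine ⟨⟨k, hk⟩ * (⟨g, hg⟩ : An 5)⁻¹, Subtype.ext ?_⟩
  simp only [coe_mul, coe_inv, ← e, ← e']; group

omit [Finite S] in
theorem eb_max [Finite S] {U P : Subgroup S} (le : U ≤ P) (sq : ∀ p ∈ P, p * p ∈ U) {c : S}
    (cP : c ∈ P) (cU : c ∉ U) : ∃ M, U ≤ M ∧ c ∉ M ∧ M.relIndex P = 2 := by
  obtain ⟨M, ⟨h1, h2, h3⟩, mx⟩ := Set.Finite.exists_maximal (s := {M | U ≤ M ∧ M ≤ P ∧ c ∉ M})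
    (Set.toFinite _) ⟨U, le_rfl, le, cU⟩
  have key : ∀ p ∈ P, p ∉ M → p⁻¹ * c ∈ M := fun p hp hM => by
    have nm : ∀ a ∈ P, ∀ b ∈ M, a * b * a⁻¹ ∈ M := fun a ha b hb =>
      conj_mem (fun x hx => h1 (sq x hx)) ha (h2 hb) hb
    let M' : Subgroup S :=
      { carrier := {a | a ∈ M ∨ p⁻¹ * a ∈ M}
        one_mem' := .inl (one_mem _)
        mul_mem' := by
          rintro a b (ha | ha) (hb | hb)
          · exact .inl (mul_mem ha hb)
          · refine .inr ?_
            have := mul_mem (nm _ (inv_mem hp) a ha) hb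
            convert this using 1; group
          · exact .inr (mul_assoc p⁻¹ a b ▸ mul_mem ha hb)
          · refine .inl ?_
            have := mul_mem (mul_mem (nm p hp _ ha) (h1 (sq p hp))) hb
            convert this using 1; group
        inv_mem' := by
          rintro a (ha | ha)
          · exact .inl (inv_mem ha)
          · refine .inr ?_
            have := mul_mem (nm _ (inv_mem hp) _ (inv_mem ha)) (inv_mem (h1 (sq p hp)))
            convert this using 1; group }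
    by_contra hc
    have mem : ∀ a, a ∈ M' ↔ a ∈ M ∨ p⁻¹ * a ∈ M := fun _ => Iff.rfl
    have : U ≤ M' ∧ M' ≤ P ∧ c ∉ M' := ⟨fun a ha => (mem a).2 (.inl (h1 ha)), fun a ha =>
      ((mem a).1 ha).elim (fun h => h2 h) fun h => by simpa using mul_mem hp (h2 h),
      fun e => ((mem c).1 e).elim h3 hc⟩
    exact hM (mx (y := M') this (fun a ha => (mem a).2 (.inl ha)) ((mem p).2 (.inr (by simp))))
  refine ⟨M, h1, h3, le_antisymm (relIndex_le_two fun a ha b hb n1 n2 => ?_)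
    (two_le_relIndex fun e => h3 (e cP))⟩
  simpa using mul_mem (key a ha n1) (inv_mem (key b hb n2))

theorem Loc.e32b (h : Loc Q L) (h32 : Nat.card Q = 32) (el : IsElementaryAbelian 2 Q)
    (nf : ∀ c ∈ Q, L ≤ centralizer ({c} : Set S) → c = 1) : False := by
  classical
  haveI : Fact (Nat.Prime 5) := ⟨by norm_num⟩
  haveI := Fintype.ofFinite Q
  obtain ⟨⟨φ, sj, ker⟩, -, sqQ, P, QP, PL⟩ := h.of32 h32
  have q2 : ∀ q ∈ Q, q * q = 1 := fun q hq => by rw [← pow_two]; exact el.2 q hq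
  have cL : Nat.card L = 1920 := by
    rw [← card_mul_index φ.ker, index_ker, MonoidHom.range_eq_top.2 sj, card_top, ker,
      Nat.card_congr (subgroupOfEquivOfLe h.QL).toEquiv, h32, nat_card_alternatingGroup]
    simp [Nat.factorial]
  obtain ⟨⟨x, xL⟩, ox⟩ := exists_prime_orderOf_dvd_card' (G := L) 5 (by rw [cL]; norm_num)
  rw [← orderOf_coe] at ox
  replace ox : orderOf x = 5 := ox
  have x5 : x ^ 5 = 1 := ox ▸ pow_orderOf_eq_one x
  have cQ : ∀ g ∈ L, ∀ q ∈ Q, g * q * g⁻¹ ∈ Q := fun g hg q hq =>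
    conj_mem_of_mem_normalizer (h.le hg) hq
  have c2 : Nat.card (centralizer {x} ⊓ Q : Subgroup S) = 2 := by
    have h1 := h.five xL ox (Z := ⊥) (B := centralizer {x} ⊓ Q) (by simp) bot_le inf_le_right
      fun q hq => mem_bot.2 (commutatorElement_eq_one_iff_mul_comm.2 (mem_cent.1 hq.1))
    have h2 := card_eq_relIndex' (K := centralizer {x} ⊓ Q) inf_le_right
    have h3 := eb_cnt x5 Q (cQ x xL)
    have h4 : {a | a ∈ (Q : Set S) ∧ a * x = x * a} = (centralizer {x} ⊓ Q : Subgroup S) := by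
      ext a; simp [mem_cent, and_comm]
    rw [h4, ← Nat.card_coe_set_eq, ← Nat.card_coe_set_eq] at h3
    change Nat.card Q ≡ Nat.card (centralizer {x} ⊓ Q : Subgroup S) [MOD 5] at h3
    rw [h32] at h2 h3
    have : Nat.card (centralizer {x} ⊓ Q : Subgroup S) ≤ 2 := by nlinarith
    unfold Nat.ModEq at h3
    omega
  obtain ⟨c, hc, c1⟩ := exists_ne_one (K := centralizer {x} ⊓ Q) (by omega)
  have cc : ∀ a ∈ Q, a * x = x * a → a = 1 ∨ a = c := fun a ha e =>
    two_cases c2.le hc c1 ⟨mem_cent.2 e, ha⟩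
  have cx := mem_cent.1 hc.1
  letI : CommGroup Q := { (inferInstance : Group Q) with mul_comm := el.1.is_comm.comm }
  let A : normalizer (Q : Set S) →* MulAut Q := Q.normalizerMonoidHom
  have eA : ∀ n q, (A n q : S) = n * q * n⁻¹ := fun _ _ => rfl
  let x' : normalizer (Q : Set S) := ⟨x, h.le xL⟩
  let c' : Q := ⟨c, hc.2⟩
  let N : Q →* Q := ∏ i ∈ Finset.range 5, (A (x' ^ i)).toMonoidHom
  have eN : ∀ q, N q = ∏ i ∈ Finset.range 5, A (x' ^ i) q := fun q =>
    MonoidHom.finsetProd_apply _ _ _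
  have q2' : ∀ q : Q, q * q = 1 := fun q => Subtype.ext (q2 q q.2)
  have q5 : ∀ q : Q, q ^ 5 = q := fun q => by
    have : q ^ 5 = q * q * (q * q) * q := by simp only [pow_succ, pow_zero, one_mul, mul_assoc]
    simp only [this, q2', one_mul]
  have x5' : x' ^ 5 = 1 := Subtype.ext x5
  have Nx : ∀ q, N (A x' q) = N q := fun q => by
    have := Finset.prod_range_succ (fun i => A (x' ^ i) q) 5
    rw [Finset.prod_range_succ', x5', pow_zero] at this
    rw [eN, eN, ← mul_right_cancel this]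
    exact Finset.prod_congr rfl fun i _ => by rw [pow_succ, map_mul]; rfl
  have xN : ∀ q, A x' (N q) = N q := fun q => by
    refine Eq.trans ?_ (Nx q)
    rw [eN, eN, map_prod]
    exact Finset.prod_congr rfl fun i _ => by
      rw [← MulAut.mul_apply, ← MulAut.mul_apply, ← map_mul, ← map_mul, ← pow_succ, ← pow_succ']
  have N2 : ∀ q, N q = 1 ∨ N q = c' := fun q =>
    (cc _ (N q).2 (mul_inv_eq_iff_eq_mul.1 (congrArg Subtype.val (xN q))).symm).imp
      Subtype.ext Subtype.ext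
  have xc : A x' c' = c' := Subtype.ext (mul_inv_eq_iff_eq_mul.2 cx.symm)
  have Nc : N c' = c' := by
    rw [eN, Finset.prod_congr rfl (g := fun _ => c') fun i _ => ?_, Finset.prod_const,
      Finset.card_range, q5]
    rw [map_pow]
    induction i with
    | zero => rfl
    | succ i ih => rw [pow_succ, MulAut.mul_apply, xc]; exact ih (by simp_all; omega)
  have c1' : c' ≠ 1 := fun e => c1 (congrArg Subtype.val e)
  -- the orbit of `c`
  let O : Set S := {w | ∃ z ∈ L, z * c * z⁻¹ = w}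
  have OQ : ∀ w ∈ O, w ∈ Q := fun _ ⟨z, hz, e⟩ => e ▸ cQ z hz c hc.2
  have OL : ∀ g ∈ L, ∀ w ∈ O, g * w * g⁻¹ ∈ O := fun g hg _ ⟨z, hz, e⟩ =>
    ⟨g * z, mul_mem hg hz, by rw [← e]; group⟩
  have cO : c ∈ O := ⟨1, one_mem _, by simp⟩
  have O1 : (1 : S) ∉ O := fun ⟨z, _, e⟩ => c1 (conj_eq_one_iff.1 e)
  have d12 : O.ncard ∣ 12 := by
    have h1 := TL2.card_conj L c
    have h2 : 32 ∣ Nat.card (L ⊓ centralizer {c} : Subgroup S) := h32 ▸ card_dvd_of_le
      (le_inf h.QL fun q hq => mem_cent.2 (comm_of_sq q2 hq hc.2))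
    have h3 : 5 ∣ Nat.card (L ⊓ centralizer {c} : Subgroup S) :=
      ox ▸ orderOf_dvd_natCard _ ⟨xL, mem_cent.2 cx.symm⟩
    obtain ⟨k, hk⟩ := Nat.Coprime.mul_dvd_of_dvd_of_dvd (by norm_num) h2 h3
    rw [hk, cL] at h1
    exact ⟨k, by change O.ncard * _ = _ at h1; nlinarith⟩
  have one : ∀ X ⊆ O, c ∈ X → (∀ a ∈ X, x * a * x⁻¹ ∈ X) → X.ncard % 5 = 1 := fun X le hcX hX => by
    have := eb_cnt x5 X hX
    rwa [show {a | a ∈ X ∧ a * x = x * a} = {c} from Set.eq_singleton_iff_unique_mem.2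
      ⟨⟨hcX, cx⟩, fun a ha => (cc a (OQ a (le ha.1)) ha.2).resolve_left
        fun e => O1 (e ▸ le ha.1)⟩, Set.ncard_singleton] at this
  let F : Finset Q := Finset.univ.filter fun q => (q : S) ∈ O
  have hF : ∀ q, q ∈ F ↔ (q : S) ∈ O := fun q => by simp [F]
  have pF : ∏ q ∈ F, q = 1 := Subtype.ext (nf _ (∏ q ∈ F, q).2 fun g hg => mem_cent.2
    (mul_inv_eq_iff_eq_mul.1 (congrArg Subtype.val (show A ⟨g, h.le hg⟩ (∏ q ∈ F, q) = _ by
      rw [map_prod]
      refine Finset.prod_equiv (A ⟨g, h.le hg⟩).toEquiv (fun q => ?_) fun _ _ => rfl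
      rw [hF, hF]
      exact ⟨OL g hg _, fun e => by simpa [eA, mul_assoc] using OL _ (inv_mem hg) _ e⟩))))
  let O₁ : Set S := Subtype.val '' (F.filter fun q => N q = c' : Set Q)
  have le₁ : O₁ ⊆ O := by
    rintro _ ⟨q, hq, rfl⟩
    exact (hF q).1 (Finset.mem_filter.1 hq).1
  have k1 := one O₁ le₁ ⟨c', Finset.mem_filter.2 ⟨(hF _).2 cO, Nc⟩, rfl⟩ (by
    rintro _ ⟨q, hq, rfl⟩
    have hq := Finset.mem_filter.1 hq
    exact ⟨A x' q, Finset.mem_filter.2 ⟨(hF _).2 (OL x xL _ ((hF q).1 hq.1)),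
      (Nx q).trans hq.2⟩, rfl⟩)
  have k2 : Even O₁.ncard := by
    rw [Set.ncard_image_of_injective _ Subtype.val_injective, Set.ncard_coe_finset]
    have := congrArg N pF
    rw [map_prod, map_one, ← Finset.prod_filter_mul_prod_filter_not F fun q => N q = c',
      Finset.prod_congr rfl fun q hq => (Finset.mem_filter.1 hq).2, Finset.prod_eq_one
        fun q hq => (N2 q).resolve_right (Finset.mem_filter.1 hq).2, mul_one,
      Finset.prod_const] at this
    by_contra hc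
    obtain ⟨m, hm⟩ := Nat.not_even_iff_odd.1 hc
    rw [hm, pow_succ, pow_mul, pow_two, q2', one_pow, one_mul] at this
    exact c1' this
  have k3 := one O le_rfl cO (OL x xL)
  have k4 := Set.ncard_le_ncard le₁
  have k5 := Nat.le_of_dvd (by norm_num) d12
  have k6 : O.ncard ≠ 11 := fun e => by rw [e] at d12; norm_num at d12
  obtain ⟨m, hm⟩ := k2
  have eO : O₁ = O := Set.eq_of_subset_of_ncard_le le₁ (by omega)
  have NO : ∀ q : Q, (q : S) ∈ O → N q = c' := fun q hq => by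
    obtain ⟨q', h1, h2⟩ := eO.ge hq
    exact Subtype.ext h2 ▸ (Finset.mem_filter.1 h1).2
  have NL : ∀ g (hg : g ∈ L) q, N (A ⟨g, h.le hg⟩ q) = N q := by
    let W : Subgroup Q :=
      { carrier := {q | ∀ g (hg : g ∈ L), N (A ⟨g, h.le hg⟩ q) = N q}
        one_mem' := fun g hg => by rw [map_one]
        mul_mem' := fun ha hb g hg => by rw [map_mul, map_mul, map_mul, ha g hg, hb g hg]
        inv_mem' := fun ha g hg => by rw [map_inv, map_inv, map_inv, ha g hg] }
    have WQ : W.map Q.subtype ≤ Q := map_subtype_le _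
    have OW : O ⊆ W.map Q.subtype := fun w hw => ⟨⟨w, OQ w hw⟩, fun g hg => by
      rw [NO _ (OL g hg w hw), NO _ hw], rfl⟩
    have h1 := eb_cnt x5 (W.map Q.subtype) (by
      rintro _ ⟨q, hq, rfl⟩
      exact ⟨A x' q, fun g hg => by
        rw [Nx, ← hq _ (mul_mem hg xL), ← MulAut.mul_apply, ← map_mul]; rfl, rfl⟩)
    have h4 : {a | a ∈ (W.map Q.subtype : Set S) ∧ a * x = x * a} =
        (centralizer {x} ⊓ Q : Subgroup S) := by
      ext a
      refine ⟨fun e => ⟨mem_cent.2 e.2, WQ e.1⟩, fun e => ⟨?_, mem_cent.1 e.1⟩⟩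
      rcases cc a e.2 (mem_cent.1 e.1) with rfl | rfl
      exacts [one_mem _, OW cO]
    rw [h4, ← Nat.card_coe_set_eq, ← Nat.card_coe_set_eq] at h1
    change Nat.card (W.map Q.subtype) ≡ Nat.card (centralizer {x} ⊓ Q : Subgroup S) [MOD 5] at h1
    have h2 := Set.ncard_le_ncard OW
    rw [← Nat.card_coe_set_eq (W.map Q.subtype : Set S)] at h2
    change _ ≤ Nat.card (W.map Q.subtype) at h2
    have h3 := card_dvd_of_le WQ
    rw [h32] at h3
    obtain ⟨j, hj, e⟩ := (Nat.dvd_prime_pow Nat.prime_two (m := 5)).1 h3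
    rw [c2, e] at h1
    have : j = 5 := by
      rw [e] at h2
      unfold Nat.ModEq at h1
      interval_cases j <;> omega
    have h5 := eq_of_le_of_card_ge WQ (by rw [e, this, h32]; norm_num)
    intro g hg q
    obtain ⟨q', h6, h7⟩ := h5.ge q.2
    exact Subtype.ext h7 ▸ h6 g hg
  have NH : ∀ n q, N q = 1 → N (A n q) = 1 := fun n q e => by
    have := congrArg (fun q => N (A n q)) e
    simp only [map_one] at this
    rw [eN q, map_prod, map_prod, Finset.prod_congr rfl (g := fun _ => N (A n q)) fun i _ => ?_,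
      Finset.prod_const, Finset.card_range, q5] at this
    · exact this
    rw [← NL _ (conj_mem_of_mem_normalizer (h.nrm n.2) (pow_mem xL i)) (A n q), ← MulAut.mul_apply,
      ← MulAut.mul_apply, ← map_mul, ← map_mul]
    congr 3
    exact Subtype.ext (by simp [x'])
  -- an involution outside `Q`
  have ns := h.hd.nsc P Q (fun e => by rw [e] at h32; simp at h32) el.1
  simp only [IsStronglyClosed, QP, true_and, not_forall] at ns
  obtain ⟨a, ha, g, sP, sQ⟩ := ns
  have ss : g * a * g⁻¹ * (g * a * g⁻¹) = 1 := by rw [conj_mul, q2 a ha]; simp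
  generalize g * a * g⁻¹ = s at sP sQ ss
  have kq : ∀ l : L, φ l = 1 ↔ (l : S) ∈ Q := fun l => by
    rw [← MonoidHom.mem_ker, ker, mem_subgroupOf]
  have sq : ∀ p ∈ (P : Subgroup S), p * p ∈ N.ker.map Q.subtype := fun p hp => by
    by_cases pQ : p ∈ Q
    · rw [q2 p pQ]; exact one_mem _
    have pp := sqQ p (h.le (PL hp)) (isPGroup_iff_mem.1 P.isPGroup' p hp)
    obtain ⟨k, hk⟩ := eb_conj (a := φ ⟨s, PL sP⟩) (b := φ ⟨p, PL hp⟩)
      (by rw [← map_mul, kq]; show s * s ∈ Q; rw [ss]; exact one_mem _)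
      (fun e => sQ ((kq _).1 e))
      (by rw [← map_mul, kq]; show p * p ∈ Q; rwa [← pow_two]) fun e => pQ ((kq _).1 e)
    obtain ⟨k, rfl⟩ := sj k
    rw [← map_inv, ← map_mul, ← map_mul, ← inv_mul_eq_one, ← map_inv, ← map_mul, kq] at hk
    have tL := (k * ⟨s, PL sP⟩ * k⁻¹).2
    have tt : (k : S) * s * (k : S)⁻¹ * (k * s * (k : S)⁻¹) = 1 := by rw [conj_mul, ss]; simp
    change ((k : S) * s * (k : S)⁻¹)⁻¹ * p ∈ Q at hk
    change (k : S) * s * (k : S)⁻¹ ∈ L at tL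
    generalize (k : S) * s * (k : S)⁻¹ = t at hk tL tt
    refine ⟨A ⟨t, h.le tL⟩ ⟨_, hk⟩ * ⟨_, hk⟩, ?_, ?_⟩
    · change N _ = 1
      rw [map_mul, NL t tL, q2']
    · change t * (t⁻¹ * p) * t⁻¹ * (t⁻¹ * p) = p * p
      calc _ = p * (t * t)⁻¹ * p := by group
        _ = _ := by rw [tt]; simp
  obtain ⟨M, UM, cM, iM⟩ := eb_max ((map_subtype_le _).trans QP) sq (QP hc.2) (by
    rintro ⟨q, hq, e⟩
    exact c1' (Nc ▸ (Subtype.ext e : q = c') ▸ hq))
  haveI := h.hd.simple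
  obtain ⟨t, tM, tQ⟩ := Transfer.thompson_transfer_extremal (H := (P : Subgroup S)) (fun M e => by
    rcases (normal_of_index_eq_two e).eq_bot_or_eq_top with e1 | e1
    · have := h.hd.d7
      rw [e1, index_bot] at e
      rw [e] at this; norm_num at this
    · rw [e1, index_top] at e; norm_num at e) P.not_dvd_index iM (q2 c hc.2) h.two
    fun q hq => mem_cent.2 (comm_of_sq q2 hq hc.2)
  have e1 : cj t⁻¹ Q = Q := (h.uniq h32 el P.isPGroup' QP).2 _
    (cj_le_iff.2 fun q hq => by simpa using tQ q hq)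
    ⟨⟨⟨fun a b => Subtype.ext (comm_of_sq (V := cj t⁻¹ Q) (fun y hy => by
        have := q2 _ (mem_cj.1 hy)
        rw [← conj_eq_one_iff (a := t⁻¹⁻¹), ← this]; group) a.2 b.2)⟩⟩, fun y hy => by
      have := q2 _ (mem_cj.1 hy)
      rw [← conj_eq_one_iff (a := t⁻¹⁻¹), ← this, pow_two]; group⟩ (by rw [card_cj, h32])
  have tN := mem_normalizer_iff_cj.2 e1
  have e2 : (A ⟨_, tN⟩ c' : S) = t⁻¹ * c * t := by rw [eA]; simp [c']
  rcases N2 (A ⟨_, tN⟩ c') with e | e
  · have := NH (⟨_, tN⟩ : normalizer (Q : Set S))⁻¹ _ e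
    rw [← MulAut.mul_apply, ← map_mul, inv_mul_cancel, map_one, MulAut.one_apply, Nc] at this
    exact c1' this
  · have : (A ⟨_, tN⟩ c' : S)⁻¹ * c ∈ M := UM ⟨(A ⟨_, tN⟩ c')⁻¹ * c', by
      change N _ = 1
      rw [map_mul, map_inv, e, Nc, inv_mul_cancel], rfl⟩
    rw [e2] at this
    exact cM (by simpa only [mul_inv_cancel_left] using mul_mem tM this)

end CfsgLib.A10S
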