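import Mathlib
import Cfsg.Agent.Lib.A10S.Bas
import Cfsg.Agent.Lib.Spec.Zsig
import Cfsg.Agent.Lib.Recog.PSp4Spec
import Cfsg.Agent.Lib.Symp.Order
import Cfsg.Agent.Lib.Dickson.Subfield
import Cfsg.Agent.Lib.Char.Burnside
import Cfsg.Agent.S0243
import Cfsg.Agent.S0280
import Cfsg.Agent.S0494
import Cfsg.Agent.S0497
import Cfsg.Agent.S2475

/-! FA: the filter, small families.  See plans/A10S.md. -/

set_option autoImplicit false

namespace CfsgLib.A10S
open Cfsg Subgroup
open scoped commutatorElement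

universe u

variable {S : Type u} [Group S] [Finite S] {F : Type} [Field F] [Fintype F]

/-- primitive prime divisors are at most seven only for small exponents -/
theorem zs_le {r k : ℕ} (hr : 1 < r)
    (h : ∀ l : ℕ, l.Prime → l ∣ r ^ k - 1 → (∀ j, 0 < j → j < k → ¬ l ∣ r ^ j - 1) → l ≤ 7) :
    k ≤ 6 := by
  by_contra hk
  obtain ⟨l, hl, d, hp⟩ := Spec.zsigmondy (a := r) (n := k) hr (by omega) (by omega) (by omega)
  have h7 := h l hl d hp
  have c : r.Coprime l := by
    refine ((Nat.Prime.coprime_iff_not_dvd hl).2 fun e => hl.one_lt.ne' ?_).symm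
    have h1 := Nat.dvd_sub (dvd_pow e (show k ≠ 0 by omega)) d
    rwa [Nat.sub_sub_self (Nat.one_le_pow _ _ (by omega)), Nat.dvd_one] at h1
  have := hl.two_le
  exact hp (l - 1) (by omega) (by omega) ((Nat.modEq_iff_dvd' (Nat.one_le_pow _ _ (by omega))).1
    (Nat.ModEq.pow_card_sub_one_eq_one hl c).symm)

theorem Hs.le7 (h : Hs S) {l c : ℕ} (hl : l.Prime) (hc : c ∣ 3) (d : l ∣ c * Nat.card S) : l ≤ 7 := by
  rcases (Nat.Prime.dvd_mul hl).1 d with d | d
  · exact (Nat.le_of_dvd three_pos (d.trans hc)).trans (by norm_num)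
  · rcases h.om.prime hl d with e | e | e | e <;> omega

theorem Hs.big (h : Hs S) {n : ℕ} (l : ℕ) (e : Nat.card S = n) (hl : l.Prime := by norm_num)
    (h7 : 7 < l := by norm_num) (d : l ∣ n := by norm_num) : False := by
  rcases h.om.prime hl (e ▸ d) with e | e | e | e <;> omega

theorem Hs.not23 (h : Hs S) (a b : ℕ) (e : Nat.card S = 2 ^ a * 3 ^ b) : False := by
  have := h.simple
  have := Char.isSolvable_of_card_eq_pow_mul_pow Nat.prime_two Nat.prime_three e
  exact h.na ⟨⟨IsSimpleGroup.comm_iff_isSolvable.2 this⟩⟩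

omit [Finite S] in
theorem lst_small {n : ℕ} (e : Nat.card S = n) (h1 : ¬ 64 ∣ n := by norm_num) (h2 : 7 ∣ n := by norm_num)
    (h3 : ¬ 49 ∣ n := by norm_num) : Lst S :=
  .inr (.inr (.inl (e ▸ ⟨h1, h2, h3⟩)))

theorem om_le {n : ℕ} (h : n ∈ om) : n ≤ 21 := by
  simp only [om, Finset.mem_insert, Finset.mem_singleton] at h
  omega

theorem Hs.l2 (h : Hs S) (e : S ≃* Matrix.ProjectiveSpecialLinearGroup (Fin 2) F) : Lst S := by
  have := h.simple
  have h1 := Dickson.card_psl (K := F)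
  rw [Nat.card_eq_fintype_card (α := F), ← Nat.card_congr e.toEquiv] at h1
  have q2 := Fintype.one_lt_card (α := F)
  by_cases h4 : 4 ≤ Fintype.card F
  swap
  · have : Fintype.card F = 2 ∨ Fintype.card F = 3 := by omega
    rcases this with k | k <;> rw [k] at h1
    · exact (h.not23 1 1 (by norm_num at h1; omega)).elim
    · exact (h.not23 2 1 (by norm_num at h1; omega)).elim
  obtain ⟨p, hp⟩ := CharP.exists F
  haveI := Fact.mk (CharP.char_is_prime F p)
  have hs := Cfsg.Agent.S2475.result (F := F) p h4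
  have om' := h.om.of_inj e.symm.toMonoidHom e.symm.injective
  obtain ⟨a, ha⟩ := hs.ge (Or.inr (Or.inl dvd_rfl))
  obtain ⟨b, hb⟩ := hs.ge (Or.inr (Or.inr dvd_rfl))
  have h2 := ha ▸ om' a
  have h3 := hb ▸ om' b
  generalize Fintype.card F = q at h1 h2 h3 h4
  have h5 : q ≤ 42 := by
    have := om_le h3
    rcases (Nat.dvd_prime Nat.prime_two).1 (Nat.gcd_dvd_left 2 (q - 1)) with k | k <;>
      rw [k] at this <;> omega
  interval_cases q <;> first | (exact absurd h2 (by decide)) | (exact absurd h3 (by decide)) | skip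
  all_goals norm_num at h1
  · exact .inl (.inl (Cfsg.Agent.S0494.result (by omega)))
  · exact .inl (.inl (Cfsg.Agent.S0494.result (by omega)))
  · exact lst_small (n := 210) (by omega)
  · exact lst_small (n := 168) (by omega)
  · exact lst_small (n := 504) (by omega)
  · exact .inl (.inr (Cfsg.Agent.S0497.result (by omega)))
  · exact (h.big 11 (n := 660) (by omega)).elim
  · exact (h.big 13 (n := 1092) (by omega)).elim
  · exact lst_small (n := 1680) (by omega)
  · exact (h.big 17 (n := 2448) (by omega)).elim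
  · exact (h.big 19 (n := 3420) (by omega)).elim

theorem Hs.l3 (h : Hs S) (e : S ≃* Matrix.ProjectiveSpecialLinearGroup (Fin 3) F) : Lst S := by
  obtain ⟨s, hs⟩ : ∃ s, Fintype.card F = s + 1 := ⟨Fintype.card F - 1, by have := Fintype.card_pos (α := F); omega⟩
  have s0 : s ≠ 0 := by have := Fintype.one_lt_card (α := F); omega
  have h1 := Cfsg.Agent.S0243.result hs 3 (by norm_num)
  rw [← Nat.card_congr e.toEquiv, Fin.prod_univ_three, Nat.add_sub_cancel] at h1
  simp only [Fin.val_zero, Fin.val_one, Fin.val_two] at h1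
  have e3 : (s + 1) ^ 3 - 1 = s * (s ^ 2 + 3 * s + 3) := Nat.sub_eq_of_eq_add (by ring)
  rw [pow_zero, e3,
    show (s + 1) ^ 3 - (s + 1) ^ 1 = (s + 1) * (s * (s + 2)) from Nat.sub_eq_of_eq_add (by ring),
    show (s + 1) ^ 3 - (s + 1) ^ 2 = (s + 1) ^ 2 * s from Nat.sub_eq_of_eq_add (by ring)] at h1
  have h2 : Nat.gcd 3 s * Nat.card S = (s + 1) ^ 3 * (s * s * (s + 2) * (s ^ 2 + 3 * s + 3)) :=
    Nat.eq_of_mul_eq_mul_left (Nat.pos_of_ne_zero s0) (by rw [mul_left_comm, h1]; ring)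
  obtain ⟨p, hp⟩ := CharP.exists F
  obtain ⟨f, pp, hf⟩ := FiniteField.card F p
  rw [hs] at hf
  have f0 := f.pos
  have p7 : p ≤ 7 := h.le7 pp (Nat.gcd_dvd_left 3 s) (h2 ▸ Dvd.dvd.mul_right
    (dvd_pow (hf ▸ dvd_pow_self p f0.ne') three_ne_zero) _)
  have f2 : (f : ℕ) * 3 ≤ 6 := zs_le pp.one_lt fun l hl d _ => h.le7 hl (Nat.gcd_dvd_left 3 s) (by
    rw [pow_mul, ← hf, e3] at d
    exact h2 ▸ d.trans ⟨(s + 1) ^ 3 * (s * (s + 2)), by ring⟩)
  have : s = 1 ∨ s = 2 ∨ s = 3 ∨ s = 4 ∨ s = 6 ∨ s = 8 ∨ s = 24 ∨ s = 48 := by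
    generalize (f : ℕ) = k at hf f0 f2
    have k2 : k ≤ 2 := by omega
    interval_cases p <;> first | (exact absurd pp (by decide)) | (interval_cases k <;> omega)
  rcases this with rfl | rfl | rfl | rfl | rfl | rfl | rfl | rfl <;> norm_num at h2
  · exact lst_small h2
  · exact (h.big 13 h2).elim
  · exact .inr (.inr (.inr (.inr (.inr (.inr (.inl ⟨F, _, _, hs, ⟨e⟩⟩))))))
  · exact (h.big 31 h2).elim
  · exact (h.big 19 (n := 1876896) (by omega)).elim
  · exact (h.big 13 h2).elim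
  · exact (h.big 31 (n := 50778000000) (by omega)).elim
  · exact (h.big 19 (n := 11072935641600) (by omega)).elim

theorem Hs.u3 (h : Hs S) {q : ℕ} (hq : Fintype.card F = q ^ 2) (e : S ≃* PSU 3 F q) : Lst S := by
  have q2 : 2 ≤ q := by
    have := Fintype.one_lt_card (α := F)
    by_contra c
    interval_cases q <;> omega
  have h1 := Cfsg.Agent.S0280.result hq 3 (by norm_num)
  rw [← Nat.card_congr e.toEquiv] at h1
  simp only [Finset.prod_range_succ, Finset.range_zero, Finset.prod_empty] at h1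
  norm_num at h1
  have h2 : Nat.gcd 3 (q + 1) * Nat.card S = q ^ 3 * ((q ^ 2 - 1) * (q ^ 3 + 1)) :=
    Nat.eq_of_mul_eq_mul_left (show 0 < q + 1 by omega) (by rw [mul_left_comm, h1]; ring)
  obtain ⟨p, hp⟩ := CharP.exists F
  obtain ⟨n, pp, hn⟩ := FiniteField.card F p
  obtain ⟨f, -, hf⟩ := (Nat.dvd_prime_pow pp).1 (hn ▸ hq ▸ dvd_pow_self q two_ne_zero)
  have f0 : f ≠ 0 := fun k => by rw [k, pow_zero] at hf; omega
  have p7 : p ≤ 7 := h.le7 pp (Nat.gcd_dvd_left 3 _) (h2 ▸ Dvd.dvd.mul_right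
    (dvd_pow (hf ▸ dvd_pow_self p f0) three_ne_zero) _)
  have f2 : f * 3 * 2 ≤ 6 := zs_le pp.one_lt fun l hl d k => h.le7 hl (Nat.gcd_dvd_left 3 _) (by
    have k' := k (f * 3) (by omega) (by omega)
    rw [pow_mul, ← one_pow 2, Nat.sq_sub_sq] at d
    have d' := ((Nat.Prime.dvd_mul hl).1 d).resolve_right k'
    rw [pow_mul, ← hf] at d'
    exact h2 ▸ (d'.mul_left _).mul_left _)
  obtain rfl : f = 1 := by omega
  rw [pow_one] at hf
  subst hf
  interval_cases q <;> first | (exact absurd pp (by decide)) | norm_num at h2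
  · exact (h.not23 3 2 (by omega)).elim
  · exact lst_small h2
  · exact lst_small (n := 126000) (by omega)
  · exact (h.big 43 h2).elim

theorem Hs.sp4 (h : Hs S) (h3 : 3 ≤ Fintype.card F) (e : S ≃* PSp 2 F) : Lst S := by
  have h1 := Symp.card_PSp (F := F) (m := 2) (by norm_num)
  rw [← Nat.card_congr e.toEquiv] at h1
  simp only [Finset.prod_range_succ, Finset.range_zero, Finset.prod_empty] at h1
  obtain ⟨p, hp⟩ := CharP.exists F
  obtain ⟨n, pp, hn⟩ := FiniteField.card F p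
  haveI := Fact.mk pp
  have hs := Recog.range_orderOf_psp_four (F := F) p
  have om' := h.om.of_inj e.symm.toMonoidHom e.symm.injective
  have k : ∀ m, Nat.gcd 2 (Fintype.card F - 1) * m = Fintype.card F ^ 2 + 1 → m ∈ A10S.om :=
      fun m hm => by
    obtain ⟨a, ha⟩ := hs.ge (show m ∈ Recog.omegaPSp4 p _ from Or.inl (dvd_of_eq hm))
    exact ha ▸ om' a
  have q3 : Fintype.card F = 3 := by
    generalize Fintype.card F = q at k h3
    have q6 : q ≤ 6 := by
      by_contra c
      have : 49 ≤ q ^ 2 := by nlinarith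
      rcases Recog.gcd_cases q (by omega) with ⟨⟨t, ht⟩, g⟩ | ⟨-, g⟩ <;> rw [g] at k
      · have := om_le (k (2 * t ^ 2 + 2 * t + 1) (by rw [ht]; ring))
        nlinarith
      · have := om_le (k _ (one_mul _))
        omega
    interval_cases q
    · rfl
    · exact absurd (k 17 (by decide)) (by decide)
    · exact absurd (k 13 (by decide)) (by decide)
    · exact absurd (k 37 (by decide)) (by decide)
  obtain rfl : p = 3 := (Nat.prime_dvd_prime_iff_eq pp Nat.prime_three).1
    (q3 ▸ hn ▸ dvd_pow_self p n.pos.ne')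
  obtain ⟨a, ha⟩ := hs.ge (show 9 ∈ Recog.omegaPSp4 3 _ from
    Or.inr (Or.inr (Or.inr (Or.inr ⟨le_rfl, by norm_num⟩))))
  rw [q3] at h1
  exact .inr (.inl ⟨by norm_num at h1; omega, e.symm a, by rw [MulEquiv.orderOf_eq]; exact ha⟩)

theorem Hs.sz (h : Hs S) (k : IsSuzuki S) : False := by
  obtain ⟨-, m, h1, e⟩ := k
  obtain rfl | h2 := h1.eq_or_lt
  · exact h.big 13 e
  · refine h.two (e ▸ Dvd.dvd.mul_right (Dvd.dvd.mul_right ?_ _) _)
    rw [← pow_mul]
    exact pow_dvd_pow 2 (show 8 ≤ (2 * m + 1) * 2 by omega)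

theorem Hs.ree (h : Hs S) (k : IsRee S) : False := by
  obtain ⟨-, m, h1, e⟩ := k
  have h2 : 2 * m + 1 ≤ 6 := zs_le (r := 3) (by norm_num) fun l hl d _ =>
    h.le7 hl (one_dvd 3) (by rw [one_mul, e]; exact d.mul_left _)
  have : m = 1 ∨ m = 2 := by omega
  rcases this with rfl | rfl
  · exact h.big 13 e
  · exact h.big 11 e

end CfsgLib.A10S
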