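import Mathlib
import Cfsg.Agent.Lib.A10S.CA1
import Cfsg.Agent.Lib.A10S.CA2
import Cfsg.Agent.Lib.K3p.Par

/-! SELF: an `E₁₆` without transvections.  See plans/A10S.md. -/

set_option autoImplicit false

namespace CfsgLib.A10S
open Cfsg Subgroup
open scoped commutatorElement

universe u

/-- an `E₈` of automorphisms of `E₁₆` contains a transvection -/
theorem noe8 {P : Type*} [Group P] [Finite P] (hP : Nat.card P = 128) (Q : Subgroup P) [Q.Normal]
    (hQ : IsElementaryAbelian 2 Q) (h16 : Nat.card Q = 16)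
    (nt : ∀ t : P, t ∉ Q → t ^ 2 ∈ Q → Nat.card ↥(Q ⊓ centralizer ({t} : Set P)) ≤ 4) :
    ∃ a b : P, ⁅a, b⁆ ∉ Q ∨ a ^ 2 ∉ Q := by
  classical
  by_contra! hn
  have cm : ∀ a ∈ Q, ∀ b ∈ Q, a * b = b * a := fun a ha b hb =>
    congrArg Subtype.val (hQ.1.is_comm.comm (⟨a, ha⟩ : Q) ⟨b, hb⟩)
  have k : ∀ t : P, Nat.card ↥(Q ⊓ centralizer ({t} : Set P)) = 4 + if t ∈ Q then 12 else 0 := fun t => by
    split_ifs with ht
    · rw [inf_eq_left.2 fun a ha => mem_centralizer_singleton_iff.2 (cm a ha t ht), h16]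
    · have h1 := nt t ht (hn t 1).2
      have h2 := K3p.card_le_sq_fix (V := Q) (s := t) (fun v hv => by rw [← pow_two, hQ.2 v hv])
        (by rw [normalizer_eq_top]; trivial) fun v hv => cm _ (by rw [← pow_two]; exact (hn t 1).2) v hv
      rw [h16] at h2
      generalize Nat.card ↥(Q ⊓ centralizer ({t} : Set P)) = n at h1 h2
      interval_cases n <;> omega
  let _ := MulAction.compHom Q (MulAut.conjNormal : P →* MulAut Q)
  let _ := Fintype.ofFinite P
  let _ := Fintype.ofFinite (Quotient (MulAction.orbitRel P Q))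
  have b := MulAction.sum_card_fixedBy_eq_card_orbits_mul_card_group P Q
  have e : ∀ t : P, Fintype.card (MulAction.fixedBy Q t) = 4 + if t ∈ Q then 12 else 0 := fun t => by
    rw [← k, ← Nat.card_eq_fintype_card]
    exact Nat.card_congr ⟨fun x => ⟨x.1.1, x.1.2, mem_centralizer_singleton_iff.2
      (mul_inv_eq_iff_eq_mul.1 (congrArg Subtype.val x.2)).symm⟩, fun x => ⟨⟨x.1, x.2.1⟩, Subtype.ext
        (mul_inv_eq_iff_eq_mul.2 (mem_centralizer_singleton_iff.1 x.2.2).symm)⟩, fun _ => rfl, fun _ => rfl⟩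
  have c : (Finset.univ.filter fun t : P => t ∈ Q).card = 16 := by
    rw [← h16, Nat.card_eq_fintype_card, Fintype.card_subtype]
  simp only [e, Finset.sum_add_distrib, Finset.sum_ite, Finset.sum_const, c, Finset.card_univ,
    ← Nat.card_eq_fintype_card, hP, smul_eq_mul] at b
  omega

theorem self_p {P : Type*} [Group P] [Finite P] (hP : Nat.card P = 128) (Q : Subgroup P)
    (hQ : IsElementaryAbelian 2 Q) (h16 : Nat.card Q = 16) (nt : ∀ t ∈ normalizer (Q : Set P), t ∉ Q → t ^ 2 ∈ Q →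
      Nat.card ↥(Q ⊓ centralizer ({t} : Set P)) ≤ 4) : SectionalPRankLE 2 4 P := by
  have hG : IsPGroup 2 P := IsPGroup.of_card (n := 7) hP
  have nt2 : ∀ t ∈ normalizer (Q : Set P), t ∉ Q → Nat.card ↥(Q ⊓ centralizer ({t} : Set P)) ≤ 4 :=
    fun t h1 h2 => by
      obtain ⟨j, k1, k2⟩ := Sect.exists_pow_sq hG h2
      refine (card_le_of_le (inf_le_inf_left _ fun x hx => mem_centralizer_singleton_iff.2 ?_)).trans
        (nt _ (pow_mem h1 j) k1 (by rwa [pow_two]))
      exact (show Commute x t from mem_centralizer_singleton_iff.1 hx).pow_right j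
  by_cases h1 : Q.Normal
  · have m : ∀ t, t ∈ normalizer (Q : Set P) := fun t => by rw [normalizer_eq_top]; trivial
    refine srk_a1 hP Q ⊤ hQ h16 (fun t ht => by_contra fun hn => ?_) le_top (by simp)
      (fun t _ => nt t (m t)) (noe8 hP Q hQ h16 fun t => nt t (m t))
    have := nt2 t (m t) hn
    rw [inf_eq_left.2 fun a ha => mem_centralizer_singleton_iff.2 (ht a ha), h16] at this
    omega
  by_cases h2 : (normalizer (Q : Set P)).index = 2
  · exact srk_a2 hP _ Q h2 le_normalizer le_rfl hQ h16 h1 nt2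
  exfalso
  have h3 : normalizer (Q : Set P) ≠ ⊤ := fun e => h1 (normalizer_eq_top_iff.1 e)
  have h4 : Q.relIndex (normalizer (Q : Set P)) ≤ 2 := by
    have e1 := relIndex_mul_index (le_normalizer (H := Q))
    have e2 := Q.index_mul_card
    rw [h16, hP] at e2
    have e3 : Q.index = 8 := by omega
    have e4 := mt index_eq_one.1 h3
    rw [e3] at e1
    have e5 := Nat.le_of_dvd (by norm_num) (Dvd.intro_left _ e1)
    generalize (normalizer (Q : Set P)).index = n at *
    interval_cases n <;> omega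
  obtain ⟨g, -, g1, g2⟩ := Tech.exists_mem_normalizer_of_lt (hG.to_subgroup ⊤) (lt_top_iff_ne_top.2 h3)
  have l : Tech.cj g Q ≤ normalizer (Q : Set P) := by
    rintro _ ⟨x, hx, rfl⟩
    exact (mem_normalizer_iff.1 g2 x).1 (le_normalizer hx)
  obtain ⟨x, x1, x2⟩ : ∃ x ∈ Tech.cj g Q, x ∉ Q := by
    by_contra! hn
    exact g1 (mem_normalizer_fintype fun y hy => hn _ ⟨y, hy, rfl⟩)
  have h5 : Nat.card ↥(Q ⊓ Tech.cj g Q) ≤ 4 := by
    refine (card_le_of_le (inf_le_inf_left _ ?_)).trans (nt2 x (l x1) x2)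
    obtain ⟨x, x1, rfl⟩ := x1
    rintro _ ⟨y, hy, rfl⟩
    refine mem_centralizer_singleton_iff.2 ?_
    rw [← map_mul, ← map_mul]
    exact congrArg _ (congrArg Subtype.val (hQ.1.is_comm.comm (⟨y, hy⟩ : Q) ⟨x, x1⟩))
  have h6 := Tech.card_mul_relIndex' (inf_le_right : Q ⊓ Tech.cj g Q ≤ _)
  rw [inf_relIndex_right, Tech.card_cj, h16] at h6
  have h7 := (relIndex_le_of_le_right l index_ne_zero_of_finite).trans h4
  have := Nat.mul_le_mul h5 h7
  omega

theorem Hd.self16 {S : Type u} [Group S] [Finite S] (h : Hd S) {Q : Subgroup S} (hQ : IsElementaryAbelian 2 Q)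
    (h16 : Nat.card Q = 16) (nt : ∀ t ∈ normalizer (Q : Set S), t ∉ Q → t ^ 2 ∈ Q →
      Nat.card ↥(Q ⊓ centralizer ({t} : Set S)) ≤ 4) : False := by
  obtain ⟨P, hP⟩ := (IsPGroup.of_card (n := 4) h16 : IsPGroup 2 Q).exists_le_sylow
  have c : Nat.card P = 128 := by
    obtain ⟨n, hn⟩ := IsPGroup.iff_card.1 P.isPGroup'
    have h1 : 2 ^ 7 ∣ Nat.card P := P.pow_dvd_card_of_pow_dvd_card h.d7
    have h2 : ¬ 2 ^ 8 ∣ Nat.card P := fun e => h.two (e.trans (card_subgroup_dvd_card _))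
    rw [hn, Nat.pow_dvd_pow_iff_le_right one_lt_two] at h1 h2
    exact hn.trans (by rw [show n = 7 by omega]; rfl)
  have := hQ.1
  refine h.srk P (self_p c (Q.subgroupOf P) ⟨inferInstance, fun a ha => Subtype.ext (hQ.2 a ha)⟩
    ((Nat.card_congr (subgroupOfEquivOfLe hP).toEquiv).trans h16) fun t h1 h2 h3 => ?_)
  refine le_trans ?_ (nt t (mem_normalizer_fintype fun y hy =>
    (mem_normalizer_iff.1 h1 ⟨y, hP hy⟩).1 hy) h2 h3)
  rw [← card_map_of_injective (subtype_injective _)]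
  refine card_le_of_le ?_
  rintro _ ⟨x, hx, rfl⟩
  exact ⟨hx.1, mem_centralizer_singleton_iff.2 (congrArg Subtype.val (mem_centralizer_singleton_iff.1 hx.2))⟩

end CfsgLib.A10S
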