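import Mathlib
import Cfsg.Agent.Lib.A10S.Defs

/-! The classification of the simple sections whose Sylow 2-subgroup, when of order 128, has exponent 8. -/

set_option autoImplicit false

namespace CfsgLib.A10S
open Cfsg Subgroup

universe u

/-- The classification of the simple sections, with the element of order 8 in the case `|S|₂ = 128`. -/
def ClSt8 : Prop := ∀ (S : Type u) [Group S] [Finite S], Hs S →
  (128 ∣ Nat.card S → ∃ g : S, orderOf g = 8) → Lst S

theorem ClSt.to8 (X : ClSt.{u}) : ClSt8.{u} := fun S _ _ h _ => X S h

end CfsgLib.A10S
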