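import Mathlib
import Cfsg.Agent.Lib.A10S.Bas

/-! TRI: three eigenspaces.  See plans/A10S.md. -/

set_option autoImplicit false

namespace CfsgLib.A10S
open Cfsg Subgroup
open scoped commutatorElement

universe u

variable {G : Type*} [Group G] [Finite G]

theorem tri {r : ℕ} (hr : r.Prime) (r2 : r ≠ 2) {M A : Subgroup G} {y : G} (hM : IsElementaryAbelian r M)
    (nA : A ≤ normalizer (M : Set G)) (ny : y ∈ normalizer (M : Set G))
    (yA : y ∈ normalizer (A : Set G)) (sq : ∀ a ∈ A, a ^ 2 ∈ centralizer (M : Set G)) (y3 : y ^ 3 = 1)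
    (nt : ∃ a ∈ A, ⁅a, y⁆ ∉ centralizer (M : Set G)) :
    ∃ m ∈ M, (m * y) ^ 3 ≠ 1 ∧ ∃ B : Subgroup G, B ≤ A ∧ B.relIndex A ≤ 2 ∧ B ≤ centralizer ({m} : Set G) := by
  obtain ⟨a₀, ha₀, hc⟩ := nt
  have cm : ∀ m ∈ M, ∀ n ∈ M, m * n = n * m := fun m hm n hn =>
    congrArg Subtype.val (hM.1.is_comm.comm ⟨m, hm⟩ ⟨n, hn⟩)
  have one : ∀ m ∈ M, m * m = 1 → m = 1 := fun m hm e => by
    have h1 : orderOf m ∣ 2 := orderOf_dvd_of_pow_eq_one (by rw [pow_two, e])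
    have h2 : orderOf m ∣ r := orderOf_dvd_of_pow_eq_one (hM.2 m hm)
    have h3 := Nat.dvd_gcd h1 h2
    rw [((Nat.coprime_primes Nat.prime_two hr).2 r2.symm).gcd_eq_one] at h3
    exact orderOf_eq_one_iff.1 (Nat.dvd_one.1 h3)
  have cj : ∀ {g}, g ∈ normalizer (M : Set G) → ∀ m ∈ M, g * m * g⁻¹ ∈ M := fun hg m hm =>
    (mem_normalizer_iff.1 hg m).1 hm
  have tw : ∀ a ∈ A, ∀ m ∈ M, a * (a * m * a⁻¹) * a⁻¹ = m := fun a ha m hm => by
    have h1 := mem_centralizer_iff.1 (sq a ha) m hm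
    rw [show a * (a * m * a⁻¹) * a⁻¹ = a ^ 2 * m * (a ^ 2)⁻¹ by rw [pow_two]; group, ← h1, mul_inv_cancel_right]
  have iv : ∀ a ∈ A, ∀ m ∈ M, a⁻¹ * m * a = a * m * a⁻¹ := fun a ha m hm => by
    conv_lhs => rw [← tw a ha m hm]
    group
  have ab : ∀ a ∈ A, ∀ b ∈ A, ∀ m ∈ M, b * (a * m * a⁻¹) * b⁻¹ = a * (b * m * b⁻¹) * a⁻¹ := fun a ha b hb m hm => by
    rw [← iv b hb _ (cj (nA ha) m hm), ← iv a ha m hm]
    have h1 := iv (a * b) (mul_mem ha hb) m hm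
    calc _ = (a * b)⁻¹ * m * (a * b) := by group
      _ = _ := by rw [h1]; group
  have yA' : ∀ a ∈ A, y * a * y⁻¹ ∈ A := fun a ha => (mem_normalizer_iff.1 yA a).1 ha
  have cA : ⁅a₀, y⁆ ∈ A := by
    rw [show ⁅a₀, y⁆ = a₀ * (y * a₀⁻¹ * y⁻¹) by rw [commutatorElement_def]; group]
    exact mul_mem ha₀ (yA' _ (inv_mem ha₀))
  set c := ⁅a₀, y⁆ with hcd
  let T : Set G := {m | m ∈ M ∧ m ≠ 1 ∧ c * m * c⁻¹ = m⁻¹}
  let S : G → Set G := fun m => {a | a ∈ A ∧ (a * m * a⁻¹ = m ∨ a * m * a⁻¹ = m⁻¹)}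
  have hT : T.Nonempty := by
    rw [mem_centralizer_iff] at hc
    push Not at hc
    obtain ⟨n, hn, hne⟩ := hc
    have hn' := cj (nA cA) n hn
    refine ⟨c * n * c⁻¹ * n⁻¹, mul_mem hn' (inv_mem hn), fun e => hne ?_, ?_⟩
    · rw [mul_inv_eq_one, mul_inv_eq_iff_eq_mul] at e
      exact e.symm
    · rw [← conj_mul, tw c cA n hn]
      group
  obtain ⟨m, ⟨hm, m1, mc⟩, hmax⟩ := Set.exists_max_image T (fun m => (S m).ncard) (Set.toFinite T) hT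
  have ev : ∀ a ∈ A, a * m * a⁻¹ = m ∨ a * m * a⁻¹ = m⁻¹ := fun a ha => by
    by_contra hn
    have hm' := cj (nA ha) m hm
    have h1 : m * (a * m * a⁻¹) ∈ T := by
      refine ⟨mul_mem hm hm', fun e => hn (Or.inr (eq_inv_of_mul_eq_one_right e)), ?_⟩
      rw [← conj_mul, ab a ha c cA m hm, mc, cm m hm _ hm']
      group
    have h2 : S m ⊂ S (m * (a * m * a⁻¹)) := by
      refine ⟨fun b hb => ⟨hb.1, ?_⟩, fun h => hn (h ⟨ha, Or.inl ?_⟩).2⟩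
      · rw [← conj_mul, ab a ha b hb.1 m hm]
        rcases hb.2 with e | e
        · rw [e]; exact Or.inl rfl
        · rw [e, cm m hm _ hm']; exact Or.inr (by group)
      · rw [← conj_mul, tw a ha m hm, cm m hm _ hm']
    exact absurd (hmax _ h1) (not_le.2 (Set.ncard_lt_ncard h2 (Set.toFinite _)))
  have ni : m ≠ m⁻¹ := fun e => m1 (one m hm (by nth_rw 2 [e]; exact mul_inv_cancel m))
  refine ⟨m, hm, fun e => ?_, A ⊓ centralizer {m}, inf_le_left, ?_, inf_le_right⟩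
  · have yi : y * y = y⁻¹ := eq_inv_of_mul_eq_one_left (by rw [← y3, pow_succ, pow_two])
    have e1 : m * (y * m * y⁻¹) * (y⁻¹ * m * y) = 1 := by
      rw [← e, show (m * y) ^ 3 = m * (y * m * y⁻¹) * (y * y * m * y) by rw [pow_succ, pow_two]; group, yi]
    have h1 := cj ny m hm
    have h2 : y⁻¹ * m * y ∈ M := by simpa using cj (inv_mem ny) m hm
    have f1 : ∀ a ∈ A, a * (y * m * y⁻¹) * a⁻¹ = y * m * y⁻¹ ∨ a * (y * m * y⁻¹) * a⁻¹ = (y * m * y⁻¹)⁻¹ :=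
      fun a ha => by
        have ha' : y⁻¹ * a * y ∈ A := by simpa using (mem_normalizer_iff.1 (inv_mem yA) a).1 ha
        rw [show a * (y * m * y⁻¹) * a⁻¹ = y * (y⁻¹ * a * y * m * (y⁻¹ * a * y)⁻¹) * y⁻¹ by group]
        rcases ev _ ha' with e | e
        · rw [e]; exact Or.inl rfl
        · rw [e]; exact Or.inr (by group)
    have f2 : ∀ a, a * (y⁻¹ * m * y) * a⁻¹ = y⁻¹ * (y * a * y⁻¹ * m * (y * a * y⁻¹)⁻¹) * y := fun a => by group
    have n2 : ∀ u ∈ M, ∀ v ∈ M, u ≠ 1 → u * v = 1 → u⁻¹ * v = 1 → False := fun u hu v hv u1 e1 e2 => by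
      rw [eq_inv_of_mul_eq_one_right e2, inv_inv] at e1
      exact u1 (one u hu e1)
    have g1 : ∀ u, ∀ v ∈ M, ∀ w ∈ M, u * v⁻¹ * w⁻¹ = 1 → u⁻¹ * (v * w) = 1 := fun u v hv w hw e => by
      rw [cm v hv w hw, inv_mul_eq_one, ← mul_inv_eq_one, ← e]; group
    have g2 : ∀ u ∈ M, ∀ v ∈ M, ∀ w, u⁻¹ * v⁻¹ * w = 1 → w⁻¹ * (u * v) = 1 := fun u hu v hv w e => by
      rw [cm u hu v hv, inv_mul_eq_one, eq_comm, ← inv_mul_eq_one, ← e]; group
    have y1 : y⁻¹ * m * y ≠ 1 := fun e => m1 (by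
      rw [show m = y * (y⁻¹ * m * y) * y⁻¹ by group, e, mul_one, mul_inv_cancel])
    have k : c * m * c⁻¹ = a₀ * (y * a₀⁻¹ * y⁻¹ * m * (y * a₀⁻¹ * y⁻¹)⁻¹) * a₀⁻¹ := by
      rw [hcd, commutatorElement_def]; group
    have b0 := inv_mem ha₀
    have i0 : a₀ * m * a₀⁻¹ = a₀⁻¹ * m * a₀⁻¹⁻¹ := by rw [inv_inv, iv a₀ ha₀ m hm]
    have e2 := congrArg (fun u => a₀⁻¹ * u * a₀⁻¹⁻¹) e1
    simp only [mul_one, mul_inv_cancel] at e2
    rw [← conj_mul, ← conj_mul, f2] at e2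
    set m₁ := y * m * y⁻¹
    set m₂ := y⁻¹ * m * y with hm₂
    have hm₂' : y⁻¹ * m⁻¹ * y = m₂⁻¹ := by rw [hm₂]; group
    rw [mc] at k
    rcases ev _ b0 with p | p <;> rcases ev _ (yA' _ b0) with p' | p' <;> rw [p'] at k e2 <;> rw [p] at e2
    · rw [i0, p] at k
      exact ni k.symm
    · rw [hm₂'] at e2
      rcases f1 _ b0 with q | q <;> rw [q] at e2
      · exact n2 m₂ h2 (m * m₁) (mul_mem hm h1) y1 (by rw [← cm _ (mul_mem hm h1) _ h2, e1])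
          (by rw [← cm _ (mul_mem hm h1) _ (inv_mem h2), e2])
      · exact n2 m hm (m₁ * m₂) (mul_mem h1 h2) m1 (by rw [← mul_assoc, e1]) (g1 _ _ h1 _ h2 e2)
    · rw [← hm₂] at e2
      rcases f1 _ b0 with q | q <;> rw [q] at e2
      · exact n2 m hm (m₁ * m₂) (mul_mem h1 h2) m1 (by rw [← mul_assoc, e1]) (by rw [← mul_assoc, e2])
      · exact n2 m₂ h2 (m * m₁) (mul_mem hm h1) y1 (by rw [← cm _ (mul_mem hm h1) _ h2, e1]) (g2 _ hm _ h1 _ e2)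
    · rw [show a₀ * m⁻¹ * a₀⁻¹ = (a₀ * m * a₀⁻¹)⁻¹ by group, i0, p, inv_inv] at k
      exact ni k.symm
  · by_cases hA : A ≤ centralizer {m}
    · rw [inf_eq_left.2 hA, relIndex_self]
      norm_num
    · obtain ⟨a, ha, na⟩ := SetLike.not_le_iff_exists.1 hA
      have fx : ∀ b, b ∈ centralizer ({m} : Set G) ↔ b * m * b⁻¹ = m := fun b => by
        rw [mem_centralizer_singleton_iff, mul_inv_eq_iff_eq_mul]
      refine (index_eq_two_iff.2 ⟨⟨a, ha⟩, fun b => ?_⟩).le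
      have ea := (ev a ha).resolve_left ((fx a).not.1 na)
      simp only [mem_subgroupOf, mem_inf, coe_mul, fx, b.2, mul_mem b.2 ha, true_and]
      have e3 : b * a * m * (b * a)⁻¹ = (b * m * (b : G)⁻¹)⁻¹ := by
        rw [show b * a * m * (b * a)⁻¹ = b * (a * m * a⁻¹) * (b : G)⁻¹ by group, ea]; group
      rw [e3]
      rcases ev b b.2 with e | e <;> rw [e]
      · exact Or.inr ⟨rfl, fun e => ni e.symm⟩
      · exact Or.inl ⟨inv_inv m, fun e => ni e.symm⟩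


end CfsgLib.A10S
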