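import Mathlib
import Cfsg.Agent.Lib.A10S.Tri
import Cfsg.Agent.Lib.Core.MinNormal
import Cfsg.Agent.Lib.Tech.Invol
import Cfsg.Agent.S0205

/-! KILL: `[A, y]` centralizes a normal subgroup of odd order.  See plans/A10S.md. -/

set_option autoImplicit false

namespace CfsgLib.A10S
open Cfsg Subgroup
open scoped commutatorElement

universe u

theorem kill_el {G : Type*} [Group G] [Finite G] (om : Om G) {r : ℕ} (hr : r.Prime) (r2 : r ≠ 2) {M : Subgroup G}
    [M.Normal] (hM : IsElementaryAbelian r M) {A : Subgroup G} {y : G} (hA : IsPGroup 2 A)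
    (yA : y ∈ normalizer (A : Set G)) (sq : ∀ a ∈ A, a ^ 2 ∈ centralizer (M : Set G)) (y3 : y ^ 3 = 1)
    (hw : (∃ t ∈ center G, orderOf t = 2) ∨ 4 ≤ Nat.card ↥(A ⊓ centralizer ({y} : Set G))) :
    ∀ a ∈ A, ⁅a, y⁆ ∈ centralizer (M : Set G) := by
  by_contra! nt
  obtain ⟨m, hm, h1, B, hB, h2, h3⟩ := tri hr r2 hM le_normalizer_of_normal (le_normalizer_of_normal (mem_top y)) yA sq
    y3 nt
  obtain ⟨w, ow, cw⟩ : ∃ w, orderOf w = 2 ∧ Commute (m * y) w := by
    rcases hw with ⟨t, ht, ot⟩ | h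
    · exact ⟨t, ot, mem_center_iff.1 ht _⟩
    obtain ⟨w, hw, ow⟩ := Tech.exists_involution_of_pgroup (T := B ⊓ centralizer {y}) ((hA.to_le hB).to_inf_left)
      fun e => by
        have k1 := relIndex_le_of_le_right (H := B) (inf_le_left (a := A) (b := centralizer {y}))
          index_ne_zero_of_finite
        rw [← inf_relIndex_right, ← inf_assoc, inf_of_le_left hB, e, relIndex_bot_left] at k1
        omega
    exact ⟨w, ow, Commute.mul_left (mem_centralizer_singleton_iff.1 (h3 hw.1)).symm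
      (mem_centralizer_singleton_iff.1 hw.2).symm⟩
  have h4 : ∀ k, (m * y) ^ k ∈ M ↔ y ^ k ∈ M := fun k => by
    rw [← QuotientGroup.eq_one_iff, ← QuotientGroup.eq_one_iff, QuotientGroup.mk_pow, QuotientGroup.mk_mul,
      (QuotientGroup.eq_one_iff m).2 hm, one_mul, QuotientGroup.mk_pow]
  have := Fact.mk hr
  have h5 : orderOf ((m * y) ^ 3) = r := orderOf_eq_prime (hM.2 _ ((h4 3).2 (y3 ▸ one_mem _))) h1
  rw [orderOf_pow] at h5
  have h6 : ∀ n, n ∣ orderOf (m * y) → n.Coprime 2 → n * 2 ∈ A10S.om := fun n h => om.comm cw h ow.symm.dvd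
  have h7 : orderOf (m * y) ≠ 5 := fun e => by
    have k1 := (h4 5).1 (e ▸ pow_orderOf_eq_one (m * y) ▸ one_mem _)
    have k2 := hM.2 _ k1
    rw [← h5, e, ← pow_mul, show 5 * (5 / Nat.gcd 5 3) = 3 * 8 + 1 by norm_num, pow_succ, pow_mul, y3, one_pow,
      one_mul] at k2
    obtain ⟨a, -, ha⟩ := nt
    exact ha (by simp [k2])
  have h8 := (by decide : ∀ k ∈ A10S.om, (k / k.gcd 3).Prime → k / k.gcd 3 ≠ 2 → k ≠ 5 → 9 ∣ k ∨ 15 ∣ k ∨ 7 ∣ k) _
    (om (m * y)) (h5 ▸ hr) (h5 ▸ r2) h7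
  rcases h8 with h | h | h <;> exact absurd (h6 _ h (by norm_num)) (by decide)

theorem kill {G : Type u} [Group G] [Finite G] (om : Om G) (N : Subgroup G) [N.Normal] (odd : Odd (Nat.card N))
    {A : Subgroup G} {y : G} (hA : IsPGroup 2 A) (yA : y ∈ normalizer (A : Set G))
    (sq : ∀ a ∈ A, a ^ 2 ∈ centralizer (N : Set G)) (y3 : y ^ 3 = 1)
    (hw : (∃ t ∈ center G, orderOf t = 2) ∨ 4 ≤ Nat.card ↥(A ⊓ centralizer ({y} : Set G))) :
    ∀ a ∈ A, ⁅a, y⁆ ∈ centralizer (N : Set G) := by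
  induction hn : Nat.card N using Nat.strong_induction_on generalizing G with | _ n ih => ?_
  by_cases h0 : N = ⊥
  · intro a _ x hx
    rw [mem_bot.1 (h0.le hx), one_mul, mul_one]
  have := Agent.S0205.result odd
  obtain ⟨r, M, hr, _, h1, h2, hM, -⟩ := Core.exists_elementaryAbelian_minimal_normal_le h0
  have oM : ∀ k ∈ M, ∀ s, k ^ 2 ^ s = 1 → k = 1 := fun k hk s e => orderOf_eq_one_iff.1 (Nat.Coprime.eq_one_of_dvd
    ((Nat.coprime_two_right.2 (odd.of_dvd_nat (N.orderOf_dvd_natCard (h2 hk)))).pow_right s)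
    (orderOf_dvd_of_pow_eq_one e))
  have r2 : r ≠ 2 := fun e => h1 (eq_bot_iff.2 fun k hk => oM k hk 1 (by rw [pow_one, ← e, hM.2 k hk]))
  have k1 := kill_el om hr r2 hM hA yA (fun a ha => centralizer_le (SetLike.coe_subset_coe.2 h2) (sq a ha)) y3 hw
  let π := QuotientGroup.mk' M
  have hπ : Function.Surjective π := QuotientGroup.mk'_surjective M
  have : (N.map π).Normal := Normal.map ‹_› π hπ
  have k0 : Nat.card (N.map π) < n := by
    rw [← relIndex_ker, QuotientGroup.ker_mk', ← hn, ← Tech.card_mul_relIndex' h2]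
    exact lt_mul_of_one_lt_left (Nat.pos_of_ne_zero index_ne_zero_of_finite) ((one_lt_card_iff_ne_bot M).2 h1)
  have k2 := ih _ k0 (om.quot M) (N.map π)
    (odd.of_dvd_nat (card_map_dvd N π)) (A := A.map π) (y := π y) (hA.map π)
    (le_normalizer_map π (mem_map_of_mem π yA))
    (by rintro _ ⟨a, ha, rfl⟩ _ ⟨x, hx, rfl⟩; rw [← map_pow, ← map_mul, ← map_mul, sq a ha x hx])
    (by rw [← map_pow, y3, map_one]) ?_ rfl
  · intro a ha x hx
    have k3 := k2 _ (mem_map_of_mem π ha) _ (mem_map_of_mem π hx)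
    have k4 : ⁅a, y⁆ ∈ A := by
      simpa only [commutatorElement_def, mul_assoc] using mul_mem ha ((mem_normalizer_iff.1 yA _).1 (inv_mem ha))
    obtain ⟨s, hs⟩ := Tech.isPGroup_iff_mem.1 hA _ k4
    have k5 := k1 a ha
    rw [← map_commutatorElement] at k3
    generalize ⁅a, y⁆ = c at *
    have k6 : x⁻¹ * (c * x * c⁻¹) ∈ M := (QuotientGroup.eq_one_iff _).1 (show π _ = 1 by
      rw [map_mul, map_mul, map_mul, ← k3, map_inv, map_inv]; group)
    have k7 : ∀ j : ℕ, c ^ j * x * (c ^ j)⁻¹ = x * (x⁻¹ * (c * x * c⁻¹)) ^ j := fun j => by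
      induction j with
      | zero => simp
      | succ j ih =>
        have e := k5 _ (pow_mem k6 j)
        calc _ = c * (c ^ j * x * (c ^ j)⁻¹) * c⁻¹ := by group
          _ = c * x * c⁻¹ * (c * (x⁻¹ * (c * x * c⁻¹)) ^ j) * c⁻¹ := by rw [ih]; simp only [mul_assoc, inv_mul_cancel_left]
          _ = _ := by rw [← e, pow_succ']; simp only [mul_assoc, mul_inv_cancel, mul_one, mul_inv_cancel_left]
    have k8 := k7 (2 ^ s)
    rw [hs, one_mul, inv_one, mul_one, left_eq_mul] at k8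
    have k9 := oM _ k6 s k8
    rwa [inv_mul_eq_one, eq_mul_inv_iff_mul_eq] at k9
  · rcases hw with ⟨t, ht, ot⟩ | h
    · have tt := Tech.mul_self_of_orderOf_two ot
      refine .inl ⟨π t, mem_center_iff.2 fun g => ?_, Tech.orderOf_two_of_mul_self (by rw [← map_mul, tt, map_one])
        fun e => Tech.ne_one_of_orderOf_two ot (oM t ((QuotientGroup.eq_one_iff t).1 e) 1 (by rwa [pow_one, pow_two]))⟩
      obtain ⟨g, rfl⟩ := hπ g
      rw [← map_mul, ← map_mul, mem_center_iff.1 ht g]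
    · refine .inr (h.trans (Nat.card_le_card_of_injective (fun a => ⟨π a, mem_map_of_mem π a.2.1, ?_⟩) fun a b e => ?_))
      · exact mem_centralizer_singleton_iff.2 (by rw [← map_mul, ← map_mul, mem_centralizer_singleton_iff.1 a.2.2])
      · obtain ⟨s, hs⟩ := Tech.isPGroup_iff_mem.1 hA _ (mul_mem (inv_mem a.2.1) b.2.1)
        exact Subtype.ext (inv_mul_eq_one.1 (oM _ (QuotientGroup.eq.1 (congrArg Subtype.val e)) s hs))

end CfsgLib.A10S
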