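import Mathlib
import Cfsg.Agent.Lib.A10S.Bas
import Cfsg.Agent.Lib.LAE.Cores

/-! LIFT: lifting over a kernel of odd order.  See plans/A10S.md. -/

set_option autoImplicit false

namespace CfsgLib.A10S
open Cfsg Subgroup CfsgLib.LAE
open scoped commutatorElement

universe u

variable {G H : Type*} [Group G] [Group H] [Finite G]

theorem lift2 (π : G →* H) (odd : Odd (Nat.card π.ker)) {A : Subgroup H} (hA : IsPGroup 2 A) {B : Subgroup G}
    (hB : B.map π = A) : ∃ A' : Subgroup G, IsSylowIn 2 A' B ∧ A'.map π = A ∧ ∀ x ∈ A', π x = 1 → x = 1 := by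
  have := Fact.mk Nat.prime_two
  obtain ⟨A', h⟩ := exists_isSylowIn 2 B
  have k := h.map π
  rw [hB] at k
  refine ⟨A', h, (k.eq_of_le A hA k.le le_rfl).symm, fun x hx e => by_contra fun h1 => ?_⟩
  exact Nat.not_even_iff_odd.2 odd (even_iff_two_dvd.2 ((dvd_orderOf_of_pgroup Nat.prime_two h.isPGroup hx h1).trans
    (π.ker.orderOf_dvd_natCard e)))

/-- a 2-subgroup together with a normalizing element of order 3 lifts over a kernel of odd order -/
theorem lift23 (π : G →* H) (surj : Function.Surjective π) (odd : Odd (Nat.card π.ker)) {A : Subgroup H}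
    (hA : IsPGroup 2 A) {y : H} (y3 : y ^ 3 = 1) (yA : y ∈ normalizer (A : Set H)) :
    ∃ (A' : Subgroup G) (y' : G), IsPGroup 2 A' ∧ A'.map π = A ∧ Nat.card A' = Nat.card A ∧ π y' = y ∧
      (∃ k, y' ^ 3 ^ k = 1) ∧ y' ∈ normalizer (A' : Set G) ∧
      (∀ a ∈ A', π a ∈ centralizer ({y} : Set H) → a ∈ centralizer ({y'} : Set G)) := by
  have := Fact.mk Nat.prime_two
  obtain ⟨A', h, e, inj⟩ := lift2 π odd hA (map_comap_eq_self_of_surjective surj A)
  obtain ⟨y, rfl⟩ := surj y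
  obtain ⟨n, hn, z, hz, rfl⟩ := h.frattini (x := y) (mem_normalizer_iff.2 fun x => by
    simp only [mem_comap, map_mul, map_inv]
    exact mem_normalizer_iff.1 yA _)
  obtain ⟨a, ha, ea⟩ := e.ge hn
  have hz' : a * z ∈ normalizer (A' : Set G) := mul_mem (le_normalizer ha) hz
  have ez : π (a * z) = π (n * z) := by rw [map_mul, ea, map_mul]
  rw [← ez] at y3 ⊢
  generalize a * z = x at *
  obtain ⟨k, r, hr, eo⟩ := Nat.exists_eq_pow_mul_and_not_dvd (orderOf_pos x).ne' 3 (by decide)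
  have e1 : π (x ^ (r * r)) = π x := by
    rw [map_pow, pow_eq_pow_mod _ y3, show r * r % 3 = 1 by
      rw [Nat.mul_mod]; have : r % 3 = 1 ∨ r % 3 = 2 := by omega
      rcases this with e | e <;> rw [e], pow_one]
  have e2 := pow_mem hz' (r * r)
  refine ⟨A', x ^ (r * r), h.isPGroup, e, ?_, e1, ⟨k, ?_⟩, e2, fun b hb c => ?_⟩
  · rw [← e]
    refine Nat.card_congr (Equiv.ofBijective (π.subgroupMap A') ⟨(injective_iff_map_eq_one _).2 fun b f => ?_,
      π.subgroupMap_surjective A'⟩)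
    exact Subtype.ext (inj b b.2 (congrArg Subtype.val f))
  · rw [← pow_mul, show r * r * 3 ^ k = 3 ^ k * r * r by ring, ← eo, pow_mul, pow_orderOf_eq_one, one_pow]
  · rw [← e1, mem_centralizer_singleton_iff] at c
    have := inj _ (mul_mem (conj_mem_of_mem_normalizer e2 hb) (inv_mem hb)) (by
      simp only [map_mul, map_inv]
      rw [← c]; group)
    rw [mul_inv_eq_one, mul_inv_eq_iff_eq_mul] at this
    exact mem_centralizer_singleton_iff.2 this.symm

/-- an element that centralizes a normal `p`-subgroup `K` and a `p`-element `g` modulo `K` centralizes `g` -/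
theorem cent_of_mod {p : ℕ} (hp : p.Prime) {K : Subgroup G} [K.Normal] (hK : IsPGroup p K) {g s : G}
    (hg : ∃ k, g ^ p ^ k = 1) (hs : Nat.Coprime p (orderOf s)) (c : s ∈ centralizer (K : Set G))
    (m : ⁅g, s⁆ ∈ K) : Commute g s := by
  have _ := hp
  have _ := hg
  have c1 : Commute ⁅g, s⁆ s := c _ m
  have key : ∀ n : ℕ, s ^ n * g⁻¹ = g⁻¹ * ⁅g, s⁆ ^ n * s ^ n := fun n => by
    induction n with
    | zero => simp
    | succ n ih =>
      calc _ = s * (s ^ n * g⁻¹) := by rw [pow_succ', mul_assoc]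
        _ = g⁻¹ * ⁅g, s⁆ * (s * ⁅g, s⁆ ^ n) * s ^ n := by rw [ih, commutatorElement_def]; group
        _ = _ := by rw [← (c1.pow_left n).eq, pow_succ', pow_succ']; simp only [mul_assoc]
  have h1 := key (orderOf s)
  rw [pow_orderOf_eq_one, one_mul, mul_one, left_eq_mul] at h1
  obtain ⟨j, hj⟩ := isPGroup_iff_forall_mem.1 hK _ m
  exact commutatorElement_eq_one_iff_commute.1 (orderOf_eq_one_iff.1 (Nat.eq_one_of_dvd_coprimes (hs.pow_left j)
    (orderOf_dvd_of_pow_eq_one hj) (orderOf_dvd_of_pow_eq_one h1)))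

omit [Finite G] in
theorem z44_core (om : Om G) {M : Subgroup G} (hM : IsElementaryAbelian 5 M) {a b m : G} (h : Z44 a b)
    (ha : a ∈ normalizer (M : Set G)) (hb : b ∈ normalizer (M : Set G)) (hm : m ∈ M) (h1 : m ≠ 1)
    (e : a ^ 2 * m * (a ^ 2)⁻¹ = m) : False := by
  have := Fact.mk Nat.prime_two
  have nf : ∀ g : G, g ^ 4 = 1 → g ^ 2 ≠ 1 → ∀ n ∈ M, g * n * g⁻¹ = n → n = 1 := fun g g4 g2 n hn f =>
    by_contra fun n1 => absurd (om.comm (show Commute g n from mul_inv_eq_iff_eq_mul.1 f)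
      (orderOf_eq_prime_pow (p := 2) (n := 1) g2 g4).symm.dvd
      (dvd_orderOf_of_pgroup (by norm_num) (PLocal.elemAb_isPGroup hM) hn n1) (by norm_num)) (by decide)
  have iv : ∀ g ∈ normalizer (M : Set G), g ^ 4 = 1 → g ^ 2 ≠ 1 → g ^ 2 * m * (g ^ 2)⁻¹ = m →
      g * m * g⁻¹ = m⁻¹ := fun g hg g4 g2 f => by
    have k := conj_mem_of_mem_normalizer hg hm
    refine eq_inv_of_mul_eq_one_right (nf g g4 g2 _ (mul_mem hm k) ?_)
    calc _ = g * m * g⁻¹ * (g ^ 2 * m * (g ^ 2)⁻¹) := by group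
      _ = _ := by rw [f, PLocal.elemAb_comm hM k hm]
  have e0 : (a * b ^ 2) ^ 2 = a ^ 2 := by rw [(h.comm.pow_right 2).mul_pow, ← pow_mul, h.b4, mul_one]
  have e1 := iv a ha h.a4 h.a2 e
  have e2 := iv (a * b ^ 2) (mul_mem ha (pow_mem hb 2)) (by rw [show 4 = 2 * 2 by rfl, pow_mul, e0, ← pow_mul, h.a4])
    (e0.symm ▸ h.a2) (e0.symm ▸ e)
  have e3 := iv b hb h.b4 h.b2 (by
    calc _ = a⁻¹ * (a * b ^ 2 * m * (a * b ^ 2)⁻¹) * a := by group
      _ = _ := by rw [e2, ← e1]; group)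
  refine h1 (nf (a * b) (by rw [h.comm.mul_pow, h.a4, h.b4, mul_one]) (fun f => h.ab ?_) m hm ?_)
  · rw [h.comm.mul_pow] at f
    rw [eq_inv_of_mul_eq_one_left f, inv_eq_iff_mul_eq_one, ← pow_add, h.b4]
  · calc _ = a * (b * m * b⁻¹) * a⁻¹ := by group
      _ = (a * m * a⁻¹)⁻¹ := by rw [e3]; group
      _ = _ := by rw [e1, inv_inv]

theorem z44_not5 (om : Om G) (π : G →* H) (surj : Function.Surjective π) (odd : Odd (Nat.card π.ker)) {a b : H}
    (h : Z44 a b) : ¬ 5 ∣ Nat.card π.ker := by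
  intro d5
  have : Fact (Nat.Prime 5) := ⟨by norm_num⟩
  obtain ⟨P, hP⟩ := exists_isSylowIn 5 π.ker
  have hA : IsPGroup 2 (zpowers a ⊔ zpowers b : Subgroup H) := isPGroup_sup
    (Core.isPGroup_zpowers_iff.2 ⟨2, h.a4⟩) (Core.isPGroup_zpowers_iff.2 ⟨2, h.b4⟩)
    (PLocal.le_normalizer_of_le_centralizer (zpowers_le.2 (by
      rintro _ ⟨k, rfl⟩; exact (h.comm.zpow_right k).symm)))
  obtain ⟨A, hS, e, inj⟩ := lift2 π odd hA (B := (zpowers a ⊔ zpowers b).comap π ⊓ normalizer (P : Set G))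
    (le_antisymm ((map_mono inf_le_left).trans (map_comap_le _ _)) fun x hx => by
      obtain ⟨x, rfl⟩ := surj x
      obtain ⟨n, hn, z, hz, rfl⟩ := hP.frattini (x := x) (le_normalizer_of_normal (mem_top x))
      have : π (n * z) = π z := by rw [map_mul, show π n = 1 from hn, one_mul]
      exact ⟨z, ⟨show π z ∈ _ from this ▸ hx, hz⟩, this.symm⟩)
  obtain ⟨a, ha, rfl⟩ := e.ge (mem_sup_left (mem_zpowers a))
  obtain ⟨b, hb, rfl⟩ := e.ge (mem_sup_right (mem_zpowers b))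
  have k : Z44 a b := ⟨commutatorElement_eq_one_iff_commute.1 (inj _ (mul_mem (mul_mem (mul_mem ha hb) (inv_mem ha))
      (inv_mem hb)) (by rw [map_commutatorElement]; exact h.comm.commutator_eq)),
    inj _ (pow_mem ha 4) (by rw [map_pow, h.a4]), inj _ (pow_mem hb 4) (by rw [map_pow, h.b4]),
    fun f => h.a2 (by rw [← map_pow, f, map_one]), fun f => h.b2 (by rw [← map_pow, f, map_one]),
    fun f => h.ab (by rw [← map_pow, f, map_pow])⟩
  have hM := elemAb_omegaZ (p := 5) P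
  have na := normalizer_le_normalizer_omegaZ (p := 5) P (hS.le ha).2
  have nb := normalizer_le_normalizer_omegaZ (p := 5) P (hS.le hb).2
  obtain ⟨⟨m, hm⟩, m1⟩ := ne_bot_iff_exists_ne_one.1 (omegaZ_ne_bot hP.isPGroup (hP.ne_bot d5))
  have iv : ∀ {a b : G}, Z44 a b → a ∈ normalizer (omegaZ 5 P : Set G) → b ∈ normalizer (omegaZ 5 P : Set G) →
      a ^ 2 * m * (a ^ 2)⁻¹ = m⁻¹ := fun {a b} k na nb => by
    have c := conj_mem_of_mem_normalizer (pow_mem na 2) hm
    refine eq_inv_of_mul_eq_one_right (by_contra fun f => z44_core om hM k na nb (mul_mem hm c) f ?_)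
    calc _ = a ^ 2 * m * (a ^ 2)⁻¹ * (a ^ 4 * m * (a ^ 4)⁻¹) := by group
      _ = _ := by rw [k.a4, one_mul, inv_one, mul_one, PLocal.elemAb_comm hM c hm]
  have e1 := iv k na nb
  have e2 := iv ⟨k.comm.symm, k.b4, k.a4, k.b2, k.a2, k.ab.symm⟩ nb na
  refine z44_core om hM (a := a * b) (b := b) ⟨k.comm.mul_left (Commute.refl b),
    by rw [k.comm.mul_pow, k.a4, k.b4, mul_one], k.b4, fun f => k.ab ?_, k.b2, fun f => k.a2 ?_⟩
    (mul_mem na nb) nb hm (fun f => m1 (Subtype.ext f)) ?_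
  · rw [k.comm.mul_pow] at f
    rw [eq_inv_of_mul_eq_one_left f, inv_eq_iff_mul_eq_one, ← pow_add, k.b4]
  · rwa [k.comm.mul_pow, mul_eq_right] at f
  · rw [k.comm.mul_pow]
    calc _ = a ^ 2 * (b ^ 2 * m * (b ^ 2)⁻¹) * (a ^ 2)⁻¹ := by group
      _ = (a ^ 2 * m * (a ^ 2)⁻¹)⁻¹ := by rw [e2]; group
      _ = _ := by rw [e1, inv_inv]

end CfsgLib.A10S
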