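import Mathlib
import Cfsg.Agent.Lib.A10S.Kill
import Cfsg.Agent.Lib.A10S.Lift

/-! E16: the action of `A₄ × E₄` on the kernel.  See plans/A10S.md. -/

set_option autoImplicit false

namespace CfsgLib.A10S
open Cfsg Subgroup
open scoped commutatorElement

universe u

variable {G H : Type u} [Group G] [Group H] [Finite G] [Finite H] {π : G →* H} {S : Subgroup H}

omit [Finite G] [Finite H] in
theorem Rd.card_eq (h : Rd π S) : Nat.card G = Nat.card H * Nat.card π.ker := by
  rw [Subgroup.card_eq_card_quotient_mul_card_subgroup π.ker,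
    Nat.card_congr (QuotientGroup.quotientKerEquivOfSurjective π h.surj).toEquiv]

theorem Rd.card2 (h : Rd π S) : 128 ∣ Nat.card H ∧ ¬ 256 ∣ Nat.card H := by
  have e := h.card_eq
  refine ⟨?_, fun d => h.hg.two (e ▸ d.mul_right _)⟩
  have d := h.hg.d7
  rw [e] at d
  have co : Nat.Coprime 128 (Nat.card π.ker) :=
    Nat.Coprime.pow_left 7 (m := 2) (Nat.coprime_two_left.2 h.odd)
  exact co.dvd_of_dvd_mul_right d

/-- if the centralizer of the kernel is not inside the kernel, it covers `S`, and the kernel is a 3-group -/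
theorem Rd.cover (h : Rd π S) (h7 : 7 ∣ Nat.card S) {c : G} (hc : c ∈ centralizer (π.ker : Set G)) (c1 : π c ≠ 1) :
    S ≤ (centralizer (π.ker : Set G)).map π ∧ IsPGroup 3 π.ker := by
  have hN : ((centralizer (π.ker : Set G)).map π).Normal := Subgroup.Normal.map inferInstance π h.surj
  have le : S ≤ (centralizer (π.ker : Set G)).map π := by
    refine h.min _ hN fun e => c1 ?_
    have : π c ∈ (centralizer (π.ker : Set G)).map π := mem_map_of_mem π hc
    rwa [e, mem_bot] at this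
  refine ⟨le, ?_⟩
  obtain ⟨s, sS, hs⟩ := exists_mem_orderOf (by norm_num) h7
  obtain ⟨x, xC, rfl⟩ := le sS
  have x7 : 7 ∣ orderOf x := hs ▸ orderOf_map_dvd π x
  have n5 : ¬ 5 ∣ Nat.card π.ker := fun d => by
    obtain ⟨k, kK, hk⟩ := exists_mem_orderOf (by norm_num) d
    have cm : Commute k x := xC k kK
    exact absurd (h.hg.om.comm cm hk.symm.dvd x7 (by norm_num)) (by decide)
  have : Fact (Nat.Prime 3) := ⟨by norm_num⟩
  refine IsPGroup.iff_card.2 ⟨_, Nat.eq_prime_pow_of_unique_prime_dvd Nat.card_pos.ne' fun {q} hq d => ?_⟩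
  rcases (h.hg.om.sub π.ker).prime hq d with rfl | rfl | rfl | rfl
  · exact absurd (even_iff_two_dvd.2 d) (Nat.not_even_iff_odd.2 h.odd)
  · rfl
  · exact absurd d n5
  · exact absurd d h.n7

theorem Rd.ae (h : Rd π S) (h7 : 7 ∣ Nat.card S) {A : Subgroup H} {y : H} (k : AE A y) :
    S ≤ (centralizer (π.ker : Set G)).map π ∧ IsPGroup 3 π.ker := by
  have hA : IsPGroup 2 A := IsPGroup.of_card (n := 4) (by rw [k.card]; norm_num)
  have y3 : y ^ 3 = 1 := k.y3 ▸ pow_orderOf_eq_one y
  obtain ⟨A', y', hA', mp, cd, py, ⟨j, hj⟩, yn, cm⟩ := lift23 π h.surj h.odd hA y3 k.nrm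
  -- `A'` meets the kernel trivially
  have triv : ∀ a ∈ A', π a = 1 → a = 1 := fun a aA e => by
    by_contra h1
    have d := dvd_orderOf_of_pgroup (by norm_num) hA' aA h1
    have d2 : orderOf a ∣ Nat.card π.ker := by
      have := orderOf_dvd_natCard (⟨a, e⟩ : π.ker)
      rwa [← Subgroup.orderOf_coe] at this
    exact absurd (even_iff_two_dvd.2 (d.trans d2)) (Nat.not_even_iff_odd.2 h.odd)
  have sq : ∀ a ∈ A', a ^ 2 = 1 := fun a aA =>
    triv _ (pow_mem aA 2) (by rw [map_pow]; exact k.el.2 _ (mp ▸ mem_map_of_mem π aA))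
  -- the fixed points
  have fx : A ⊓ centralizer ({y} : Set H) ≤ (A' ⊓ centralizer ({y'} : Set G)).map π := fun a ha => by
    obtain ⟨b, bA, rfl⟩ : a ∈ A'.map π := mp ▸ ha.1
    exact mem_map_of_mem π ⟨bA, cm b bA ha.2⟩
  have four : 4 ≤ Nat.card ↥(A' ⊓ centralizer ({y'} : Set G)) := by
    rw [← k.fix]
    exact (card_le_of_le fx).trans (Nat.le_of_dvd Nat.card_pos (card_map_dvd _ π))
  -- `y'` has order 3
  have y3' : y' ^ 3 = 1 := by
    have nt : Nontrivial ↥(A' ⊓ centralizer ({y'} : Set G)) := Finite.one_lt_card_iff_nontrivial.1 (by omega)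
    obtain ⟨t, t1⟩ := exists_ne (1 : ↥(A' ⊓ centralizer ({y'} : Set G)))
    have t1' : (t : G) ≠ 1 := fun e => t1 (Subtype.ext e)
    have c : Commute (t : G) y' := mem_centralizer_singleton_iff.1 t.2.2
    have d := dvd_orderOf_of_pgroup (by norm_num) hA' t.2.1 t1'
    have n9 : ¬ 9 ∣ orderOf y' := fun d9 => absurd (h.hg.om.comm c d d9 (by norm_num)) (by decide)
    obtain ⟨i, -, hi⟩ := (Nat.dvd_prime_pow (by norm_num : Nat.Prime 3)).1 (orderOf_dvd_of_pow_eq_one hj)
    rw [← orderOf_dvd_iff_pow_eq_one, hi]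
    rcases i with _ | _ | i
    · norm_num
    · norm_num
    · exact absurd (hi ▸ (Dvd.intro_left (3 ^ i) (by ring) : 9 ∣ 3 ^ (i + 1 + 1))) n9
  have kl := kill h.hg.om π.ker h.odd hA' yn (fun a aA => by rw [sq a aA]; exact one_mem _) y3' (Or.inr four)
  -- some `a` does not commute with `y`
  obtain ⟨a, aA, na⟩ : ∃ a ∈ A, a ∉ centralizer ({y} : Set H) := by
    by_contra hn
    push Not at hn
    have e : A ⊓ centralizer ({y} : Set H) = A := inf_eq_left.2 hn
    have := k.fix
    rw [e, k.card] at this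
    omega
  obtain ⟨b, bA, rfl⟩ : a ∈ A'.map π := mp ▸ aA
  refine h.cover h7 (kl b bA) fun e => na ?_
  rw [map_commutatorElement, py, commutatorElement_eq_one_iff_commute] at e
  exact mem_centralizer_singleton_iff.2 e

/-- if `S = H` then the kernel is trivial -/
theorem Rd.inj (h : Rd π S) (h7 : 7 ∣ Nat.card S) {A : Subgroup H} {y : H} (k : AE A y) (top : S = ⊤) :
    Function.Injective π := by
  obtain ⟨le, h3⟩ := h.ae h7 k
  rw [injective_iff_map_eq_one]
  intro a ha
  by_contra a1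
  obtain ⟨g, hg⟩ := h.hg.all 8 (by decide)
  obtain ⟨c, cC, hc⟩ : π g ∈ (centralizer (π.ker : Set G)).map π := le (top ▸ mem_top _)
  have d3 := dvd_orderOf_of_pgroup (by norm_num) h3 (show a ∈ π.ker from ha) a1
  have d8 : 8 ∣ orderOf c := by
    refine Dvd.dvd.trans ?_ (orderOf_map_dvd π c)
    rw [hc]
    have d : orderOf (π g) ∣ 2 ^ 3 := by
      have := orderOf_map_dvd π g
      rwa [hg] at this
    obtain ⟨i, hi, e⟩ := (Nat.dvd_prime_pow Nat.prime_two).1 d
    by_contra n8
    have d4 : orderOf (π g) ∣ 4 := by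
      rw [e] at n8 ⊢
      interval_cases i <;> simp_all
    have m : g ^ 4 ∈ π.ker := by rw [MonoidHom.mem_ker, map_pow]; exact orderOf_dvd_iff_pow_eq_one.1 d4
    have o : orderOf (g ^ 4) = 2 := by rw [orderOf_pow' g (by norm_num), hg]; norm_num
    have d2 : orderOf (g ^ 4) ∣ Nat.card π.ker := by
      have := orderOf_dvd_natCard (⟨g ^ 4, m⟩ : π.ker)
      rwa [← Subgroup.orderOf_coe] at this
    exact absurd (even_iff_two_dvd.2 (o ▸ d2)) (Nat.not_even_iff_odd.2 h.odd)
  have cm : Commute a c := cC a ha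
  exact absurd (h.hg.om.comm cm d3 d8 (by norm_num)) (by decide)

end CfsgLib.A10S
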