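import Mathlib
import Cfsg.Agent.Lib.A10S.RE16
import Cfsg.Agent.Lib.AltAut.Basic

/-! ALT: the alternating groups.  See plans/A10S.md. -/

set_option autoImplicit false

namespace CfsgLib.A10S
open Cfsg Subgroup
open scoped commutatorElement

universe u

/-- the elementary abelian group of order 16 -/
abbrev V16 : Type := Multiplicative (ZMod 2 × ZMod 2 × ZMod 2 × ZMod 2)

/-- the automorphism of order three of `V16` with four fixed points -/
def rot16 (v : V16) : V16 :=
  Multiplicative.ofAdd ((Multiplicative.toAdd v).2.1, (Multiplicative.toAdd v).1 + (Multiplicative.toAdd v).2.1,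
    (Multiplicative.toAdd v).2.2)

theorem AE.of_hom {X : Type*} [Group X] [Finite X] (ψ : V16 →* X) (inj : Function.Injective ψ) {y : X}
    (y3 : orderOf y = 3) (hσ : ∀ v, y * ψ v * y⁻¹ = ψ (rot16 v)) : AE ψ.range y := by
  have bij : ∀ w : V16, ∃ v, rot16 v = w := by decide +kernel
  refine ⟨⟨inferInstance, ?_⟩, ?_, y3, ?_, ?_⟩
  · rintro _ ⟨v, rfl⟩
    have : ∀ v : V16, v ^ 2 = 1 := by decide +kernel
    rw [← map_pow, this, map_one]
  · rw [← Nat.card_congr (MonoidHom.ofInjective inj).toEquiv, Nat.card_eq_fintype_card]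
    decide +kernel
  · rw [mem_normalizer_iff]
    intro x
    constructor
    · rintro ⟨v, rfl⟩
      exact ⟨_, (hσ v).symm⟩
    · rintro ⟨w, hw⟩
      obtain ⟨v, rfl⟩ := bij w
      rw [← hσ] at hw
      exact ⟨v, by simpa using hw⟩
  · have e : Nat.card {v : V16 // rot16 v = v} = 4 := by
      rw [Nat.card_eq_fintype_card]
      decide +kernel
    rw [← e]
    symm
    refine Nat.card_congr (Equiv.ofBijective (fun v => ⟨ψ v.1, ⟨v.1, rfl⟩, ?_⟩) ⟨?_, ?_⟩)
    · have := hσ v.1
      rw [v.2, mul_inv_eq_iff_eq_mul] at this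
      exact mem_centralizer_singleton_iff.2 this.symm
    · intro a b e
      exact Subtype.ext (inj (congrArg Subtype.val e))
    · rintro ⟨_, ⟨v, rfl⟩, hv⟩
      have c := mem_centralizer_singleton_iff.1 hv
      refine ⟨⟨v, inj ?_⟩, rfl⟩
      rw [← hσ, ← c, mul_inv_cancel_right]

open Equiv in
/-- `V₄ × V₄` on the first eight points -/
def vv (n : ℕ) (v : V16) : Perm (Fin (n + 8)) :=
  (swap 0 1 * swap 2 3) ^ (Multiplicative.toAdd v).1.val * (swap 1 2 * swap 0 3) ^ (Multiplicative.toAdd v).2.1.val *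
    (swap 4 5 * swap 6 7) ^ (Multiplicative.toAdd v).2.2.1.val *
    (swap 4 6 * swap 5 7) ^ (Multiplicative.toAdd v).2.2.2.val

open Equiv in
theorem exists_ae {X : Type*} [Group X] [Finite X] {n : ℕ} (hn : n = 0 ∨ n = 2) (ι : An (n + 8) →* X)
    (inj : Function.Injective ι) : ∃ (A : Subgroup X) (y : X), AE A y := by
  have mul : ∀ v w, vv n (v * w) = vv n v * vv n w := by
    rcases hn with rfl | rfl <;> decide +kernel
  have mem : ∀ v, vv n v ∈ alternatingGroup (Fin (n + 8)) := by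
    simp only [Perm.mem_alternatingGroup]
    rcases hn with rfl | rfl <;> decide +kernel
  have one : ∀ v, vv n v = 1 → v = 1 := by
    rcases hn with rfl | rfl <;> decide +kernel
  have my : (swap 0 1 * swap 1 2 : Perm (Fin (n + 8))) ∈ alternatingGroup (Fin (n + 8)) := by
    simp only [Perm.mem_alternatingGroup]
    rcases hn with rfl | rfl <;> decide +kernel
  have y3 : orderOf (swap 0 1 * swap 1 2 : Perm (Fin (n + 8))) = 3 := by
    have : Fact (Nat.Prime 3) := ⟨by norm_num⟩
    rcases hn with rfl | rfl <;> exact orderOf_eq_prime (by decide +kernel) (by decide +kernel)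
  have cj : ∀ v, (swap 0 1 * swap 1 2 : Perm (Fin (n + 8))) * vv n v * (swap 0 1 * swap 1 2)⁻¹ = vv n (rot16 v) := by
    rcases hn with rfl | rfl <;> decide +kernel
  let ψ : V16 →* An (n + 8) := (MonoidHom.mk' (vv n) mul).codRestrict _ mem
  have ψi : Function.Injective ψ := (injective_iff_map_eq_one ψ).2 fun v e => one v (congrArg Subtype.val e)
  refine ⟨_, ι ⟨_, my⟩, AE.of_hom (ι.comp ψ) (inj.comp ψi) ?_ fun v => ?_⟩
  · rw [orderOf_injective ι inj, ← Subgroup.orderOf_coe, y3]
  · simp only [MonoidHom.comp_apply, ← map_inv, ← map_mul]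
    exact congrArg ι (Subtype.ext (cj v))

theorem card_An (n : ℕ) (h : 2 ≤ n) : Nat.card (An n) = n.factorial / 2 := by
  have : Nontrivial (Fin n) := Fin.nontrivial_iff_two_le.2 h
  rw [nat_card_alternatingGroup, Nat.card_eq_fintype_card, Fintype.card_fin]

theorem eq_or_top {n : ℕ} (h : 2 ≤ n) {K : Subgroup (Equiv.Perm (Fin n))} (le : alternatingGroup (Fin n) ≤ K) :
    K = alternatingGroup (Fin n) ∨ K = ⊤ := by
  have : Nontrivial (Fin n) := Fin.nontrivial_iff_two_le.2 h
  have d := index_dvd_of_le le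
  rw [alternatingGroup.index_eq_two] at d
  rcases (Nat.dvd_prime Nat.prime_two).1 d with e | e
  · exact Or.inr (index_eq_one.1 e)
  · exact Or.inl (Equiv.Perm.eq_alternatingGroup_of_index_eq_two e)

open Equiv Equiv.Perm in
/-- a 3-element of `S₈` commutes with an involution of `A₈` -/
theorem s8_inv {σ : Perm (Fin 8)} (h : σ ^ 9 = 1) :
    ∃ τ ∈ alternatingGroup (Fin 8), τ ^ 2 = 1 ∧ τ ≠ 1 ∧ Commute σ τ := by
  have key : ∀ ρ τ : Perm (Fin 8), σ.cycleType = ρ.cycleType → sign τ = 1 → τ ^ 2 = 1 → τ ≠ 1 → ρ * τ = τ * ρ →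
      ∃ τ ∈ alternatingGroup (Fin 8), τ ^ 2 = 1 ∧ τ ≠ 1 ∧ Commute σ τ := by
    intro ρ τ e s t2 t1 c
    obtain ⟨g, rfl⟩ := isConj_iff.1 (isConj_iff_cycleType_eq.2 e.symm)
    refine ⟨g * τ * g⁻¹, (inferInstance : (alternatingGroup (Fin 8)).Normal).conj_mem _ s g, ?_, ?_, ?_⟩
    · rw [conj_pow, t2]; simp
    · intro e; exact t1 (by simpa using e)
    · change _ * _ = _ * _
      rw [conj_mul, conj_mul, c]
  have all : ∀ c ∈ σ.cycleType, c = 3 := fun c hc => by
    have d : c ∣ 9 := (dvd_of_mem_cycleType hc).trans (orderOf_dvd_of_pow_eq_one h)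
    have l2 := two_le_of_mem_cycleType hc
    have l8 : c ≤ 8 := (le_card_support_of_mem_cycleType hc).trans (by simpa using Finset.card_le_univ σ.support)
    interval_cases c <;> simp_all
  have rp := Multiset.eq_replicate_card.2 all
  have sm := σ.sum_cycleType_le
  rw [rp, Multiset.sum_replicate, smul_eq_mul, Fintype.card_fin] at sm
  have : Fact (Nat.Prime 3) := ⟨by norm_num⟩
  have ct : ∀ ρ : Perm (Fin 8), ρ ^ 3 = 1 → ρ.support.card = 3 * σ.cycleType.card → σ.cycleType = ρ.cycleType := by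
    intro ρ r3 e
    have rp' := Multiset.eq_replicate_card.2 (pow_prime_eq_one_iff.1 r3)
    have s := ρ.sum_cycleType
    rw [rp', Multiset.sum_replicate, smul_eq_mul, e] at s
    rw [rp, rp']
    congr 1
    omega
  obtain e | e | e : σ.cycleType.card = 0 ∨ σ.cycleType.card = 1 ∨ σ.cycleType.card = 2 := by omega
  · exact key 1 (swap 0 1 * swap 2 3) (ct _ (by simp) (by rw [e]; simp)) (by decide +kernel) (by decide +kernel)
      (by decide +kernel) (by simp)
  · exact key (swap 0 1 * swap 1 2) (swap 3 4 * swap 5 6) (ct _ (by decide +kernel) (by rw [e]; decide +kernel))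
      (by decide +kernel) (by decide +kernel) (by decide +kernel) (by decide +kernel)
  · exact key (swap 0 1 * swap 1 2 * (swap 3 4 * swap 4 5)) (swap 0 3 * swap 1 4 * swap 2 5 * swap 6 7)
      (ct _ (by decide +kernel) (by rw [e]; decide +kernel))
      (by decide +kernel) (by decide +kernel) (by decide +kernel) (by decide +kernel)

variable {G H : Type u} [Group G] [Group H] [Finite G] [Finite H] {π : G →* H} {S : Subgroup H}

omit [Finite G] [Finite H] in
theorem Rd.perm (h : Rd π S) {n : ℕ} (hn : 7 ≤ n) (e : S ≃* An n) :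
    ∃ f : H →* Equiv.Perm (Fin n), Function.Injective f ∧ (∀ s : S, f s = e s) ∧ alternatingGroup (Fin n) ≤ f.range := by
  have := h.nrm
  obtain ⟨f, fi, hf, -⟩ := AltAut.exists_hom_perm_of_ne_six (by simp; omega) (by simp; omega) e h.cen
  exact ⟨f, fi, hf, fun a ha => ⟨e.symm ⟨a, ha⟩, by rw [hf, e.apply_symm_apply]⟩⟩

theorem Rd.a8 (h : Rd π S) (e : S ≃* An 8) : False := by
  have h7 : 7 ∣ Nat.card S := by rw [Nat.card_congr e.toEquiv, card_An 8 (by norm_num)]; decide
  obtain ⟨A, y, k⟩ := exists_ae (n := 0) (Or.inl rfl) (S.subtype.comp e.symm.toMonoidHom)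
    (S.subtype_injective.comp e.symm.injective)
  obtain ⟨le, h3⟩ := h.ae h7 k
  obtain ⟨f, fi, hf, -⟩ := h.perm (by norm_num) e
  obtain ⟨g, hg⟩ := h.hg.all 9 (by decide)
  have g9 : g ^ 9 = 1 := hg ▸ pow_orderOf_eq_one g
  obtain ⟨τ, τA, t2, t1, c⟩ := s8_inv (σ := f (π g)) (by rw [← map_pow, ← map_pow, g9, map_one, map_one])
  have fs : f (e.symm ⟨τ, τA⟩ : S) = τ := by rw [hf, e.apply_symm_apply]
  obtain ⟨x, xC, hx⟩ := le (e.symm ⟨τ, τA⟩).2
  rw [← hx] at fs
  have x2 : π x ^ 2 = 1 := fi (by rw [map_pow, fs, t2, map_one])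
  obtain ⟨j, hj⟩ := h3 ⟨x ^ 2, by rw [MonoidHom.mem_ker, map_pow, x2]⟩
  have hj' : (x ^ 2) ^ 3 ^ j = 1 := by simpa using congrArg Subtype.val hj
  have s2 : (x ^ 3 ^ j) ^ 2 = 1 := by rw [← pow_mul, mul_comm, pow_mul, hj']
  have ps : π (x ^ 3 ^ j) = π x := by
    obtain ⟨i, hi⟩ : Odd (3 ^ j) := Odd.pow (by decide)
    rw [map_pow, hi, pow_succ, pow_mul, x2, one_pow, one_mul]
  have s1 : x ^ 3 ^ j ≠ 1 := fun e => t1 (by rw [← fs, ← ps, e, map_one, map_one])
  have o2 : orderOf (x ^ 3 ^ j) = 2 := orderOf_eq_prime s2 s1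
  have cm : Commute g (x ^ 3 ^ j) := by
    refine cent_of_mod (p := 3) (by norm_num) h3 ⟨2, g9⟩ (by rw [o2]; norm_num) (pow_mem xC _) ?_
    rw [MonoidHom.mem_ker, map_commutatorElement, ps, commutatorElement_eq_one_iff_commute]
    exact fi (by rw [map_mul, map_mul, fs, c.eq])
  exact absurd (h.hg.om.comm cm hg.symm.dvd o2.symm.dvd (by norm_num)) (by decide)

open Equiv in
theorem Rd.a9 (h : Rd π S) (e : S ≃* An 9) : False := by
  obtain ⟨f, fi, -, le⟩ := h.perm (by norm_num) e
  have cd : Nat.card H = Nat.card f.range := Nat.card_congr (MonoidHom.ofInjective fi).toEquiv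
  rcases eq_or_top (by norm_num) le with k | k
  · have d := h.card2.1
    rw [cd, k, card_An 9 (by norm_num)] at d
    exact absurd d (by decide)
  · have om : Om (Perm (Fin 9)) := (h.hg.om.of_surj π h.surj).of_surj f (MonoidHom.range_eq_top.1 k)
    have : Fact (Nat.Prime 7) := ⟨by norm_num⟩
    have o7 : orderOf (swap 0 1 * swap 1 2 * swap 2 3 * swap 3 4 * swap 4 5 * swap 5 6 : Perm (Fin 9)) = 7 :=
      orderOf_eq_prime (by decide +kernel) (by decide +kernel)
    have o2 : orderOf (swap 7 8 : Perm (Fin 9)) = 2 := orderOf_eq_prime (by decide +kernel) (by decide +kernel)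
    exact absurd (om.comm (show _ * _ = _ * _ by decide +kernel) o7.symm.dvd o2.symm.dvd (by norm_num)) (by decide)

theorem Rd.a10 (h : Rd π S) (e : S ≃* An 10) : Nonempty (G ≃* An 10) := by
  have h7 : 7 ∣ Nat.card S := by rw [Nat.card_congr e.toEquiv, card_An 10 (by norm_num)]; decide
  obtain ⟨A, y, k⟩ := exists_ae (n := 2) (Or.inr rfl) (S.subtype.comp e.symm.toMonoidHom)
    (S.subtype_injective.comp e.symm.injective)
  obtain ⟨f, fi, hf, le⟩ := h.perm (by norm_num) e
  have cd : Nat.card H = Nat.card f.range := Nat.card_congr (MonoidHom.ofInjective fi).toEquiv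
  have top : S = ⊤ := by
    rcases eq_or_top (by norm_num) le with k | k
    · rw [eq_top_iff]
      intro x _
      have m : f x ∈ alternatingGroup (Fin 10) := k ▸ ⟨x, rfl⟩
      have : f (e.symm ⟨_, m⟩ : S) = f x := by rw [hf, e.apply_symm_apply]
      exact fi this ▸ (e.symm ⟨_, m⟩).2
    · refine absurd ?_ h.card2.2
      rw [cd, k, card_top, Nat.card_perm, Nat.card_eq_fintype_card, Fintype.card_fin]
      decide
  have inj := h.inj h7 k top
  exact ⟨(MulEquiv.ofBijective π ⟨inj, h.surj⟩).trans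
    (topEquiv.symm.trans ((MulEquiv.subgroupCongr top.symm).trans e))⟩

end CfsgLib.A10S
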