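import Mathlib
import Cfsg.Agent.Lib.A10S.Defs
import Cfsg.Agent.Lib.Mathieu.L34
import Cfsg.Agent.Lib.Tech.SylowIn
import Cfsg.Agent.S2470

/-! L34A: facts on `L₃(4)`.  See plans/A10S.md. -/

set_option autoImplicit false

namespace CfsgLib.A10S
open Cfsg Subgroup
open scoped commutatorElement

universe u

variable {X : Type*} [Group X]

theorem L34.m21 (h : L34 X) : Nonempty (Mathieu.M21 ≃* X) := by
  obtain ⟨F, _, _, hF, ⟨e⟩⟩ := h
  obtain ⟨f⟩ := Mathieu.psl3_equiv_M21 F hF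
  exact ⟨(e.trans f).symm⟩

theorem L34.card (h : L34 X) : Nat.card X = 20160 :=
  h.m21.elim fun e => (Nat.card_congr e.toEquiv).symm.trans Mathieu.card_M21

open Mathieu in
theorem l34a_el {a : ℕ} (h : inStab [] [23, 0, 1] a = true) : ∃ g : M21, code g = a :=
  let ⟨g, hg, e⟩ := has_M21 h; ⟨⟨g, hg⟩, e⟩

open Mathieu in
theorem l34a_eq {g h : M21} : g = h ↔ code g = code h := by rw [code_injective.eq_iff, Subtype.ext_iff]

open Mathieu in
theorem L34.z44 (h : L34 X) : ∃ a b : X, Z44 a b := by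
  obtain ⟨e⟩ := h.m21
  obtain ⟨a, ha⟩ := l34a_el (a := 973970792660502034490951479562733600) (by decide +kernel)
  obtain ⟨b, hb⟩ := l34a_el (a := 968513159406364938938967454302537760) (by decide +kernel)
  refine ⟨e a, e b, ?_, ?_, ?_, ?_, ?_, ?_⟩ <;>
  · simp only [commute_iff_eq, ← map_mul, ← map_pow, Ne, map_eq_one_iff e e.injective, e.injective.eq_iff, l34a_eq,
      coe_mul, coe_pow, coe_one, code_mul, code_pow, code_one, ha, hb]
    decide +kernel

theorem L34.not10 (h : L34 X) (g : X) : orderOf g ≠ 10 := fun hg => by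
  have h1 := h.card
  obtain ⟨F, _, _, hF, ⟨e⟩⟩ := h
  have : CharP F 2 := charP_of_card_eq_prime_pow (p := 2) (f := 2) hF
  refine (Agent.S2470.result (F := F) 2 3 (by norm_num) (by norm_num) 5 (by norm_num) (by norm_num) (by norm_num)
    (by rw [← Nat.card_congr e.toEquiv, h1]; norm_num) _ rfl).2 (.inl ?_) ⟨e g, (e.orderOf_eq g).trans hg⟩
  have : Fact (Nat.Prime 5) := ⟨by norm_num⟩
  rw [hF, orderOf_eq_prime (p := 2) (by decide) (by decide)]
  norm_num

theorem l34a_real [Finite X] (h : ¬ 27 ∣ Nat.card X) {u v s : X} (c : u * v = v * u) (u3 : u ^ 3 = 1) (u1 : u ≠ 1)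
    (v3 : v ^ 3 = 1) (uv : ∀ i < 3, u ^ i ≠ v) (su : u * (s * u) = s) (sv : v * (s * v) = s) (g : X)
    (hg : ∃ k, g ^ 3 ^ k = 1) : g ^ 3 = 1 ∧ IsConj g g⁻¹ := by
  classical
  have : Fact (Nat.Prime 3) := ⟨by norm_num⟩
  have h1 := isMulCommutative_closure (k := {u, v}) (by simp [c])
  have h2 : ∀ x ∈ closure {u, v}, x ^ 3 = 1 ∧ s * x * s⁻¹ = x⁻¹ := fun x hx => by
    induction hx using closure_induction with
    | mem x hx =>
      rcases hx with rfl | rfl
      exacts [⟨u3, by rw [eq_inv_mul_of_mul_eq su]; group⟩, ⟨v3, by rw [eq_inv_mul_of_mul_eq sv]; group⟩]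
    | one => simp
    | mul x y hx hy k1 k2 =>
      have k : Commute x y := setLike_mul_comm hx hy
      exact ⟨by rw [k.mul_pow, k1.1, k2.1, one_mul], by rw [← conj_mul, k1.2, k2.2, k.eq, mul_inv_rev]⟩
    | inv x _ k => exact ⟨by rw [inv_pow, k.1, inv_one], by rw [← conj_inv, k.2]⟩
  have h3 : IsPGroup 3 (closure {u, v} : Subgroup X) := Tech.isPGroup_iff_mem.2 fun x hx => ⟨1, (h2 x hx).1⟩
  obtain ⟨T, hT, h4⟩ := Tech.exists_isSylowIn_ge h3 le_top
  have ou := orderOf_eq_prime u3 u1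
  have h5 : Nat.card (zpowers u) < Nat.card (closure {u, v} : Subgroup X) :=
    (card_le_of_le (zpowers_le.2 (subset_closure (by simp)))).lt_of_ne fun e => by
      have k := (eq_of_le_of_card_ge (zpowers_le.2 (subset_closure (by simp))) e.ge).ge
        (subset_closure (show v ∈ ({u, v} : Set X) by simp))
      obtain ⟨i, hi, e⟩ := Finset.mem_image.1 (mem_zpowers_iff_mem_range_orderOf.1 k)
      exact uv i (by simpa [ou] using hi) e
  obtain ⟨i, hi⟩ := h3.exists_card_eq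
  obtain ⟨j, hj⟩ := hT.pgroup.exists_card_eq
  have h6 : j < 3 := by
    by_contra! k
    exact h ((hj ▸ pow_dvd_pow 3 k :).trans T.card_subgroup_dvd_card)
  rw [Nat.card_zpowers, ou, hi, ← pow_one 3, ← pow_mul, one_mul, Nat.pow_lt_pow_iff_right (by norm_num)] at h5
  obtain rfl := eq_of_le_of_card_ge h4 (by rw [hi, hj]; exact Nat.pow_le_pow_right (by norm_num) (by omega))
  obtain ⟨k, hk⟩ := hg
  obtain ⟨w, -, hw⟩ := hT.exists_conj_mem (mem_top g) (Tech.isPGroup_zpowers_of_pow hk)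
  obtain ⟨k1, k2⟩ := h2 _ hw
  refine ⟨by rwa [conj_pow, conj_eq_one_iff] at k1, isConj_iff.2 ⟨w⁻¹ * s * w, ?_⟩⟩
  calc _ = w⁻¹ * (s * (w * g * w⁻¹) * s⁻¹) * w := by group
    _ = _ := by rw [k2]; group

open Mathieu in
theorem L34.real3 (h : L34 X) (g : X) (hg : ∃ k, g ^ 3 ^ k = 1) : g ^ 3 = 1 ∧ IsConj g g⁻¹ := by
  obtain ⟨e⟩ := h.m21
  have := Finite.of_equiv _ e.toEquiv
  obtain ⟨a, ha⟩ := l34a_el (a := 976531636853126291160407323722221600) (by decide +kernel)
  obtain ⟨b, hb⟩ := l34a_el (a := 974428684320632006772068527414316064) (by decide +kernel)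
  obtain ⟨s, hs⟩ := l34a_el (a := 977839867786251717525204161457686560) (by decide +kernel)
  refine l34a_real (u := e a) (v := e b) (s := e s) (by rw [h.card]; norm_num) ?_ ?_ ?_ ?_ ?_ ?_ ?_ g hg <;>
  · simp only [← map_mul, ← map_pow, Ne, map_eq_one_iff e e.injective, e.injective.eq_iff, l34a_eq,
      coe_mul, coe_pow, coe_one, code_mul, code_pow, code_one, ha, hb, hs]
    decide +kernel

end CfsgLib.A10S
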