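import Mathlib
import Cfsg.Agent.Lib.A10S.RL34A
import Cfsg.Agent.Lib.D4.L34
import Cfsg.Agent.Lib.Dickson.Cayley
import Cfsg.Agent.Lib.J4T.KGen

/-! L34B: an involutory automorphism of `L₃(4)` that centralizes an element of order five.  See plans/A10S.md. -/

set_option autoImplicit false

namespace CfsgLib.A10S
open Cfsg Subgroup
open scoped commutatorElement

universe u

section
open Matrix CfsgLib.Classical CfsgLib.Fusion CfsgLib.D4.L34
open scoped MatrixGroups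

/-- an element of order five in the corners -/
def lbG : SL(3, GF4) := ⟨!![0, 0, ⟨1, 1⟩; 0, 1, 0; ⟨0, 1⟩, 0, ⟨0, 1⟩], by decide +kernel⟩
/-- a transvection inverting `lbG` -/
def lbS : SL(3, GF4) := ut3 (0, 0, 1)
/-- a second transvection of the root group -/
def lbU : SL(3, GF4) := ut3 (0, 0, ⟨0, 1⟩)

theorem lb_lift {x c : SL(3, GF4)} (c2 : c * c = 1) (h : Commute (mk x) (mk c)) : Commute x c := by
  have h1 : x * c * x⁻¹ * c⁻¹ ∈ Subgroup.center SL(3, GF4) := by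
    rw [← mk_eq_one, map_mul, map_mul, map_mul, map_inv, map_inv, h.eq, mul_inv_cancel_right, mul_inv_cancel]
  obtain ⟨ζ, e⟩ : ∃ ζ, ζ = x * c * x⁻¹ * c⁻¹ := ⟨_, rfl⟩
  rw [← e] at h1
  have h3 : ζ ^ 3 = 1 := by
    obtain ⟨r, hr, e⟩ := Matrix.SpecialLinearGroup.mem_center_iff.1 h1
    exact Subtype.ext (by rw [Matrix.SpecialLinearGroup.coe_pow, ← e, ← map_pow, show r ^ 3 = 1 from hr, map_one]; rfl)
  have h2 : ζ * ζ = 1 := by
    have h4 : ζ * c * (ζ * c) = 1 := by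
      rw [e, inv_mul_cancel_right, conj_mul, c2, mul_one, mul_inv_cancel]
    rwa [(show Commute c ζ from Subgroup.mem_center_iff.1 h1 c).mul_mul_mul_comm, c2, mul_one] at h4
  rw [pow_three', h2, one_mul, e, mul_inv_eq_one, mul_inv_eq_iff_eq_mul] at h3
  exact h3

theorem lb_U {y : PSL(3, GF4)} (h : Commute y (mk lbS)) : Commute y (mk lbU) := by
  obtain ⟨x, rfl⟩ := QuotientGroup.mk'_surjective _ y
  have h1 : Commute x.1 lbS.1 := congrArg Subtype.val (lb_lift (by decide +kernel) h)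
  have h2 : lbU.1 = 1 + (⟨0, 1⟩ : GF4) • (lbS.1 - 1) := by decide +kernel
  refine Commute.map (show x * lbU = lbU * x from Subtype.ext ?_) _
  change x.1 * lbU.1 = lbU.1 * x.1
  rw [h2]
  exact (Commute.one_right _).add_right ((h1.sub_right (Commute.one_right _)).smul_right _)

theorem lb_key : ∀ a c : GF4, (!![a, 0, c; 0, a, 0; 0, 0, a] : Matrix (Fin 3) (Fin 3) GF4).det = 1 →
    lbS.1 * (!![a, 0, c; 0, a, 0; 0, 0, a] * lbG.1) ^ 3 = (!![a, 0, c; 0, a, 0; 0, 0, a] * lbG.1) ^ 3 * lbS.1 →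
    !![a, 0, c; 0, a, 0; 0, 0, a] * lbU.1 = a • 1 := by
  decide +kernel

theorem lb_rel : lbG ^ 5 = 1 ∧ lbS * lbG ≠ lbG * lbS ∧ lbS * lbS = 1 ∧ lbG * lbS * lbG = lbS ∧ lbU * lbU = 1 ∧
    (lbU * lbG) ^ 3 = 1 ∧ lbG * lbU ≠ lbU * lbG := by
  decide +kernel

theorem lb_core (β : MulAut PSL(3, GF4)) (h2 : ∀ x, β (β x) = x) (fa : β (mk lbG) = mk lbG) :
    β (mk lbU) = mk lbU := by
  have : Fact (Nat.Prime 5) := ⟨by norm_num⟩
  obtain ⟨r1, r2, r3, r4, r5, r6, -⟩ := lb_rel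
  have o5 : orderOf (mk lbG) = 5 := order_mk ⟨r1, r2⟩
  have e1 : mk lbG * mk lbS * mk lbG = mk lbS := by rw [← map_mul, ← map_mul, r4]
  have e2 := congrArg β e1
  rw [map_mul, map_mul, fa] at e2
  obtain ⟨c, hc⟩ : ∃ c, c = (mk lbS)⁻¹ * β (mk lbS) := ⟨_, rfl⟩
  have cc : Commute c (mk lbG) := by
    rw [hc, commute_iff_eq]
    calc _ = (mk lbG * mk lbS)⁻¹ * (mk lbG * β (mk lbS) * mk lbG) := by group
      _ = _ := by rw [e2, eq_mul_inv_of_mul_eq e1]; group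
  have c5 : c ^ 5 = 1 := by
    have k : ∀ m n : ℕ, c ^ n = 1 → (c * mk lbG) ^ m = 1 → 5 ∣ n * m := fun m n h h' => by
      have := congrArg (· ^ n) h'
      simp only [one_pow] at this
      rwa [← pow_mul, mul_comm m, cc.mul_pow, pow_mul, h, one_pow, one_mul, ← orderOf_dvd_iff_pow_eq_one,
        o5] at this
    rcases pw (c * mk lbG) with h' | h' | h' | h'
    on_goal 3 => rwa [cc.mul_pow, ← map_pow, r1, map_one, mul_one] at h'
    all_goals
      rcases pw c with h | h | h | h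
      on_goal 3 => exact h
      all_goals exact absurd (k _ _ h h') (by norm_num)
  have fs : β (mk lbS) = mk lbS := by
    obtain ⟨i, hi⟩ := J4T.K.mem_zpowers_of_comm (K := ⊤) this.out o5 c5 cc.symm (mem_top _) (mem_top _)
      (by rw [Subgroup.card_top]; exact card_ne (by norm_num))
    have h3 : β c = c := by rw [← hi, map_zpow, fa]
    have h4 : c * c = 1 := by
      nth_rewrite 1 [← h3]
      rw [hc, map_mul, map_inv, h2]; group
    rw [show 5 = 2 * 2 + 1 from rfl, pow_succ, pow_mul, sq c, h4, one_pow, one_mul, hc, inv_mul_eq_one] at c5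
    exact c5.symm
  obtain ⟨x, hx⟩ := QuotientGroup.mk'_surjective _ (β (mk lbU))
  have k : ∀ c : SL(3, GF4), c * c = 1 ∧ c * lbS = lbS * c → x.1 * c.1 = c.1 * x.1 := fun c h => by
    have h3 := (lb_U (fs ▸ (Commute.map (f := D4.L34.mk) h.2).map β)).map β
    rw [h2, ← hx] at h3
    exact congrArg Subtype.val (lb_lift h.1 h3.symm)
  have k1 := k (ut3 (1, 0, 0)) (by decide +kernel)
  have k2 := k (ut3 (0, 1, 0)) (by decide +kernel)
  have ex : x.1 = !![x.1 0 0, 0, x.1 0 2; 0, x.1 0 0, 0; 0, 0, x.1 0 0] := by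
    have a1 := congrFun₂ k1 0 0
    have a2 := congrFun₂ k1 0 1
    have a3 := congrFun₂ k1 0 2
    have a4 := congrFun₂ k1 2 1
    have b1 := congrFun₂ k2 0 2
    have b2 := congrFun₂ k2 1 1
    have b3 := congrFun₂ k2 1 2
    simp [ut3_val, mul_apply, Fin.sum_univ_succ, add_comm] at a1 a2 a3 a4 b1 b2 b3
    rw [b1, zero_add, add_zero] at a2
    rw [a3, zero_add, add_zero, ← a2] at b3
    ext1 i j
    fin_cases i <;> fin_cases j <;> simp [a1, ← a2, a3, a4, b1, b2, ← b3]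
  have h3 : (x * lbG) ^ 3 ∈ Subgroup.center SL(3, GF4) := by
    rw [← mk_eq_one, map_pow, map_mul, hx, ← fa, ← map_mul, ← map_pow, ← map_mul, ← map_pow, r6, map_one, map_one]
  have h4 := lb_key (x.1 0 0) (x.1 0 2) (ex ▸ x.2)
    (ex ▸ congrArg Subtype.val (Subgroup.mem_center_iff.1 h3 lbS))
  rw [← ex] at h4
  have h5 : mk x * mk lbU = 1 := by
    rw [← map_mul, mk_eq_one, Subgroup.mem_center_iff]
    intro y
    ext1
    simp [h4]
  rw [← hx, eq_inv_of_mul_eq_one_left h5, inv_eq_iff_mul_eq_one, ← map_mul, r5, map_one]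

end

open Matrix CfsgLib.Classical CfsgLib.D4.L34 in
theorem L34.inv {X : Type*} [Group X] (h : L34 X) (β : MulAut X) (h2 : β ^ 2 = 1) {a : X} (a5 : orderOf a = 5)
    (fa : β a = a) : ∃ L : Subgroup X, a ∈ L ∧ Nonempty (L ≃* An 5) ∧ ∀ x ∈ L, β x = x := by
  have : Fact (Nat.Prime 5) := ⟨by norm_num⟩
  have : Fact (Nat.Prime 2) := ⟨by norm_num⟩
  obtain ⟨F, _, _, hF, ⟨e⟩⟩ := h
  let e' := e.trans (pslMapEquiv (FiniteField.ringEquivOfCardEq (hF.trans card_GF4.symm)))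
  obtain ⟨r1, r2, -, -, r5, r6, r7⟩ := lb_rel
  have o5 : orderOf (mk lbG) = 5 := order_mk ⟨r1, r2⟩
  obtain ⟨k, hk⟩ := Perm.exists_conj_mem_zpowers_of_not_sq_dvd (p := 5) (by norm_num) (card_ne (by norm_num)) o5
    ((e'.orderOf_eq a).trans a5)
  let ψ := (e'.trans (MulAut.conj k)).symm
  have ha : a ∈ zpowers (ψ (mk lbG)) := by
    obtain ⟨i, hi⟩ := hk
    exact ⟨i, by rw [← ψ.apply_symm_apply a]; exact (map_zpow ψ _ _).symm.trans (congrArg ψ hi)⟩
  have o5' : orderOf (ψ (mk lbG)) = 5 := (ψ.orderOf_eq _).trans o5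
  have fg : β (ψ (mk lbG)) = ψ (mk lbG) := by
    have : Finite (zpowers (ψ (mk lbG))) := Nat.finite_of_card_ne_zero (by rw [Nat.card_zpowers, o5']; omega)
    obtain ⟨i, hi⟩ := (eq_of_le_of_card_ge (zpowers_le.2 ha) (by
      rw [Nat.card_zpowers, Nat.card_zpowers, o5', a5])).ge (mem_zpowers _)
    rw [← hi, map_zpow, fa]
  have fu : β (ψ (mk lbU)) = ψ (mk lbU) := ψ.symm_apply_eq.1 (lb_core ((ψ.trans β).trans ψ.symm) (fun x => by
    simp only [MulEquiv.trans_apply, MulEquiv.apply_symm_apply]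
    rw [← MulAut.mul_apply, ← sq, h2, MulAut.one_apply, MulEquiv.symm_apply_apply]) (ψ.symm_apply_eq.2 fg))
  have u2 : ψ (mk lbU) * ψ (mk lbU) = 1 := by rw [← map_mul, ← map_mul, r5, map_one, map_one]
  obtain ⟨φ, p1, p2⟩ := Dickson.exists_hom_A5 (a := ψ (mk lbU)) (b := ψ (mk lbU) * ψ (mk lbG)) (by rw [sq, u2])
    (by rw [← map_mul, ← map_mul, ← map_pow, ← map_pow, r6, map_one, map_one])
    (by rw [← mul_assoc, u2, one_mul, ← o5', pow_orderOf_eq_one])
  have hφ := Dickson.a5_hom_injective φ (by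
    rw [p1, ψ.map_ne_one_iff]
    exact fun H => r7 (Subgroup.mem_center_iff.1 (mk_eq_one.1 H) _))
  refine ⟨φ.range, zpowers_le.2 (MonoidHom.mem_range.2 ⟨Dickson.a5a * Dickson.a5b, ?_⟩) ha, ⟨(MonoidHom.ofInjective hφ).symm⟩, ?_⟩
  · rw [map_mul, p1, p2, ← mul_assoc, u2, one_mul]
  · rintro _ ⟨x, rfl⟩
    exact (Dickson.a5_gen (K := (β.toMonoidHom.comp φ).eqLocus φ) (show β (φ _) = φ _ by rw [p1, fu])
      (show β (φ _) = φ _ by rw [p2, map_mul, fu, fg])).ge (mem_top x)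

end CfsgLib.A10S
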