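import Mathlib
import Cfsg.Agent.Lib.A10S.Defs
import Cfsg.Agent.Lib.ClAut.Desc3
import Cfsg.Agent.Lib.Classical.SmallIso
import Cfsg.Agent.Lib.BG.AmbHall

/-! L34C: automorphisms of `L₃(4)` of order a power of three.  See plans/A10S.md. -/

set_option autoImplicit false

namespace CfsgLib.A10S
open Cfsg Subgroup
open scoped commutatorElement

universe u

namespace L3c

open CfsgLib.Classical CfsgLib.ClAut CfsgLib.BG Matrix

abbrev M3 : Type := Matrix (Fin 3) (Fin 3) GF4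

abbrev G3 : Type := GL (Fin 3) GF4

abbrev P3 : Type := ProjectiveSpecialLinearGroup (Fin 3) GF4

/-- the cyclic permutation matrix -/
def c0 : M3 := !![0, 1, 0; 0, 0, 1; 1, 0, 0]

/-- the cyclic permutation matrix as an invertible matrix -/
def cG : G3 := ⟨c0, c0 * c0, by decide +kernel, by decide +kernel⟩

/-- diagonal matrices -/
noncomputable def dg : (Fin 3 → GF4ˣ) →* G3 :=
  (Units.map (diagonalRingHom (Fin 3) GF4).toMonoidHom).comp MulEquiv.piUnits.symm.toMonoidHom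

theorem coe_dg (t : Fin 3 → GF4ˣ) : (dg t : M3) = diagonal fun i => (t i : GF4) := rfl

theorem dg_inj : Function.Injective dg := fun t u h => by
  have := congrArg Units.val h
  rw [coe_dg, coe_dg, diagonal_eq_diagonal_iff] at this
  exact funext fun i => Units.ext (this i)

theorem cG3 : cG ^ 3 = 1 := Units.ext (by decide +kernel : c0 ^ 3 = 1)

theorem c_dg (t : Fin 3 → GF4ˣ) : cG * dg t * cG⁻¹ = dg fun i => t (i + 1) := by
  rw [mul_inv_eq_iff_eq_mul]
  refine Units.ext ?_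
  rw [Units.val_mul, Units.val_mul, coe_dg, coe_dg]
  change c0 * _ = _ * c0
  refine Matrix.ext fun i j => ?_
  rw [mul_diagonal, diagonal_mul]
  fin_cases i <;> fin_cases j <;> simp [c0]

theorem card_units : Nat.card GF4ˣ = 3 := by
  rw [Nat.card_units, Nat.card_eq_fintype_card, card_GF4]

theorem c_norm : zpowers cG ≤ normalizer (dg.range : Set G3) :=
  zpowers_le.2 (mem_norm_of_cj_le (cj_le_iff.2 (by
    rintro _ ⟨t, rfl⟩
    exact ⟨_, (c_dg t).symm⟩)))

theorem syl : IsSylowOf 3 (dg.range ⊔ zpowers cG) ⊤ := by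
  have cD : Nat.card dg.range = 27 := by
    rw [← Nat.card_congr (MonoidHom.ofInjective dg_inj).toEquiv, Nat.card_fun, card_units]
    simp
  have h3 : IsPGroup 3 ↥(dg.range ⊔ zpowers cG) := by
    refine pgroupY (Or.inr c_norm) (IsPGroup.of_card (n := 3) cD) ?_
    rw [isPGroup_zpowers Nat.prime_three, isPiElt_singleton Nat.prime_three]
    obtain ⟨k, -, hk⟩ := (Nat.dvd_prime_pow Nat.prime_three).1
      (orderOf_dvd_of_pow_eq_one (n := 3 ^ 1) cG3)
    exact ⟨k, hk⟩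
  have lt : dg.range < dg.range ⊔ zpowers cG := by
    refine left_lt_sup.2 fun h => ?_
    obtain ⟨t, ht⟩ := h (mem_zpowers cG)
    have : (dg t : M3) 0 1 = (cG : M3) 0 1 := by rw [ht]
    rw [coe_dg] at this
    simp [cG, c0] at this
  have lt' := proper_card lt
  obtain ⟨k, hk⟩ := pgroup_card Nat.prime_three h3
  have hG : Nat.card (⊤ : Subgroup G3) = 181440 := by
    rw [card_top, card_GL_field, card_GF4]
    decide
  refine (Sylow_iff' Nat.prime_three).2 ⟨le_top, h3, fun hd => ?_⟩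
  have hl := Lagrange (le_top : dg.range ⊔ zpowers cG ≤ ⊤)
  rw [hk, cD, show 27 = 3 ^ 3 by norm_num, Nat.pow_lt_pow_iff_right (by norm_num)] at lt'
  have : 3 ^ 4 * 3 ∣ 181440 := by
    rw [← hG, ← hl, hk]
    exact Nat.mul_dvd_mul (pow_dvd_pow 3 lt') hd
  omega

/-- the determinant -/
def dt (A : M3) : GF4 :=
  A 0 0 * A 1 1 * A 2 2 - A 0 0 * A 1 2 * A 2 1 - A 0 1 * A 1 0 * A 2 2 + A 0 1 * A 1 2 * A 2 0 +
    A 0 2 * A 1 0 * A 2 1 - A 0 2 * A 1 1 * A 2 0

/-- the property of a witness -/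
def Ok (g s : M3) : Prop := g * s = s * g ∧ (s * s = 1 ∨ s * s * s = s + 1) ∧ ∀ r : GF4, scalar (Fin 3) r ≠ s

instance (g s : M3) : Decidable (Ok g s) := by unfold Ok; infer_instance

theorem key0 : ∀ a b c : GF4, dt (diagonal ![a, b, c]) = 0 ∨ dt (diagonal ![a, b, c]) = 1 ∨
    Ok (diagonal ![a, b, c]) !![1, 1, 0; 0, 1, 0; 0, 0, 1] ∨ Ok (diagonal ![a, b, c]) !![1, 0, 1; 0, 1, 0; 0, 0, 1] ∨
    Ok (diagonal ![a, b, c]) !![1, 0, 0; 0, 1, 1; 0, 0, 1] := by decide +kernel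

theorem key1 : ∀ a b c : GF4, dt (diagonal ![a, b, c] * c0) = 0 ∨ dt (diagonal ![a, b, c] * c0) = 1 ∨
    Ok (diagonal ![a, b, c] * c0) !![0, a, a * b * c * (a * b * c) * (a * b); a * b * c * (a * b * c) * (b * c), 0, b;
      c, a * b * c * (a * b * c) * (c * a), 0] := by decide +kernel

theorem key2 : ∀ a b c : GF4, dt (diagonal ![a, b, c] * (c0 * c0)) = 0 ∨ dt (diagonal ![a, b, c] * (c0 * c0)) = 1 ∨
    Ok (diagonal ![a, b, c] * (c0 * c0)) !![0, a * b * c * (a * b * c) * (a * c), a;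
      b, 0, a * b * c * (a * b * c) * (b * a); a * b * c * (a * b * c) * (c * b), c, 0] := by decide +kernel

theorem ok {g : G3} {s : M3} (h : Ok g s) :
    ∃ x : P3, (orderOf x = 2 ∨ orderOf x = 7) ∧ pslConj (Fin 3) GF4 g x = x := by
  obtain ⟨h1, h2, h3⟩ := h
  obtain ⟨p, hp, hs⟩ : ∃ p, (p = 2 ∨ p = 7) ∧ s ^ p = 1 := by
    rcases h2 with h2 | h2
    · exact ⟨2, .inl rfl, by rw [sq, h2]⟩
    · refine ⟨7, .inr rfl, ?_⟩
      have t : ∀ x : M3, x + x = 0 := fun x =>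
        Matrix.ext fun i j => (by decide +kernel : ∀ a : GF4, a + a = 0) _
      calc s ^ 7 = s * (s * s * s) * (s * s * s) := by noncomm_ring
        _ = s * s * s + (s * s + s * s) + s := by rw [h2, ← h2]; nth_rewrite 1 [h2, h2]; noncomm_ring
        _ = 1 + (s + s) := by rw [h2, t]; abel
        _ = 1 := by rw [t, add_zero]
  have hd : s.det = 1 := by
    have := congrArg det hs
    rw [det_pow, det_one] at this
    rcases hp with rfl | rfl
    · exact (by decide +kernel : ∀ a : GF4, a ^ 2 = 1 → a = 1) _ this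
    · exact (by decide +kernel : ∀ a : GF4, a ^ 7 = 1 → a = 1) _ this
  have pp : p.Prime := by rcases hp with rfl | rfl <;> norm_num
  haveI := Fact.mk pp
  let s' : SpecialLinearGroup (Fin 3) GF4 := ⟨s, hd⟩
  refine ⟨QuotientGroup.mk s', ?_, indAut_mk _ _ _ (Units.ext ?_)⟩
  · have : orderOf (QuotientGroup.mk s' : P3) = p := by
      refine orderOf_eq_prime ?_ fun e => ?_
      · rw [← QuotientGroup.mk_pow, show s' ^ p = 1 from Subtype.ext hs]
        rfl
      · obtain ⟨r, -, hr⟩ := Matrix.SpecialLinearGroup.mem_center_iff.1 ((QuotientGroup.eq_one_iff (N := center _) s').1 e)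
        exact h3 r hr
    rwa [this]
  · change s = g * s * (g⁻¹ : G3)
    rw [h1, mul_assoc, Units.mul_inv, mul_one]

theorem good (g : G3) (hg : g ∈ dg.range ⊔ zpowers cG) (hd : (g : M3).det ≠ 1) :
    ∃ x : P3, (orderOf x = 2 ∨ orderOf x = 7) ∧ pslConj (Fin 3) GF4 g x = x := by
  have h0 : (g : M3).det ≠ 0 := g.det_ne_zero
  obtain ⟨_, ⟨t, rfl⟩, y, hy, rfl⟩ := (mem_sup_norm_l c_norm).1 hg
  obtain ⟨n, rfl⟩ := mem_powers_iff_mem_zpowers.2 hy
  have e : (dg t : M3) = diagonal ![(t 0 : GF4), t 1, t 2] := by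
    rw [coe_dg]
    congr 1
    funext i
    fin_cases i <;> rfl
  have hn : n % 3 = 0 ∨ n % 3 = 1 ∨ n % 3 = 2 := by omega
  dsimp only at hd h0 ⊢
  rw [pow_eq_pow_mod n cG3] at hd h0 ⊢
  rw [det_fin_three] at hd h0
  change dt _ ≠ _ at hd h0
  rcases hn with hn | hn | hn <;> rw [hn] at hd h0 ⊢
  · rw [pow_zero, mul_one] at hd h0 ⊢
    have := key0 (t 0) (t 1) (t 2)
    rw [← e] at this
    rcases this with k | k | k | k | k
    exacts [absurd k h0, absurd k hd, ok k, ok k, ok k]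
  · have := key1 (t 0) (t 1) (t 2)
    rw [← e] at this
    rw [pow_one] at hd h0 ⊢
    rcases this with k | k | k
    exacts [absurd k h0, absurd k hd, ok k]
  · have := key2 (t 0) (t 1) (t 2)
    rw [← e] at this
    rw [sq] at hd h0 ⊢
    rcases this with k | k | k
    exacts [absurd k h0, absurd k hd, ok k]

theorem main (α : MulAut P3) {k : ℕ} (h3 : α ^ 3 ^ k = 1) :
    (∃ g, α = MulAut.conj g) ∨ ∃ x : P3, (orderOf x = 2 ∨ orderOf x = 7) ∧ α x = x := by
  obtain ⟨π, hπ, -⟩ := exists_proj_psl (ι := Fin 3) (F := GF4) (by simp)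
  have h1 : α ∈ π.ker := by
    have a1 : π α ^ 2 = 1 := by
      refine Prod.ext ?_ ?_
      · have := pow_card_eq_one' (x := (π α).1)
        rwa [card_fieldAut (F := GF4) (p := 2) (f := 2) card_GF4] at this
      · exact (by decide : ∀ e : Multiplicative (ZMod 2), e ^ 2 = 1) _
    have a2 : π α ^ 3 ^ k = 1 := by rw [← map_pow, h3, map_one]
    have := pow_gcd_eq_one.2 ⟨a2, a1⟩
    rwa [(Nat.Coprime.pow_left k (by norm_num) : Nat.Coprime (3 ^ k) 2), pow_one] at this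
  obtain ⟨g, rfl⟩ := hπ ▸ h1
  by_cases hd : (g : M3).det = 1
  · obtain ⟨y, hy⟩ := (pslConj_mem_inn_iff (g := g)).2 ⟨1, by rw [map_one]; exact Units.ext hd.symm⟩
    exact .inl ⟨y, hy.symm⟩
  right
  rw [← map_pow, pslConj_eq_one_iff] at h3
  obtain ⟨c, hc⟩ := h3
  have g3 : g ^ 3 ^ (k + 1) = 1 := by
    rw [pow_succ, pow_mul, hc, ← map_pow, ← card_units, pow_card_eq_one', map_one]
  obtain ⟨y, -, hy⟩ := Sylow_Jsub Nat.prime_three syl (le_top : zpowers g ≤ ⊤) (by
    rw [pigroup_zpowers, isPiElt_singleton Nat.prime_three]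
    obtain ⟨j, -, hj⟩ := (Nat.dvd_prime_pow Nat.prime_three).1 (orderOf_dvd_of_pow_eq_one g3)
    exact ⟨j, hj⟩)
  obtain ⟨x, hx, hx'⟩ := good (y * g * y⁻¹) (hy (conj_mem_cj.2 (mem_zpowers g))) (by
    rwa [Units.val_mul, Units.val_mul, det_units_conj])
  refine ⟨pslConj (Fin 3) GF4 y⁻¹ x, by rwa [MulEquiv.orderOf_eq], ?_⟩
  conv_rhs => rw [← hx']
  rw [← MulAut.mul_apply, ← MulAut.mul_apply, ← map_mul, ← map_mul]
  congr 2
  group

end L3c

theorem L34.three {X : Type*} [Group X] (h : L34 X) (α : MulAut X) (h3 : ∃ k, α ^ 3 ^ k = 1) :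
    (∃ g, α = MulAut.conj g) ∨ ∃ s : X, (orderOf s = 2 ∨ orderOf s = 5 ∨ orderOf s = 7) ∧ α s = s := by
  obtain ⟨F, _, _, hF, ⟨e⟩⟩ := h
  obtain ⟨k, hk⟩ := h3
  replace e := e.trans (Classical.pslMapEquiv (FiniteField.ringEquivOfCardEq (hF.trans Classical.card_GF4.symm)))
  rcases L3c.main (MulAut.congr e α) (k := k) (by rw [← map_pow, hk, map_one]) with ⟨g, hg⟩ | ⟨x, hx, hx'⟩
  · refine .inl ⟨e.symm g, MulEquiv.ext fun y => e.injective ?_⟩
    have := DFunLike.congr_fun hg (e y)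
    simpa using this
  · refine .inr ⟨e.symm x, ?_, e.injective (by simpa using hx')⟩
    rw [MulEquiv.orderOf_eq]
    tauto

end CfsgLib.A10S
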