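import Mathlib
import Cfsg.Agent.Lib.A10S.Bas
import Cfsg.Agent.Lib.BG.AmbSol
import Cfsg.Agent.Lib.BG.AmbCore
import Cfsg.Agent.Lib.Frob.Quaternion
import Cfsg.Agent.Lib.Frob.Semidirect
import Cfsg.Agent.Lib.Frob.Nilpotent

/-! N7: seven does not divide the order of a solvable normal subgroup.  See plans/A10S.md. -/

set_option autoImplicit false

namespace CfsgLib.A10S
open Cfsg Subgroup CfsgLib.BG
open scoped commutatorElement

universe u

section
variable {G : Type*} [Group G] [Finite G] {p q : ℕ} {A B Y : Subgroup G}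

theorem n7_dvd (hA : IsPiSubgroup {p} A) {x : G} (hx : x ∈ A) (h1 : x ≠ 1) : p ∣ orderOf x := by
  obtain ⟨r, hr, hd⟩ := Nat.exists_prime_and_dvd (fun h => h1 (orderOf_eq_one_iff.1 h))
  obtain rfl : r = p := mem_p_elt hA hx r hr hd
  exact hd

theorem n7_fpf (h : Om G) (hA : IsPiSubgroup {p} A) {b : G} (hb : q ∣ orderOf b) (co : Nat.Coprime p q)
    (hn : p * q ∉ om) : A ⊓ 𝒞[b] = ⊥ := by
  rw [eq_bot_iff]
  intro a ha
  by_contra h1
  exact hn (h.comm (mem_cent1.1 ha.2) (n7_dvd hA ha.1 h1) hb co)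

theorem n7_semi (h : Om G) (hA : IsPiSubgroup {p} A) (hB : IsPiSubgroup {q} B) (co : Nat.Coprime p q)
    (hn : p * q ∉ om) (hN : B ≤ 𝒩(A)) : Nat.card A ≡ 1 [MOD Nat.card B] :=
  Frob.card_modEq_one_of_fpf hN fun _ hb h1 => n7_fpf h hA (n7_dvd hB hb h1) co hn

theorem n7_sub (hp : p.Prime) {n : ℕ} (hd : p ^ n ∣ Nat.card Y) :
    ∃ B : Subgroup G, B ≤ Y ∧ IsPiSubgroup {p} B ∧ Nat.card B = p ^ n := by
  have := Fact.mk hp
  obtain ⟨B, hB⟩ := Sylow.exists_subgroup_card_pow_prime p hd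
  have hc : Nat.card (B.map Y.subtype) = p ^ n := by
    rw [card_map_of_injective Y.subtype_injective, hB]
  refine ⟨B.map Y.subtype, map_subtype_le B, fun r hr hd => ?_, hc⟩
  rw [hc] at hd
  exact (Nat.prime_dvd_prime_iff_eq hr hp).1 (hr.dvd_of_dvd_pow hd)

/-- a group with a normal `7`-subgroup has order not divisible by `32` -/
theorem n7_not32 (h : Om G) (hA : IsPiSubgroup {7} A) (h1 : A ≠ ⊥) (hn : A.Normal) :
    ¬ 32 ∣ Nat.card G := by
  intro hd
  have : Fact (Nat.Prime 2) := ⟨Nat.prime_two⟩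
  obtain ⟨B, -, hB, hc⟩ := n7_sub (Y := (⊤ : Subgroup G)) (n := 5) Nat.prime_two (by rwa [card_top])
  obtain ⟨s, -, -, hs, -⟩ := Frob.exists_unique_involution_of_fpf (K := A) (H := B)
    (by rw [normalizer_eq_top]; exact le_top) h1
    (fun b hb b1 => n7_fpf h hA (n7_dvd hB hb b1) (by decide) (by decide)) (by rw [hc]; decide)
  have hlt : ∀ b : B, orderOf b ≤ 8 := by
    intro b
    have h2 := h.sub B b
    have h3 := orderOf_dvd_natCard b
    rw [hc] at h3
    revert h2 h3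
    generalize orderOf b = n
    intro h2
    revert n
    decide
  rcases Frob.exists_gens_of_forall_mem_zpowers (pgp_isPGroup hB) (fun x y hx hy => by
    have e : y = x := Subtype.ext ((hs y y.2 (by rw [orderOf_coe, hy])).trans
      (hs x x.2 (by rw [orderOf_coe, hx])).symm)
    rw [e]
    exact mem_zpowers x) with hcy | ⟨-, a, -, -, hi, -⟩
  · obtain ⟨g, hg⟩ := isCyclic_iff_exists_orderOf_eq_natCard.1 hcy
    have := hlt g
    omega
  · have h2 := (zpowers a).card_mul_index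
    rw [hi, Nat.card_zpowers] at h2
    have := hlt a
    omega

/-- if `t` inverts `A` then its commutators centralise `A` -/
theorem n7_inv (h : Om G) (hA : IsPiSubgroup {p} A) (h1 : A ≠ ⊥) (co : Nat.Coprime p 7)
    (hn : p * 7 ∉ om) {t x : G} (hx : x ∈ 𝒩(A)) (ht : ∀ a ∈ A, t * a * t⁻¹ = a⁻¹) :
    ¬ 7 ∣ orderOf (t * x * t⁻¹ * x⁻¹) := by
  intro hd
  refine h1 ?_
  rw [← n7_fpf h hA hd co hn, left_eq_inf]
  intro a ha
  rw [mem_cent1]
  have hb := conj_mem_of_mem_norm' hx ha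
  have e1 := ht _ (inv_mem hb)
  have e2 := ht _ (inv_mem ha)
  rw [inv_inv] at e1 e2
  calc a * (t * x * t⁻¹ * x⁻¹) = (t * a⁻¹ * t⁻¹) * (t * x * t⁻¹ * x⁻¹) := by rw [e2]
    _ = t * x * t⁻¹ * (t * (x⁻¹ * a * x)⁻¹ * t⁻¹) * x⁻¹ := by group
    _ = t * x * t⁻¹ * x⁻¹ * a := by rw [e1]; group

theorem n7_main {H : Type*} [Group H] [Finite H] (h : Hg G) (φ : G →* H) (hφ : Function.Surjective φ)
    (sol : Group.IsSolvable φ.ker) (h7 : ¬ 7 ∣ Nat.card φ.ker) {U : Subgroup H} (hU : IsPiSubgroup {7} U)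
    (U1 : U ≠ ⊥) (nU : U.Normal) : False := by
  have p7 : Nat.Prime 7 := by decide
  have p5 : Nat.Prime 5 := by decide
  have hH : Om H := h.om.of_surj φ hφ
  have hc : Nat.card G = Nat.card φ.ker * Nat.card H := by
    rw [← φ.ker.card_mul_index, index_ker, MonoidHom.range_eq_top.2 hφ, card_top]
  obtain ⟨M, hM⟩ := Hall_exists {2, 5} sol
  have hY : ∀ g : H, ∃ y ∈ 𝒩(M), φ y = g := by
    intro g
    obtain ⟨x, rfl⟩ := hφ g
    obtain ⟨a, ha, b, hb, rfl⟩ := Hall_Frattini_arg_mem (M := ⊤) sol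
      ⟨le_top, by rw [normalizer_eq_top]⟩ hM (mem_top x)
    exact ⟨b, hb.2, by rw [map_mul, MonoidHom.mem_ker.1 ha, one_mul]⟩
  -- the element of order seven
  obtain ⟨u, hu, u1⟩ := (U.bot_or_exists_ne_one).resolve_left U1
  have hU7 : ∀ v ∈ U, v ^ 7 = 1 := by
    intro v hv
    have h2 := hH v
    have h3 := mem_p_elt hU hv
    refine orderOf_dvd_iff_pow_eq_one.1 ?_
    have h4 : ¬ 2 ∣ orderOf v := fun hd => absurd (h3 2 Nat.prime_two hd) (by decide)
    have h5 : ¬ 3 ∣ orderOf v := fun hd => absurd (h3 3 Nat.prime_three hd) (by decide)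
    have h6 : ¬ 5 ∣ orderOf v := fun hd => absurd (h3 5 p5 hd) (by decide)
    revert h2 h4 h5 h6
    generalize orderOf v = n
    intro h2
    revert n
    decide
  obtain ⟨x, hx, φx, x7⟩ : ∃ x ∈ 𝒩(M), φ x = u ∧ orderOf x = 7 := by
    obtain ⟨y, hy, e⟩ := hY u
    have h1 : 7 ∣ orderOf y := (n7_dvd hU hu u1).trans (e ▸ orderOf_map_dvd φ y)
    have h2 : orderOf y ∣ 105 := by
      have h3 := h.om y
      revert h3 h1
      generalize orderOf y = n
      intro h1 h3
      revert n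
      intro n h1 h3
      revert h1
      revert n
      decide
    have h4 : φ (y ^ 15) = u := by
      rw [map_pow, e, show 15 = 7 * 2 + 1 by rfl, pow_succ, pow_mul, hU7 u hu, one_pow, one_mul]
    have := Fact.mk p7
    refine ⟨y ^ 15, pow_mem hy _, h4, orderOf_eq_prime ?_ ?_⟩
    · rw [← pow_mul]
      exact orderOf_dvd_iff_pow_eq_one.1 h2
    · intro e1
      rw [e1, map_one] at h4
      exact u1 h4.symm
  -- the Hall subgroup is nilpotent
  have nil : Group.IsNilpotent M := by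
    have := solvableS hM.1 sol
    refine Frob.isNilpotent_of_prime_card_of_isSolvable (R := zpowers x) (zpowers_le.2 hx)
      (by rw [Nat.card_zpowers, x7]; exact p7) ?_
    rw [eq_bot_iff]
    intro a ha
    by_contra h1
    obtain ⟨r, hr, hd⟩ := Nat.exists_prime_and_dvd (fun h => h1 (orderOf_eq_one_iff.1 h))
    have hc' : Commute a x := (mem_cent_iff.1 ha.2 x (mem_zpowers x)).symm
    rcases mem_p_elt (pHall_pgroup hM) ha.1 r hr hd with rfl | rfl
    · exact absurd (h.om.comm hc' hd x7.symm.dvd (by decide)) (by decide)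
    · exact absurd (h.om.comm hc' hd x7.symm.dvd (by decide)) (by decide)
  have S2 : IsSylowOf 2 (opOf 2 M) φ.ker := subHall_Sylow hM (by simp) (nilpotent_pcore_Hall _ nil)
  have S5 : IsSylowOf 5 (opOf 5 M) φ.ker := subHall_Sylow hM (by simp) (nilpotent_pcore_Hall _ nil)
  have n2 : 𝒩(M) ≤ 𝒩(opOf 2 M) := norm_pcore _ M
  have n5 : 𝒩(M) ≤ 𝒩(opOf 5 M) := norm_pcore _ M
  have c25 : opOf 2 M ≤ 𝒞(opOf 5 M) := pcore_cent_pcore_of_disjoint (by
    rintro r - rfl
    decide) M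
  set M2 := opOf 2 M
  set M5 := opOf 5 M
  have hk : Nat.card φ.ker = Nat.card M2 * M2.relIndex φ.ker := (Lagrange S2.1).symm
  have hodd : ¬ 2 ∣ M2.relIndex φ.ker := Sylow_index Nat.prime_two S2
  have co2 : ∀ n : ℕ, Nat.Coprime (2 ^ n) (M2.relIndex φ.ker) := fun n =>
    Nat.Coprime.pow_left n ((Nat.Prime.coprime_iff_not_dvd Nat.prime_two).2 hodd)
  have d7 : 2 ^ 7 ∣ Nat.card M2 * Nat.card H := by
    have := h.d7
    rw [hc, hk, mul_right_comm] at this
    exact (co2 7).dvd_of_dvd_mul_right this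
  have M21 : M2 ≠ ⊥ := by
    intro hb
    rw [hb, card_bot, one_mul] at d7
    exact n7_not32 hH hU U1 nU (Dvd.dvd.trans (by decide) d7)
  obtain ⟨a, ha⟩ : ∃ a, Nat.card M2 = 2 ^ a := by
    have := Fact.mk Nat.prime_two
    exact IsPGroup.iff_card.1 (Sylow_isPGroup S2)
  have a7 : a ≤ 7 := by
    by_contra hh
    refine h.two (Dvd.dvd.trans ?_ (card_subgroup_dvd_card M2))
    rw [ha]
    exact pow_dvd_pow 2 (by omega : 8 ≤ a)
  have a1 : a ≠ 0 := by
    rintro rfl
    exact M21 (card_eq_one.1 ha)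
  have m7 : Nat.card M2 % 7 = 1 := h.om.mod7 (Or.inl rfl) (Sylow_isPGroup S2) x7 (n2 hx)
  have n49 : ¬ 7 ^ 2 ∣ Nat.card 𝒩(M) := by
    intro hd
    obtain ⟨B, hB, hB7, hcB⟩ := n7_sub p7 hd
    have := n7_semi h.om S2.2.1 hB7 (by decide) (by decide) (hB.trans n2)
    rw [ha, hcB] at this
    interval_cases a <;> simp_all [Nat.ModEq]
  have cU : Nat.card U = 7 := by
    have := Fact.mk p7
    obtain ⟨b, hb⟩ := IsPGroup.iff_card.1 (pgp_isPGroup hU)
    have h1 : Nat.card H ∣ Nat.card 𝒩(M) := card_dvd_of_surjective (φ.comp (𝒩(M)).subtype) fun g => by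
      obtain ⟨y, hy, e⟩ := hY g
      exact ⟨⟨y, hy⟩, e⟩
    have h2 : b ≠ 0 := by
      rintro rfl
      exact U1 (card_eq_one.1 hb)
    have h3 : b < 2 := by
      by_contra hh
      exact n49 ((pow_dvd_pow 7 (by omega : 2 ≤ b)).trans
        (hb ▸ (card_subgroup_dvd_card U).trans h1))
    obtain rfl : b = 1 := by omega
    exact hb
  have n5H : ¬ 5 ∣ Nat.card H := by
    intro hd
    obtain ⟨B, -, hB5, hcB⟩ := n7_sub (Y := (⊤ : Subgroup H)) (n := 1) p5 (by rwa [card_top])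
    have := n7_semi hH hU hB5 (by decide) (by decide) (by rw [normalizer_eq_top]; exact le_top)
    rw [cU, hcB] at this
    exact absurd this (by decide)
  have M51 : M5 ≠ ⊥ := by
    obtain ⟨g, hg⟩ := h.all 5 (by decide)
    have h1 := orderOf_dvd_natCard g
    rw [hg, hc] at h1
    exact Sylow_ne_bot p5 S5 ((p5.dvd_mul.1 h1).resolve_right n5H)
  have d2 : 2 ∣ Nat.card H := by
    by_contra hh
    have h1 := (Nat.Coprime.pow_left 7 ((Nat.Prime.coprime_iff_not_dvd Nat.prime_two).2 hh)).dvd_of_dvd_mul_right d7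
    rw [ha] at h1 m7
    have := (Nat.pow_dvd_pow_iff_le_right (by decide)).1 h1
    obtain rfl : a = 7 := by omega
    exact absurd m7 (by decide)
  obtain ⟨s, hs⟩ := exists_prime_orderOf_dvd_card' (hp := ⟨Nat.prime_two⟩) 2 d2
  have ss : s ^ 2 = 1 := hs ▸ pow_orderOf_eq_one s
  obtain ⟨t, ht, φt, t8⟩ : ∃ t ∈ 𝒩(M), φ t = s ∧ t ^ 8 = 1 := by
    obtain ⟨y, hy, e⟩ := hY s
    have h1 : 2 ∣ orderOf y := hs ▸ e ▸ orderOf_map_dvd φ y
    have h2 : orderOf y ∣ 120 := by
      have h3 := h.om y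
      revert h1
      revert h3
      generalize orderOf y = n
      revert n
      decide
    refine ⟨y ^ 15, pow_mem hy _, ?_, ?_⟩
    · rw [map_pow, e, show 15 = 2 * 7 + 1 by rfl, pow_succ, pow_mul, ss, one_pow, one_mul]
    · rw [← pow_mul]
      exact orderOf_dvd_iff_pow_eq_one.1 h2
  have tt : t * t ∈ M2 := by
    refine zpowers_le.1 (norm_sub_pHall S2 ?_ (zpowers_le.2 ?_) (zpowers_le.2 (n2 (mul_mem ht ht))))
    · rw [pigroup_zpowers]
      intro r hr hd
      have h1 : orderOf (t * t) ∣ 2 ^ 2 := orderOf_dvd_of_pow_eq_one (by rw [← pow_two, ← pow_mul]; exact t8)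
      exact (Nat.prime_dvd_prime_iff_eq hr Nat.prime_two).1 (hr.dvd_of_dvd_pow (hd.trans h1))
    · rw [MonoidHom.mem_ker, map_mul, φt, ← pow_two, ss]
  have key : ∀ t' : G, φ t' = s → 7 ∣ orderOf (t' * x * t'⁻¹ * x⁻¹) := by
    intro t' e
    refine (n7_dvd hU (x := s * u * s⁻¹ * u⁻¹) (mul_mem (nU.conj_mem u hu s) (inv_mem hu)) ?_).trans ?_
    · intro e1
      have c : Commute s u := by
        rw [← commutatorElement_eq_one_iff_commute]
        exact e1
      exact absurd (hH.comm c hs.symm.dvd (n7_dvd hU hu u1) (by decide)) (by decide)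
    · have := orderOf_map_dvd φ (t' * x * t'⁻¹ * x⁻¹)
      rwa [map_mul, map_mul, map_mul, map_inv, map_inv, e, φx] at this
  have hA5 : IsPiSubgroup {5} (M5 ⊓ 𝒞(M5)) := pigroupS inf_le_left S5.2.1
  have A1 : M5 ⊓ 𝒞(M5) ≠ ⊥ := pgp_cent_ne_bot S5.2.1 S5.2.1 (normG _) M51
  have nA : 𝒩(M) ≤ 𝒩(M5 ⊓ 𝒞(M5)) := normsI n5 (norms_cent n5)
  have sq : ∀ m ∈ M2, t * m * (t * m) = 1 := by
    intro m hm
    by_contra hne
    have hmM : m ∈ 𝒩(M) := normG M (pcore_sub _ M hm)
    have h2 : t * m * (t * m) ∈ M2 := by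
      have : t * m * (t * m) = t * t * (t⁻¹ * m * t) * m := by group
      rw [this]
      exact mul_mem (mul_mem tt (conj_mem_of_mem_norm' (n2 ht) hm)) hm
    have h4 : 4 ∣ orderOf (t * m) := by
      have h5 := n7_dvd S2.2.1 h2 hne
      have h6 : 2 ∣ orderOf (t * m) := h5.trans (by rw [← pow_two]; exact orderOf_pow_dvd 2)
      rw [← pow_two, orderOf_pow_of_dvd (by decide) h6] at h5
      omega
    refine n7_inv h.om hA5 A1 (by decide) (by decide) (nA hx) (t := t * m) (fun a ha => ?_)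
      (key _ (by rw [map_mul, φt, MonoidHom.mem_ker.1 (S2.1 hm), mul_one]))
    exact Frob.conj_eq_inv_of_fpf (nA (mul_mem ht hmM)) (n7_fpf h.om hA5 h4 (by decide) (by decide))
      (centS inf_le_left (c25 h2)) ha
  refine n7_inv h.om S2.2.1 M21 (by decide) (by decide) (n2 hx) (t := t) (fun m hm => ?_) (key t φt)
  have h1 := sq 1 (one_mem _)
  rw [mul_one] at h1
  rw [inv_eq_of_mul_eq_one_right h1, eq_inv_iff_mul_eq_one, ← sq m hm]
  group

end

theorem Hg.not7 {G : Type u} [Group G] [Finite G] (h : Hg G) (K : Subgroup G) [K.Normal]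
    (sol : Group.IsSolvable K) : ¬ 7 ∣ Nat.card K := by
  intro h7
  obtain ⟨N, ⟨hN, hNK, hN7⟩, hmax⟩ := Set.Finite.exists_maximal
    (s := {N : Subgroup G | N.Normal ∧ N ≤ K ∧ ¬ 7 ∣ Nat.card N}) (Set.toFinite _)
    ⟨⊥, inferInstance, bot_le, by rw [card_bot]; decide⟩
  let φ := QuotientGroup.mk' N
  have hφ : Function.Surjective φ := QuotientGroup.mk'_surjective N
  have hker : φ.ker = N := QuotientGroup.ker_mk' N
  have hK1 : K.map φ ≠ ⊥ := by
    rw [Ne, Subgroup.map_eq_bot_iff, hker]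
    intro hle
    exact hN7 (h7.trans (card_dvd_of_le hle))
  have nK : (K.map φ).Normal := Normal.map inferInstance φ hφ
  have sK : Group.IsSolvable (K.map φ) := Group.isSolvable_of_surjective (φ.subgroupMap_surjective K)
  obtain ⟨r, hr, hU⟩ := sol_exists_opOf_ne_bot sK hK1
  have nU : (opOf r (K.map φ)).Normal := by
    rw [← normalizer_eq_top_iff, eq_top_iff, ← normalizer_eq_top (K.map φ)]
    exact norm_pcore _ _
  have hle : (opOf r (K.map φ)).comap φ ≤ K := by
    refine (comap_mono (pcore_sub _ _)).trans ?_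
    rw [comap_map_eq, hker, sup_eq_left.2 hNK]
  have hge : N ≤ (opOf r (K.map φ)).comap φ := hker.ge.trans (ker_le_comap φ (opOf r (K.map φ)))
  have hd : 7 ∣ Nat.card ((opOf r (K.map φ)).comap φ) := by
    by_contra hh
    have h1 := hmax ⟨inferInstance, hle, hh⟩ hge
    refine hU ?_
    rw [← map_comap_eq_self_of_surjective hφ (opOf r (K.map φ)), Subgroup.map_eq_bot_iff, hker]
    exact h1
  have hr7 : r = 7 := by
    have h1 : Nat.card ((opOf r (K.map φ)).comap φ) = Nat.card N * Nat.card (opOf r (K.map φ)) := by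
      rw [Core.card_comap_of_surjective hφ, hker, mul_comm]
    rw [h1] at hd
    exact (pcore_pgroup {r} (K.map φ) 7 (by decide)
      (((by decide : Nat.Prime 7).dvd_mul.1 hd).resolve_left hN7)).symm
  subst hr7
  exact n7_main h φ hφ (by rw [hker]; exact solvableS hNK sol) (by rwa [hker])
    (pcore_pgroup {7} (K.map φ)) hU nU

end CfsgLib.A10S
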