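import Mathlib
import Cfsg.Agent.Lib.A10S.RN7
import Cfsg.Agent.Lib.Perm.MultiTransDiag
import Cfsg.Agent.Lib.SylNum.Basic
import Cfsg.Agent.Lib.FT.OddOrder
import Cfsg.Agent.Lib.Fgs.AutBound
import Cfsg.Agent.Lib.Unitary.Center
import Cfsg.Agent.Lib.J2.Iso
import Cfsg.Agent.S0243

/-! RD: the reduction to almost simple groups.  See plans/A10S.md. -/

set_option autoImplicit false

namespace CfsgLib.A10S
open Cfsg Subgroup
open scoped commutatorElement

universe u

theorem card_An' (n : ℕ) (h : 2 ≤ n) : Nat.card (An n) = n.factorial / 2 := by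
  have : Nontrivial (Fin n) := Fin.nontrivial_iff_two_le.2 h
  rw [nat_card_alternatingGroup, Nat.card_eq_fintype_card, Fintype.card_fin]

theorem L34.card_rd {S : Type*} [Group S] (h : L34 S) : Nat.card S = 20160 := by
  obtain ⟨F, _, _, h4, ⟨e⟩⟩ := h
  have h1 := Cfsg.Agent.S0243.result h4 3 (by norm_num)
  rw [← Nat.card_congr e.toEquiv, Fin.prod_univ_three] at h1
  norm_num at h1
  omega

theorem U43.card_rd {S : Type*} [Group S] (h : U43 S) : Nat.card S = 3265920 := by
  obtain ⟨F, _, _, h9, ⟨e⟩⟩ := h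
  have := Unitary.card_PSU (n := 4) (q := 3) h9 (by norm_num)
  rw [← Nat.card_congr e.toEquiv] at this
  simp [Finset.prod_range_succ, show ¬ Even 3 by decide] at this
  omega

theorem Six.card_rd {S : Type*} [Group S] (h : Six S) : Nat.card S = 20160 ∨ Nat.card S = 181440 ∨
    Nat.card S = 1814400 ∨ Nat.card S = 3265920 ∨ Nat.card S = 604800 := by
  rcases h with ⟨⟨e⟩⟩ | ⟨⟨e⟩⟩ | ⟨⟨e⟩⟩ | e | e | ⟨⟨e⟩⟩
  · exact Or.inl (by rw [Nat.card_congr e.toEquiv, card_An' 8 (by norm_num)]; decide)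
  · exact Or.inr (Or.inl (by rw [Nat.card_congr e.toEquiv, card_An' 9 (by norm_num)]; decide))
  · exact Or.inr (Or.inr (Or.inl (by rw [Nat.card_congr e.toEquiv, card_An' 10 (by norm_num)]; decide)))
  · exact Or.inl e.card_rd
  · exact Or.inr (Or.inr (Or.inr (Or.inl e.card_rd)))
  · exact Or.inr (Or.inr (Or.inr (Or.inr (by rw [Nat.card_congr e.toEquiv, J2.card_J2]))))

theorem A56.card_rd {S : Type*} [Group S] (h : A56 S) : Nat.card S = 60 ∨ Nat.card S = 360 := by
  rcases h with ⟨⟨e⟩⟩ | ⟨⟨e⟩⟩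
  · exact Or.inl (by rw [Nat.card_congr e.toEquiv, card_An' 5 (by norm_num)]; decide)
  · exact Or.inr (by rw [Nat.card_congr e.toEquiv, card_An' 6 (by norm_num)]; decide)

/-- the two kinds of simple sections -/
theorem Lst.cases {S : Type*} [Group S] (h : Lst S) :
    (¬ 7 ∣ Nat.card S ∧ 30 ∣ Nat.card S ∧ (Nat.card S).factorization 5 = 1) ∨
      (7 ∣ Nat.card S ∧ ¬ 49 ∣ Nat.card S ∧ (64 ∣ Nat.card S → Six S)) := by
  have k : ∀ n : ℕ, 30 ∣ n → ¬ 25 ∣ n → n.factorization 5 = 1 := fun n h1 h2 => by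
    have n0 : n ≠ 0 := by rintro rfl; exact h2 (dvd_zero _)
    have a := ((by norm_num : Nat.Prime 5).pow_dvd_iff_le_factorization n0 (k := 1)).1 (by omega)
    have b := mt ((by norm_num : Nat.Prime 5).pow_dvd_iff_le_factorization n0 (k := 2)).2 (by omega)
    omega
  rcases h with h | ⟨h, -⟩ | ⟨h1, h2, h3⟩ | h
  · rcases h.card_rd with e | e <;> exact Or.inl ⟨by omega, by omega, k _ (by omega) (by omega)⟩
  · exact Or.inl ⟨by omega, by omega, k _ (by omega) (by omega)⟩
  · exact Or.inr ⟨h2, h3, fun d => absurd d h1⟩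
  · refine Or.inr ⟨?_, ?_, fun _ => h⟩ <;> rcases h.card_rd with e | e | e | e | e <;> omega

section
variable {G : Type*} [Group G] [Finite G]

omit [Finite G] in
theorem index_dvd_of_sup {M N : Subgroup G} [N.Normal] (h : M ⊔ N = ⊤) : N.index ∣ Nat.card M := by
  have := relIndex_sup_right M N
  rw [h, relIndex_top_right] at this
  rw [this]
  exact relIndex_dvd_card N M

/-- the Frattini argument -/
theorem exists_frat (N : Subgroup G) [N.Normal] (p : ℕ) [Fact p.Prime] :
    ∃ P : Subgroup G, P ≤ N ∧ Nat.card P = p ^ (Nat.card N).factorization p ∧ normalizer (P : Set G) ⊔ N = ⊤ := by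
  obtain ⟨P⟩ : Nonempty (Sylow p N) := inferInstance
  refine ⟨(P : Subgroup N).map N.subtype, map_subtype_le _, ?_, P.normalizer_sup_eq_top⟩
  rw [card_map_of_injective N.subtype_injective, P.card_eq_multiplicity]

theorem Om.mod7_nrm (om : Om G) {p : ℕ} (hp : p = 2 ∨ p = 5) {P N : Subgroup G} [N.Normal] {k : ℕ}
    (hP : Nat.card P = p ^ k) (h : normalizer (P : Set G) ⊔ N = ⊤) (h7 : 7 ∣ N.index) : p ^ k % 7 = 1 := by
  obtain ⟨x, xN, hx⟩ := exists_mem_orderOf (by norm_num) (h7.trans (index_dvd_of_sup h))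
  exact hP ▸ om.mod7 hp (IsPGroup.of_card hP) hx xN

theorem four_dvd_rd {T : Type*} [Group T] [Finite T] (s : IsSimpleGroup T) (na : ¬ IsMulCommutative T) :
    4 ∣ Nat.card T :=
  SylNum.four_dvd_of_two_dvd na (even_iff_two_dvd.1 (FT.even_card_of_not_solvable fun h =>
    na ⟨⟨IsSimpleGroup.comm_iff_isSolvable.2 h⟩⟩))

end

section
variable {H : Type u} [Group H] [Finite H]

/-- a group with the element orders and without solvable normal subgroups -/
structure R0 (H : Type u) [Group H] : Prop where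
  om : Om H
  d7 : 7 ∣ Nat.card H
  two : ¬ 256 ∣ Nat.card H
  rad : ∀ N : Subgroup H, N.Normal → Group.IsSolvable N → N = ⊥

theorem R0.min (h : R0 H) (X : ClSt.{u}) (N : Subgroup H) [N.Normal] (n0 : N ≠ ⊥)
    (mn : ∀ M : Subgroup H, M.Normal → M ≤ N → M = ⊥ ∨ M = N) :
    IsSimpleGroup N ∧ ¬ IsMulCommutative N ∧ 7 ∣ Nat.card N ∧ ¬ 49 ∣ Nat.card N ∧ (64 ∣ Nat.card N → Six N) := by
  have na : ¬ IsMulCommutative N := fun c =>
    n0 (h.rad N inferInstance (Group.isSolvable_of_comm fun a b => c.is_comm.comm a b))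
  obtain ⟨T, TN, -, sT, naT, cj, gen⟩ := Perm.exists_simple_factor N n0 mn na
  have ls : Lst T := X T ⟨sT, naT, h.om.sub T, fun d => h.two (d.trans (card_subgroup_dvd_card T))⟩
  -- conjugates either coincide or commute
  have cm : ∀ g : H, g ∉ normalizer (T : Set H) → ∀ a ∈ T, ∀ b ∈ T, Commute a (g * b * g⁻¹) := fun g hg a aT b bT => by
    rcases cj g with e | e
    · refine absurd (mem_normalizer_iff_map_conj_eq.2 e) hg
    · exact e (mem_map_of_mem _ bT) a aT
  rcases ls.cases with ⟨n7, d30, f5⟩ | ⟨d7, n49, six⟩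
  · exfalso
    obtain ⟨x, -, hx⟩ := exists_mem_orderOf (p := 7) (K := (⊤ : Subgroup H)) (by norm_num) (by rw [card_top]; exact h.d7)
    have xn : x ∈ normalizer (T : Set H) := by
      by_contra xn
      have x2 : x * x ∉ normalizer (T : Set H) := fun m => xn (by
        have e : x = (x * x) ^ 4 := by
          rw [← pow_two, ← pow_mul, show 2 * 4 = 7 + 1 from rfl, pow_succ, ← hx, pow_orderOf_eq_one, one_mul]
        exact e ▸ pow_mem m 4)
      obtain ⟨a, aT, ha⟩ := exists_mem_orderOf (p := 2) (K := T) (by norm_num) (by omega)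
      obtain ⟨b, bT, hb⟩ := exists_mem_orderOf (p := 3) (K := T) (by norm_num) (by omega)
      obtain ⟨c, cT, hc⟩ := exists_mem_orderOf (p := 5) (K := T) (by norm_num) (by omega)
      have bc : Commute (x * b * x⁻¹) (x * x * c * (x * x)⁻¹) := by
        have := (cm x xn b bT c cT).map (MulAut.conj x)
        simp only [MulAut.conj_apply] at this
        convert this using 1
        group
      have ob : orderOf (x * b * x⁻¹) = 3 := hb ▸ (MulAut.conj x).orderOf_eq b
      have oc : orderOf (x * x * c * (x * x)⁻¹) = 5 := hc ▸ (MulAut.conj (x * x)).orderOf_eq c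
      exact absurd (h.om.comm3 (cm x xn a aT b bT) (cm _ x2 a aT c cT) bc ha.symm.dvd ob.symm.dvd oc.symm.dvd
        (by norm_num) (by norm_num)) (by decide)
    have : Fact (Nat.Prime 5) := ⟨by norm_num⟩
    have cT : Nat.card (T.subgroupOf (normalizer (T : Set H))) = Nat.card T :=
      Nat.card_congr (subgroupOfEquivOfLe le_normalizer).toEquiv
    obtain ⟨P, -, hP, fr⟩ := exists_frat (T.subgroupOf (normalizer (T : Set H))) 5
    rw [cT, f5] at hP
    have d7 : 7 ∣ (T.subgroupOf (normalizer (T : Set H))).index := by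
      have d : 7 ∣ Nat.card (normalizer (T : Set H)) := by
        have := orderOf_dvd_natCard (⟨x, xn⟩ : normalizer (T : Set H))
        rwa [← Subgroup.orderOf_coe, hx] at this
      rw [← (T.subgroupOf (normalizer (T : Set H))).card_mul_index, cT] at d
      exact ((by norm_num : Nat.Prime 7).dvd_mul.1 d).resolve_left n7
    exact absurd ((h.om.sub _).mod7_nrm (Or.inr rfl) hP fr d7) (by norm_num)
  · have e : T = N := by
      refine le_antisymm TN (gen T fun g => ?_)
      by_cases hg : g ∈ normalizer (T : Set H)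
      · exact (mem_normalizer_iff_map_conj_eq.1 hg).le
      · exfalso
        obtain ⟨a, aT, ha⟩ := exists_mem_orderOf (p := 2) (K := T) (by norm_num)
          (Dvd.dvd.trans (by norm_num) (four_dvd_rd sT naT))
        obtain ⟨b, bT, hb⟩ := exists_mem_orderOf (p := 7) (K := T) (by norm_num) d7
        have ob : orderOf (g * b * g⁻¹) = 7 := hb ▸ (MulAut.conj g).orderOf_eq b
        exact absurd (h.om.comm (cm g hg a aT b bT) ha.symm.dvd ob.symm.dvd (by norm_num)) (by decide)
    subst e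
    exact ⟨sT, naT, d7, n49, six⟩

theorem R0.seven (h : R0 H) (X : ClSt.{u}) (N : Subgroup H) [N.Normal] (n0 : N ≠ ⊥) : 7 ∣ Nat.card N := by
  obtain ⟨M, Mn, M0, le, mn⟩ := Core.exists_minimal_normal_le n0
  exact (h.min X M M0 mn).2.2.1.trans (card_dvd_of_le le)

/-- the socle -/
theorem R0.socle (h : R0 H) (X : ClSt.{u}) : ∃ S : Subgroup H, S.Normal ∧ IsSimpleGroup S ∧ ¬ IsMulCommutative S ∧
    centralizer (S : Set H) = ⊥ ∧ (∀ N : Subgroup H, N.Normal → N ≠ ⊥ → S ≤ N) ∧ ¬ 4 ∣ S.index ∧ ¬ 5 ∣ S.index ∧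
    (64 ∣ Nat.card S → Six S) := by
  have t0 : (⊤ : Subgroup H) ≠ ⊥ := fun e => by
    have d := h.d7
    rw [← card_top, e, card_bot] at d
    omega
  obtain ⟨S, Sn, S0, -, mn⟩ := Core.exists_minimal_normal_le t0
  obtain ⟨sS, naS, d7, n49, six⟩ := h.min X S S0 mn
  have cen : centralizer (S : Set H) = ⊥ := by
    by_contra c0
    obtain ⟨b, bC, hb⟩ := exists_mem_orderOf (by norm_num) (h.seven X _ c0)
    obtain ⟨a, aS, ha⟩ := exists_mem_orderOf (p := 2) (K := S) (by norm_num)
      (Dvd.dvd.trans (by norm_num) (four_dvd_rd sS naS))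
    have c : Commute a b := bC a aS
    exact absurd (h.om.comm c ha.symm.dvd hb.symm.dvd (by norm_num)) (by decide)
  have : Fact (Nat.Prime 7) := ⟨by norm_num⟩
  obtain ⟨P, -, hP, fr⟩ := exists_frat S 7
  have f7 : (Nat.card S).factorization 7 = 1 := by
    have n0 : Nat.card S ≠ 0 := Nat.card_pos.ne'
    have a := ((by norm_num : Nat.Prime 7).pow_dvd_iff_le_factorization n0 (k := 1)).1 (by omega)
    have b := mt ((by norm_num : Nat.Prime 7).pow_dvd_iff_le_factorization n0 (k := 2)).2 (by omega)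
    omega
  rw [f7, pow_one] at hP
  obtain ⟨x, xP, hx⟩ := exists_mem_orderOf (p := 7) (K := P) (by norm_num) hP.symm.dvd
  have cyc : IsCyclic P := isCyclic_of_prime_card hP
  have d6 : P.normalizerMonoidHom.ker.index ∣ 6 := by
    rw [index_ker]
    refine (card_subgroup_dvd_card _).trans ?_
    rw [IsCyclic.card_mulAut, hP]
    decide
  have np : ∀ p : ℕ, p = 2 ∨ p = 5 → ¬ p ∣ Nat.card P.normalizerMonoidHom.ker := fun p hp d => by
    obtain ⟨c, cC, hc⟩ := exists_mem_orderOf (by rcases hp with rfl | rfl <;> norm_num) d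
    rw [normalizerMonoidHom_ker, mem_subgroupOf] at cC
    have cm : Commute x (c : H) := cC x xP
    rw [← Subgroup.orderOf_coe] at hc
    rcases hp with rfl | rfl
    · exact absurd (h.om.comm cm hx.symm.dvd hc.symm.dvd (by norm_num)) (by decide)
    · exact absurd (h.om.comm cm hx.symm.dvd hc.symm.dvd (by norm_num)) (by decide)
  have dv := index_dvd_of_sup fr
  rw [← P.normalizerMonoidHom.ker.card_mul_index] at dv
  refine ⟨S, Sn, sS, naS, cen, fun N Nn N0 => ?_, fun d => ?_, fun d => ?_, six⟩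
  · rcases mn (N ⊓ S) inferInstance inf_le_right with e | e
    · refine absurd (eq_bot_iff.2 fun a ha => cen ▸ fun b hb => ?_) N0
      exact (commute_of_normal_of_disjoint N S Nn Sn (disjoint_iff.2 e) a b ha hb).symm
    · exact e ▸ inf_le_left
  · have co : Nat.Coprime 4 (Nat.card P.normalizerMonoidHom.ker) :=
      Nat.Coprime.pow_left 2 (m := 2) ((Nat.Prime.coprime_iff_not_dvd Nat.prime_two).2 (np 2 (Or.inl rfl)))
    exact absurd ((co.dvd_of_dvd_mul_left (d.trans dv)).trans d6) (by norm_num)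
  · have co : Nat.Coprime 5 (Nat.card P.normalizerMonoidHom.ker) :=
      (Nat.Prime.coprime_iff_not_dvd (by norm_num)).2 (np 5 (Or.inr rfl))
    exact absurd ((co.dvd_of_dvd_mul_left (d.trans dv)).trans d6) (by norm_num)

end

theorem exists_rad (G : Type*) [Group G] [Finite G] : ∃ (K : Subgroup G) (_ : K.Normal), Group.IsSolvable K ∧
    ∀ N : Subgroup (G ⧸ K), N.Normal → Group.IsSolvable N → N = ⊥ := by
  obtain ⟨K, ⟨Kn, Ks⟩, mx⟩ := Set.Finite.exists_maximal (s := {K : Subgroup G | K.Normal ∧ Group.IsSolvable K})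
    (Set.toFinite _) ⟨⊥, inferInstance, inferInstance⟩
  refine ⟨K, Kn, Ks, fun N Nn Ns => ?_⟩
  have le : K ≤ N.comap (QuotientGroup.mk' K) := fun k hk => by
    rw [mem_comap, QuotientGroup.mk'_apply, (QuotientGroup.eq_one_iff k).2 hk]
    exact one_mem _
  have sol : Group.IsSolvable (N.comap (QuotientGroup.mk' K)) := by
    refine Group.isSolvable_of_ker_le_range (inclusion le) ((QuotientGroup.mk' K).subgroupComap N) fun x hx => ?_
    have e : (x : G) ∈ K := (QuotientGroup.eq_one_iff _).1 (congrArg Subtype.val hx)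
    exact ⟨⟨x, e⟩, rfl⟩
  have ge := mx ⟨inferInstance, sol⟩ le
  rw [eq_bot_iff]
  intro y hy
  obtain ⟨g, rfl⟩ := QuotientGroup.mk'_surjective K y
  exact (QuotientGroup.eq_one_iff g).2 (ge hy)

theorem Hg.exists_rd {G : Type u} [Group G] [Finite G] (h : Hg G) (X : ClSt.{u}) :
    ∃ (H : Type u) (_ : Group H) (_ : Finite H) (π : G →* H) (S : Subgroup H), Rd π S ∧ Six S := by
  obtain ⟨K, Kn, Ks, rad⟩ := exists_rad G
  have n7 := h.not7 K Ks
  have cd : Nat.card G = Nat.card (G ⧸ K) * Nat.card K := card_eq_card_quotient_mul_card_subgroup K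
  have surj := QuotientGroup.mk'_surjective K
  have d7 : 7 ∣ Nat.card (G ⧸ K) := by
    obtain ⟨g, hg⟩ := h.all 7 (by decide)
    have d := orderOf_dvd_natCard g
    rw [hg, cd] at d
    exact ((by norm_num : Nat.Prime 7).dvd_mul.1 d).resolve_right n7
  have r0 : R0 (G ⧸ K) := ⟨h.om.quot K, d7, fun d => h.two (cd ▸ d.mul_right _), rad⟩
  obtain ⟨S, Sn, sS, naS, cen, mn, i2, i5, six⟩ := r0.socle X
  have odd : Odd (Nat.card K) := by
    obtain ⟨T, TK, hT, fr⟩ := exists_frat K 2
    have m7 := h.om.mod7_nrm (Or.inl rfl) hT fr d7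
    have n0 : Nat.card K ≠ 0 := Nat.card_pos.ne'
    have pw := fun k => Nat.prime_two.pow_dvd_iff_le_factorization n0 (k := k)
    have d4 : 2 ^ 2 ∣ Nat.card (G ⧸ K) := (four_dvd_rd sS naS).trans (card_subgroup_dvd_card S)
    have l6 : ¬ 6 ≤ (Nat.card K).factorization 2 := fun l =>
      h.two (cd ▸ (mul_dvd_mul d4 ((pw 6).2 l) : 2 ^ 2 * 2 ^ 6 ∣ _))
    by_contra ev
    have l1 : 1 ≤ (Nat.card K).factorization 2 :=
      (pw 1).1 (even_iff_two_dvd.1 (Nat.not_odd_iff_even.1 ev))
    have f3 : (Nat.card K).factorization 2 = 3 := by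
      generalize (Nat.card K).factorization 2 = k at m7 l6 l1
      have : k ≤ 5 := by omega
      interval_cases k <;> simp_all
    rw [f3] at hT
    -- the normalizer of `T` covers the quotient
    let φ : normalizer (T : Set G) →* G ⧸ K := (QuotientGroup.mk' K).comp (normalizer (T : Set G)).subtype
    have φs : Function.Surjective φ := fun y => by
      obtain ⟨g, rfl⟩ := surj y
      have hg : g ∈ normalizer (T : Set G) ⊔ K := fr ▸ mem_top g
      obtain ⟨a, ha, k, hk, rfl⟩ := mem_sup_of_normal_right.1 hg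
      refine ⟨⟨a, ha⟩, ?_⟩
      change QuotientGroup.mk' K a = _
      rw [map_mul, QuotientGroup.mk'_apply K k, (QuotientGroup.eq_one_iff k).2 hk, mul_one]
    have le : T.normalizerMonoidHom.ker ≤ φ.ker := by
      have nn : (T.normalizerMonoidHom.ker.map φ).Normal := Subgroup.Normal.map inferInstance φ φs
      rw [← Subgroup.map_eq_bot_iff]
      by_contra c0
      obtain ⟨c, cC, hc⟩ := exists_mem_orderOf (by norm_num) ((r0.seven X _ c0).trans (card_map_dvd _ φ))
      rw [normalizerMonoidHom_ker, mem_subgroupOf] at cC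
      obtain ⟨t, tT, ht⟩ := exists_mem_orderOf (p := 2) (K := T) (by norm_num) (by rw [hT]; norm_num)
      have cm : Commute t (c : G) := cC t tT
      rw [← Subgroup.orderOf_coe] at hc
      exact absurd (h.om.comm cm ht.symm.dvd hc.symm.dvd (by norm_num)) (by decide)
    have d168 : Nat.card (MulAut T) ∣ 168 := by
      obtain ⟨r, h1, h2⟩ := (Nat.dvd_prime_pow Nat.prime_two).1 (hT ▸ (frattini T).index_dvd_card)
      refine (Fgs.card_mulAut_dvd hT h2).trans ?_
      interval_cases r <;> decide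
    have dH : Nat.card (G ⧸ K) ∣ 168 := by
      have d := index_dvd_of_le le
      rw [index_ker, index_ker, MonoidHom.range_eq_top.2 φs, card_top] at d
      exact d.trans ((card_subgroup_dvd_card _).trans d168)
    have d := h.d7
    rw [cd] at d
    have d' : 2 ^ 7 ∣ 168 * Nat.card K := d.trans (mul_dvd_mul_right dH _)
    have d16 : 2 ^ 4 ∣ Nat.card K := by omega
    have := (pw 4).1 d16
    omega
  have kr : (QuotientGroup.mk' K).ker = K := QuotientGroup.ker_mk' K
  refine ⟨G ⧸ K, inferInstance, inferInstance, QuotientGroup.mk' K, S,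
    ⟨h, surj, by rwa [kr], by rwa [kr], Sn, sS, naS, cen, mn, i2, i5⟩, six ?_⟩
  have d := h.d7
  rw [cd] at d
  have co : Nat.Coprime 128 (Nat.card K) := Nat.Coprime.pow_left 7 (m := 2) (Nat.coprime_two_left.2 odd)
  have d' := co.dvd_of_dvd_mul_right d
  rw [← S.card_mul_index] at d'
  by_cases e : 2 ∣ S.index
  · obtain ⟨m, hm⟩ := e
    have co : Nat.Coprime 64 m := Nat.Coprime.pow_left 6 (m := 2)
      ((Nat.Prime.coprime_iff_not_dvd Nat.prime_two).2 (by omega))
    rw [hm, mul_left_comm] at d'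
    exact co.dvd_of_dvd_mul_right (Nat.dvd_of_mul_dvd_mul_left (by norm_num : 0 < 2) d')
  · have co : Nat.Coprime 128 S.index := Nat.Coprime.pow_left 7 (m := 2)
      ((Nat.Prime.coprime_iff_not_dvd Nat.prime_two).2 e)
    exact Dvd.dvd.trans (by norm_num) (co.dvd_of_dvd_mul_right d')

end CfsgLib.A10S
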