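import Mathlib
import Cfsg.Agent.Lib.A10S.RRd
import Cfsg.Agent.Lib.A10S.Defs8

/-! RD with the element of order 8.  See plans/A10S.md, plans/A10S-T8.md. -/

set_option autoImplicit false

namespace CfsgLib.A10S
open Cfsg Subgroup
open scoped commutatorElement

universe u

/-- a section containing the full 2-part has an element of order 8 -/
theorem Hg.eight {G : Type u} [Group G] [Finite G] (h : Hg G) (K : Subgroup G) [K.Normal]
    (T : Subgroup (G ⧸ K)) (d : 128 ∣ Nat.card T) : ∃ g : T, orderOf g = 8 := by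
  have cd : Nat.card G = Nat.card (G ⧸ K) * Nat.card K := card_eq_card_quotient_mul_card_subgroup K
  have dH : 128 ∣ Nat.card (G ⧸ K) := d.trans (card_subgroup_dvd_card T)
  have odd : ¬ 2 ∣ Nat.card K := fun e => h.two (cd ▸ (mul_dvd_mul dH e : 128 * 2 ∣ _))
  obtain ⟨g, hg⟩ := h.all 8 (by decide)
  have o8 : orderOf (QuotientGroup.mk' K g) = 8 := by
    refine orderOf_eq_prime_pow (p := 2) (n := 2) (fun e => odd ?_) ?_
    · rw [← map_pow, QuotientGroup.mk'_apply, QuotientGroup.eq_one_iff] at e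
      have := orderOf_dvd_natCard (⟨g ^ 2 ^ 2, e⟩ : K)
      rw [← Subgroup.orderOf_coe, orderOf_pow, hg] at this
      exact this
    · rw [← map_pow, show 2 ^ (2 + 1) = 8 from rfl, ← hg, pow_orderOf_eq_one, map_one]
  obtain ⟨Q, hQ⟩ := (IsPGroup.of_card (p := 2) (n := 3) (G := zpowers (QuotientGroup.mk' K g))
    (by rw [Nat.card_zpowers, o8]; rfl)).exists_le_sylow
  obtain ⟨P0, hP0⟩ := Sylow.exists_subgroup_card_pow_prime (G := T) 2 (n := 7) d
  have c0 : Nat.card (P0.map T.subtype) = 2 ^ 7 := by rw [card_map_of_injective T.subtype_injective, hP0]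
  obtain ⟨P, hP⟩ := (IsPGroup.of_card c0).exists_le_sylow
  have eP : P0.map T.subtype = P := by
    refine eq_of_le_of_card_ge hP ?_
    obtain ⟨n, hn⟩ := IsPGroup.iff_card.1 P.isPGroup'
    rw [hn, c0]
    refine Nat.pow_le_pow_right (by norm_num) ?_
    by_contra lt
    exact h.two (cd ▸ ((pow_dvd_pow 2 (show 8 ≤ n by omega)).trans
      (hn ▸ card_subgroup_dvd_card _)).mul_right _)
  obtain ⟨c, hc⟩ := MulAction.exists_smul_eq (G ⧸ K) Q P
  have m : MulAut.conj c (QuotientGroup.mk' K g) ∈ T := by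
    refine map_subtype_le P0 (eP ▸ ?_)
    rw [← hc]
    exact smul_mem_pointwise_smul _ _ _ (hQ (mem_zpowers _))
  exact ⟨⟨_, m⟩, by rw [← Subgroup.orderOf_coe, MulEquiv.orderOf_eq, o8]⟩

section
variable {H : Type u} [Group H] [Finite H]

theorem R0.min8 (h : R0 H) (X : ∀ T : Subgroup H, Hs T → Lst T) (N : Subgroup H) [N.Normal] (n0 : N ≠ ⊥)
    (mn : ∀ M : Subgroup H, M.Normal → M ≤ N → M = ⊥ ∨ M = N) :
    IsSimpleGroup N ∧ ¬ IsMulCommutative N ∧ 7 ∣ Nat.card N ∧ ¬ 49 ∣ Nat.card N ∧ (64 ∣ Nat.card N → Six N) := by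
  have na : ¬ IsMulCommutative N := fun c =>
    n0 (h.rad N inferInstance (Group.isSolvable_of_comm fun a b => c.is_comm.comm a b))
  obtain ⟨T, TN, -, sT, naT, cj, gen⟩ := Perm.exists_simple_factor N n0 mn na
  have ls : Lst T := X T ⟨sT, naT, h.om.sub T, fun d => h.two (d.trans (card_subgroup_dvd_card T))⟩
  -- conjugates either coincide or commute
  have cm : ∀ g : H, g ∉ normalizer (T : Set H) → ∀ a ∈ T, ∀ b ∈ T, Commute a (g * b * g⁻¹) := fun g hg a aT b bT => by
    rcases cj g with e | e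
    · refine absurd (mem_normalizer_iff_map_conj_eq.2 e) hg
    · exact e (mem_map_of_mem _ bT) a aT
  rcases ls.cases with ⟨n7, d30, f5⟩ | ⟨d7, n49, six⟩
  · exfalso
    obtain ⟨x, -, hx⟩ := exists_mem_orderOf (p := 7) (K := (⊤ : Subgroup H)) (by norm_num) (by rw [card_top]; exact h.d7)
    have xn : x ∈ normalizer (T : Set H) := by
      by_contra xn
      have x2 : x * x ∉ normalizer (T : Set H) := fun m => xn (by
        have e : x = (x * x) ^ 4 := by
          rw [← pow_two, ← pow_mul, show 2 * 4 = 7 + 1 from rfl, pow_succ, ← hx, pow_orderOf_eq_one, one_mul]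
        exact e ▸ pow_mem m 4)
      obtain ⟨a, aT, ha⟩ := exists_mem_orderOf (p := 2) (K := T) (by norm_num) (by omega)
      obtain ⟨b, bT, hb⟩ := exists_mem_orderOf (p := 3) (K := T) (by norm_num) (by omega)
      obtain ⟨c, cT, hc⟩ := exists_mem_orderOf (p := 5) (K := T) (by norm_num) (by omega)
      have bc : Commute (x * b * x⁻¹) (x * x * c * (x * x)⁻¹) := by
        have := (cm x xn b bT c cT).map (MulAut.conj x)
        simp only [MulAut.conj_apply] at this
        convert this using 1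
        group
      have ob : orderOf (x * b * x⁻¹) = 3 := hb ▸ (MulAut.conj x).orderOf_eq b
      have oc : orderOf (x * x * c * (x * x)⁻¹) = 5 := hc ▸ (MulAut.conj (x * x)).orderOf_eq c
      exact absurd (h.om.comm3 (cm x xn a aT b bT) (cm _ x2 a aT c cT) bc ha.symm.dvd ob.symm.dvd oc.symm.dvd
        (by norm_num) (by norm_num)) (by decide)
    have : Fact (Nat.Prime 5) := ⟨by norm_num⟩
    have cT : Nat.card (T.subgroupOf (normalizer (T : Set H))) = Nat.card T :=
      Nat.card_congr (subgroupOfEquivOfLe le_normalizer).toEquiv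
    obtain ⟨P, -, hP, fr⟩ := exists_frat (T.subgroupOf (normalizer (T : Set H))) 5
    rw [cT, f5] at hP
    have d7 : 7 ∣ (T.subgroupOf (normalizer (T : Set H))).index := by
      have d : 7 ∣ Nat.card (normalizer (T : Set H)) := by
        have := orderOf_dvd_natCard (⟨x, xn⟩ : normalizer (T : Set H))
        rwa [← Subgroup.orderOf_coe, hx] at this
      rw [← (T.subgroupOf (normalizer (T : Set H))).card_mul_index, cT] at d
      exact ((by norm_num : Nat.Prime 7).dvd_mul.1 d).resolve_left n7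
    exact absurd ((h.om.sub _).mod7_nrm (Or.inr rfl) hP fr d7) (by norm_num)
  · have e : T = N := by
      refine le_antisymm TN (gen T fun g => ?_)
      by_cases hg : g ∈ normalizer (T : Set H)
      · exact (mem_normalizer_iff_map_conj_eq.1 hg).le
      · exfalso
        obtain ⟨a, aT, ha⟩ := exists_mem_orderOf (p := 2) (K := T) (by norm_num)
          (Dvd.dvd.trans (by norm_num) (four_dvd_rd sT naT))
        obtain ⟨b, bT, hb⟩ := exists_mem_orderOf (p := 7) (K := T) (by norm_num) d7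
        have ob : orderOf (g * b * g⁻¹) = 7 := hb ▸ (MulAut.conj g).orderOf_eq b
        exact absurd (h.om.comm (cm g hg a aT b bT) ha.symm.dvd ob.symm.dvd (by norm_num)) (by decide)
    subst e
    exact ⟨sT, naT, d7, n49, six⟩

theorem R0.seven8 (h : R0 H) (X : ∀ T : Subgroup H, Hs T → Lst T) (N : Subgroup H) [N.Normal] (n0 : N ≠ ⊥) : 7 ∣ Nat.card N := by
  obtain ⟨M, Mn, M0, le, mn⟩ := Core.exists_minimal_normal_le n0
  exact (h.min8 X M M0 mn).2.2.1.trans (card_dvd_of_le le)

/-- the socle -/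
theorem R0.socle8 (h : R0 H) (X : ∀ T : Subgroup H, Hs T → Lst T) : ∃ S : Subgroup H, S.Normal ∧ IsSimpleGroup S ∧ ¬ IsMulCommutative S ∧
    centralizer (S : Set H) = ⊥ ∧ (∀ N : Subgroup H, N.Normal → N ≠ ⊥ → S ≤ N) ∧ ¬ 4 ∣ S.index ∧ ¬ 5 ∣ S.index ∧
    (64 ∣ Nat.card S → Six S) := by
  have t0 : (⊤ : Subgroup H) ≠ ⊥ := fun e => by
    have d := h.d7
    rw [← card_top, e, card_bot] at d
    omega
  obtain ⟨S, Sn, S0, -, mn⟩ := Core.exists_minimal_normal_le t0
  obtain ⟨sS, naS, d7, n49, six⟩ := h.min8 X S S0 mn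
  have cen : centralizer (S : Set H) = ⊥ := by
    by_contra c0
    obtain ⟨b, bC, hb⟩ := exists_mem_orderOf (by norm_num) (h.seven8 X _ c0)
    obtain ⟨a, aS, ha⟩ := exists_mem_orderOf (p := 2) (K := S) (by norm_num)
      (Dvd.dvd.trans (by norm_num) (four_dvd_rd sS naS))
    have c : Commute a b := bC a aS
    exact absurd (h.om.comm c ha.symm.dvd hb.symm.dvd (by norm_num)) (by decide)
  have : Fact (Nat.Prime 7) := ⟨by norm_num⟩
  obtain ⟨P, -, hP, fr⟩ := exists_frat S 7
  have f7 : (Nat.card S).factorization 7 = 1 := by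
    have n0 : Nat.card S ≠ 0 := Nat.card_pos.ne'
    have a := ((by norm_num : Nat.Prime 7).pow_dvd_iff_le_factorization n0 (k := 1)).1 (by omega)
    have b := mt ((by norm_num : Nat.Prime 7).pow_dvd_iff_le_factorization n0 (k := 2)).2 (by omega)
    omega
  rw [f7, pow_one] at hP
  obtain ⟨x, xP, hx⟩ := exists_mem_orderOf (p := 7) (K := P) (by norm_num) hP.symm.dvd
  have cyc : IsCyclic P := isCyclic_of_prime_card hP
  have d6 : P.normalizerMonoidHom.ker.index ∣ 6 := by
    rw [index_ker]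
    refine (card_subgroup_dvd_card _).trans ?_
    rw [IsCyclic.card_mulAut, hP]
    decide
  have np : ∀ p : ℕ, p = 2 ∨ p = 5 → ¬ p ∣ Nat.card P.normalizerMonoidHom.ker := fun p hp d => by
    obtain ⟨c, cC, hc⟩ := exists_mem_orderOf (by rcases hp with rfl | rfl <;> norm_num) d
    rw [normalizerMonoidHom_ker, mem_subgroupOf] at cC
    have cm : Commute x (c : H) := cC x xP
    rw [← Subgroup.orderOf_coe] at hc
    rcases hp with rfl | rfl
    · exact absurd (h.om.comm cm hx.symm.dvd hc.symm.dvd (by norm_num)) (by decide)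
    · exact absurd (h.om.comm cm hx.symm.dvd hc.symm.dvd (by norm_num)) (by decide)
  have dv := index_dvd_of_sup fr
  rw [← P.normalizerMonoidHom.ker.card_mul_index] at dv
  refine ⟨S, Sn, sS, naS, cen, fun N Nn N0 => ?_, fun d => ?_, fun d => ?_, six⟩
  · rcases mn (N ⊓ S) inferInstance inf_le_right with e | e
    · refine absurd (eq_bot_iff.2 fun a ha => cen ▸ fun b hb => ?_) N0
      exact (commute_of_normal_of_disjoint N S Nn Sn (disjoint_iff.2 e) a b ha hb).symm
    · exact e ▸ inf_le_left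
  · have co : Nat.Coprime 4 (Nat.card P.normalizerMonoidHom.ker) :=
      Nat.Coprime.pow_left 2 (m := 2) ((Nat.Prime.coprime_iff_not_dvd Nat.prime_two).2 (np 2 (Or.inl rfl)))
    exact absurd ((co.dvd_of_dvd_mul_left (d.trans dv)).trans d6) (by norm_num)
  · have co : Nat.Coprime 5 (Nat.card P.normalizerMonoidHom.ker) :=
      (Nat.Prime.coprime_iff_not_dvd (by norm_num)).2 (np 5 (Or.inr rfl))
    exact absurd ((co.dvd_of_dvd_mul_left (d.trans dv)).trans d6) (by norm_num)

end

theorem Hg.exists_rd8 {G : Type u} [Group G] [Finite G] (h : Hg G) (X8 : ClSt8.{u}) :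
    ∃ (H : Type u) (_ : Group H) (_ : Finite H) (π : G →* H) (S : Subgroup H), Rd π S ∧ Six S := by
  obtain ⟨K, Kn, Ks, rad⟩ := exists_rad G
  have n7 := h.not7 K Ks
  have cd : Nat.card G = Nat.card (G ⧸ K) * Nat.card K := card_eq_card_quotient_mul_card_subgroup K
  have surj := QuotientGroup.mk'_surjective K
  have d7 : 7 ∣ Nat.card (G ⧸ K) := by
    obtain ⟨g, hg⟩ := h.all 7 (by decide)
    have d := orderOf_dvd_natCard g
    rw [hg, cd] at d
    exact ((by norm_num : Nat.Prime 7).dvd_mul.1 d).resolve_right n7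
  have r0 : R0 (G ⧸ K) := ⟨h.om.quot K, d7, fun d => h.two (cd ▸ d.mul_right _), rad⟩
  have X : ∀ T : Subgroup (G ⧸ K), Hs T → Lst T := fun T hT => X8 T hT (h.eight K T)
  obtain ⟨S, Sn, sS, naS, cen, mn, i2, i5, six⟩ := r0.socle8 X
  have odd : Odd (Nat.card K) := by
    obtain ⟨T, TK, hT, fr⟩ := exists_frat K 2
    have m7 := h.om.mod7_nrm (Or.inl rfl) hT fr d7
    have n0 : Nat.card K ≠ 0 := Nat.card_pos.ne'
    have pw := fun k => Nat.prime_two.pow_dvd_iff_le_factorization n0 (k := k)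
    have d4 : 2 ^ 2 ∣ Nat.card (G ⧸ K) := (four_dvd_rd sS naS).trans (card_subgroup_dvd_card S)
    have l6 : ¬ 6 ≤ (Nat.card K).factorization 2 := fun l =>
      h.two (cd ▸ (mul_dvd_mul d4 ((pw 6).2 l) : 2 ^ 2 * 2 ^ 6 ∣ _))
    by_contra ev
    have l1 : 1 ≤ (Nat.card K).factorization 2 :=
      (pw 1).1 (even_iff_two_dvd.1 (Nat.not_odd_iff_even.1 ev))
    have f3 : (Nat.card K).factorization 2 = 3 := by
      generalize (Nat.card K).factorization 2 = k at m7 l6 l1
      have : k ≤ 5 := by omega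
      interval_cases k <;> simp_all
    rw [f3] at hT
    -- the normalizer of `T` covers the quotient
    let φ : normalizer (T : Set G) →* G ⧸ K := (QuotientGroup.mk' K).comp (normalizer (T : Set G)).subtype
    have φs : Function.Surjective φ := fun y => by
      obtain ⟨g, rfl⟩ := surj y
      have hg : g ∈ normalizer (T : Set G) ⊔ K := fr ▸ mem_top g
      obtain ⟨a, ha, k, hk, rfl⟩ := mem_sup_of_normal_right.1 hg
      refine ⟨⟨a, ha⟩, ?_⟩
      change QuotientGroup.mk' K a = _
      rw [map_mul, QuotientGroup.mk'_apply K k, (QuotientGroup.eq_one_iff k).2 hk, mul_one]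
    have le : T.normalizerMonoidHom.ker ≤ φ.ker := by
      have nn : (T.normalizerMonoidHom.ker.map φ).Normal := Subgroup.Normal.map inferInstance φ φs
      rw [← Subgroup.map_eq_bot_iff]
      by_contra c0
      obtain ⟨c, cC, hc⟩ := exists_mem_orderOf (by norm_num) ((r0.seven8 X _ c0).trans (card_map_dvd _ φ))
      rw [normalizerMonoidHom_ker, mem_subgroupOf] at cC
      obtain ⟨t, tT, ht⟩ := exists_mem_orderOf (p := 2) (K := T) (by norm_num) (by rw [hT]; norm_num)
      have cm : Commute t (c : G) := cC t tT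
      rw [← Subgroup.orderOf_coe] at hc
      exact absurd (h.om.comm cm ht.symm.dvd hc.symm.dvd (by norm_num)) (by decide)
    have d168 : Nat.card (MulAut T) ∣ 168 := by
      obtain ⟨r, h1, h2⟩ := (Nat.dvd_prime_pow Nat.prime_two).1 (hT ▸ (frattini T).index_dvd_card)
      refine (Fgs.card_mulAut_dvd hT h2).trans ?_
      interval_cases r <;> decide
    have dH : Nat.card (G ⧸ K) ∣ 168 := by
      have d := index_dvd_of_le le
      rw [index_ker, index_ker, MonoidHom.range_eq_top.2 φs, card_top] at d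
      exact d.trans ((card_subgroup_dvd_card _).trans d168)
    have d := h.d7
    rw [cd] at d
    have d' : 2 ^ 7 ∣ 168 * Nat.card K := d.trans (mul_dvd_mul_right dH _)
    have d16 : 2 ^ 4 ∣ Nat.card K := by omega
    have := (pw 4).1 d16
    omega
  have kr : (QuotientGroup.mk' K).ker = K := QuotientGroup.ker_mk' K
  refine ⟨G ⧸ K, inferInstance, inferInstance, QuotientGroup.mk' K, S,
    ⟨h, surj, by rwa [kr], by rwa [kr], Sn, sS, naS, cen, mn, i2, i5⟩, six ?_⟩
  have d := h.d7
  rw [cd] at d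
  have co : Nat.Coprime 128 (Nat.card K) := Nat.Coprime.pow_left 7 (m := 2) (Nat.coprime_two_left.2 odd)
  have d' := co.dvd_of_dvd_mul_right d
  rw [← S.card_mul_index] at d'
  by_cases e : 2 ∣ S.index
  · obtain ⟨m, hm⟩ := e
    have co : Nat.Coprime 64 m := Nat.Coprime.pow_left 6 (m := 2)
      ((Nat.Prime.coprime_iff_not_dvd Nat.prime_two).2 (by omega))
    rw [hm, mul_left_comm] at d'
    exact co.dvd_of_dvd_mul_right (Nat.dvd_of_mul_dvd_mul_left (by norm_num : 0 < 2) d')
  · have co : Nat.Coprime 128 S.index := Nat.Coprime.pow_left 7 (m := 2)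
      ((Nat.Prime.coprime_iff_not_dvd Nat.prime_two).2 e)
    exact Dvd.dvd.trans (by norm_num) (co.dvd_of_dvd_mul_right d')

end CfsgLib.A10S
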