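import Mathlib
import Cfsg.Agent.Lib.A10S.Bas
import Cfsg.Agent.Lib.Sect.Tools

/-! Sylow 2-subgroups of order 128 and exponent 8: definitions (plans/A10S-T8.md). -/

set_option autoImplicit false

namespace CfsgLib.A10S
open Cfsg Subgroup

variable {G : Type*} [Group G]

/-- `T` is a Sylow 2-subgroup of order 128 containing `x` of order 8. -/
structure T8 (T : Subgroup G) (x : G) : Prop extends Hs G where
  card : Nat.card T = 128
  xT : x ∈ T
  x8 : orderOf x = 8

/-- `M` has index two in `T` and its squares lie in `⟨x ^ 4⟩`. -/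
structure MZ (T M : Subgroup G) (x : G) : Prop extends T8 T x where
  le : M ≤ T
  cardM : Nat.card M = 64
  sq : ∀ m ∈ M, m * m = 1 ∨ m * m = x ^ 4

/-- no elementary abelian subgroup of order 32 -/
def NE (G : Type*) [Group G] : Prop := ∀ B : Subgroup G, (∀ b ∈ B, b * b = 1) → Nat.card B ≤ 16

end CfsgLib.A10S
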