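import Mathlib
import Cfsg.Agent.Lib.A10S.T8D
import Cfsg.Agent.Lib.ZStar.Main
import Cfsg.Agent.Lib.Transfer.Cocycle

/-! T8A: Sylow conjugation, Z*, transfer.  See plans/A10S-T8.md. -/

set_option autoImplicit false
set_option linter.unusedSectionVars false

namespace CfsgLib.A10S
open Cfsg Subgroup CfsgLib.Sect

variable {G : Type*} [Group G] [Finite G] {T M : Subgroup G} {x : G}

theorem T8.pg (h : T8 T x) : IsPGroup 2 T := IsPGroup.of_card (n := 7) (by rw [h.card]; norm_num)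

theorem T8.odd (h : T8 T x) : ¬ 2 ∣ T.index := by
  rintro ⟨k, hk⟩
  refine h.two ⟨k, ?_⟩
  rw [← T.card_mul_index, h.card, hk]
  ring

theorem T8.syl_in (h : T8 T x) {H R : Subgroup G} (hT : T ≤ H) (hR : IsPGroup 2 R) (le : R ≤ H) :
    ∃ k ∈ H, ∀ r ∈ R, k⁻¹ * r * k ∈ T := by
  have i : ¬ 2 ∣ (T.subgroupOf H).index := fun d => h.odd (d.trans (relIndex_dvd_index_of_le hT))
  let P : Sylow 2 H := (h.pg.comap_of_injective H.subtype H.subtype_injective).toSylow i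
  obtain ⟨Q, hQ⟩ := (hR.comap_of_injective H.subtype H.subtype_injective).exists_le_sylow
  obtain ⟨k, hk⟩ := MulAction.exists_smul_eq H P Q
  refine ⟨k, k.2, fun r hr => ?_⟩
  have : (⟨r, le hr⟩ : H) ∈ ((k • P : Sylow 2 H) : Subgroup H) := hk ▸ hQ (show (⟨r, le hr⟩ : H) ∈ R.comap H.subtype from hr)
  rw [Sylow.coe_subgroup_smul, mem_pointwise_smul_iff_inv_smul_mem] at this
  have e : ((MulAut.conj k)⁻¹ • (⟨r, le hr⟩ : H) : H) = k⁻¹ * ⟨r, le hr⟩ * k := by simp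
  rw [e] at this
  exact this

theorem T8.ext (h : T8 T x) {z g : G} (zc : ∀ y ∈ T, y * z = z * y) {R : Subgroup G} (hR : IsPGroup 2 R)
    (c : ∀ r ∈ R, r * (g * z * g⁻¹) = g * z * g⁻¹ * r) :
    ∃ k, k * z * k⁻¹ = g * z * g⁻¹ ∧ ∀ r ∈ R, k⁻¹ * r * k ∈ T := by
  obtain ⟨k, hk, e⟩ := h.syl_in (H := centralizer ({z} : Set G)) (R := R.map (MulAut.conj g⁻¹).toMonoidHom)
    (fun y hy => mem_cent.2 (zc y hy)) (hR.map _) (by
      rintro _ ⟨r, hr, rfl⟩
      refine mem_cent.2 ?_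
      simp only [MulEquiv.coe_toMonoidHom, MulAut.conj_apply, inv_inv]
      calc g⁻¹ * r * g * z = g⁻¹ * (r * (g * z * g⁻¹)) * g := by group
        _ = z * (g⁻¹ * r * g) := by rw [c r hr]; group)
  refine ⟨g * k, ?_, fun r hr => ?_⟩
  · calc g * k * z * (g * k)⁻¹ = g * (k * z) * (g * k)⁻¹ := by group
      _ = g * z * g⁻¹ := by rw [mem_cent.1 hk]; group
  · have := e _ ⟨r, hr, rfl⟩
    simp only [MulEquiv.coe_toMonoidHom, MulAut.conj_apply, inv_inv] at this
    convert this using 1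
    group

theorem T8.zst (h : T8 T x) {z : G} (z1 : z ≠ 1) (z2 : z * z = 1) (zc : ∀ y ∈ T, y * z = z * y) :
    ∃ g, g * z * g⁻¹ ∈ T ∧ g * z * g⁻¹ ≠ z ∧
      ∀ y ∈ T, y * (g * z * g⁻¹) = g * z * g⁻¹ * y → g⁻¹ * y * g ∈ T := by
  have := h.simple
  have o : orderOf z = 2 := orderOf_eq_prime (by rw [pow_two, z2]) z1
  have k := ZStar.not_isolated_of_simple h.na z
  simp only [IsIsolatedInvolution, o, true_and, not_forall] at k
  obtain ⟨g, c, ne⟩ := k
  have t2 : g * z * g⁻¹ * (g * z * g⁻¹) = 1 := by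
    calc g * z * g⁻¹ * (g * z * g⁻¹) = g * (z * z) * g⁻¹ := by group
      _ = 1 := by rw [z2]; group
  obtain ⟨k, hk, e⟩ := h.syl_in (H := centralizer ({z} : Set G)) (R := zpowers (g * z * g⁻¹))
    (fun y hy => mem_cent.2 (zc y hy))
    (fun a => ⟨1, Subtype.ext (by
      rcases (mem_zpowers_two t2).1 a.2 with q | q <;> simp [pow_two, q, t2])⟩)
    (zpowers_le.2 (mem_cent.2 c.eq.symm))
  have e1 : k⁻¹ * g * z * (k⁻¹ * g)⁻¹ = k⁻¹ * (g * z * g⁻¹) * k := by group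
  obtain ⟨l, l1, l2⟩ := h.ext (g := k⁻¹ * g) zc (R := T ⊓ centralizer ({k⁻¹ * g * z * (k⁻¹ * g)⁻¹} : Set G))
    (h.pg.to_le inf_le_left) (fun r hr => mem_cent.1 hr.2)
  refine ⟨l, ?_, fun q => ne ?_, fun y hy c => l2 y ⟨hy, mem_cent.2 (l1 ▸ c)⟩⟩
  · rw [l1, e1]; exact e _ (mem_zpowers _)
  · rw [l1, e1] at q
    calc g * z * g⁻¹ = k * (k⁻¹ * (g * z * g⁻¹) * k) * k⁻¹ := by group
      _ = z := by rw [q, mem_cent.1 hk]; group

open Transfer in
theorem trf_aux {A : Type*} [CommGroup A] {H R : Subgroup G} (ϕ : H →* A) (hG : commutator G = ⊤)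
    (hH : ¬ 2 ∣ H.index) {σ : A} (s1 : σ ≠ 1) (s2 : σ * σ = 1) {u : G} (hu : u * u = 1) (hR : IsPGroup 2 R)
    (hRu : R ≤ centralizer {u}) :
    ∃ (t : G) (m : t⁻¹ * u * t ∈ H), ϕ ⟨_, m⟩ ≠ σ ∧ ∀ r ∈ R, t⁻¹ * r * t ∈ H := by
  classical
  have := Fintype.ofFinite (G ⧸ H)
  have hc := isCocycle_cosetCocycle ϕ
  have htr : tr ϕ u = 1 := Abelianization.commutator_subset_ker (tr ϕ) (hG ▸ mem_top u)
  by_contra hno
  have sq : ∀ q : G ⧸ H, cosetCocycle ϕ u (u • q) * cosetCocycle ϕ u q = 1 := fun q => by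
    rw [← hc, hu, hc.one]
  let Z : A → SubMulAction R (G ⧸ H) := fun a =>
    { carrier := {q | u • q = q ∧ cosetCocycle ϕ u q = a}
      smul_mem' := fun r q hq => by
        have h3 : (r : G) * u * (r : G)⁻¹ = u := by
          rw [mem_centralizer_singleton_iff.1 (hRu r.2), mul_inv_cancel_right]
        refine ⟨?_, ?_⟩
        · change u • (r : G) • q = (r : G) • q
          rw [← mul_smul, ← mem_centralizer_singleton_iff.1 (hRu r.2), mul_smul, hq.1]
        · change cosetCocycle ϕ u ((r : G) • q) = a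
          rw [← hq.2, ← hc.conj r hq.1, h3] }
  have ev : ∀ a, a ≠ σ → 2 ∣ Nat.card (Z a) := fun a ha => by
    by_contra hodd
    obtain ⟨⟨q, hq1, hq2⟩, hq⟩ := hR.nonempty_fixed_point_of_prime_not_dvd_card (Z a) hodd
    induction q using QuotientGroup.induction_on with | H t => ?_
    have h5 := smul_mk_eq_iff.1 hq1
    exact hno ⟨t, h5, by rwa [← cosetCocycle_mk ϕ h5, hq2],
      fun r hr => smul_mk_eq_iff.1 (congrArg Subtype.val (hq ⟨r, hr⟩))⟩
  let Q : G ⧸ H → Prop := fun q => u • q = q ∧ cosetCocycle ϕ u q ≠ σ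
  have e1 : ∏ q ∈ Finset.univ.filter (fun q => ¬ Q q), cosetCocycle ϕ u q * σ = 1 := by
    refine Finset.prod_involution (fun q _ => u • q) ?_ ?_ ?_ ?_
    · intro q _
      rw [mul_mul_mul_comm, s2, mul_one, mul_comm, sq]
    · intro q hq h1 h3
      apply h1
      rw [not_not.1 fun e => (Finset.mem_filter.1 hq).2 ⟨h3, e⟩, s2]
    · intro q hq
      refine Finset.mem_filter.2 ⟨Finset.mem_univ _, fun h1 => (Finset.mem_filter.1 hq).2 ?_⟩
      rwa [MulAction.injective u h1.1] at h1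
    · intro q _
      rw [← mul_smul, hu, one_smul]
  have e2 : ∏ q ∈ Finset.univ.filter Q, cosetCocycle ϕ u q * σ = 1 := by
    rw [Finset.prod_comp (fun a => a * σ) (cosetCocycle ϕ u)]
    refine Finset.prod_eq_one fun a ha => ?_
    obtain ⟨q, hq, rfl⟩ := Finset.mem_image.1 ha
    obtain ⟨q1, q2⟩ := (Finset.mem_filter.1 hq).2
    obtain ⟨m, hm⟩ := ev _ q2
    have : ((Finset.univ.filter Q).filter fun x => cosetCocycle ϕ u x = cosetCocycle ϕ u q).card =
        Nat.card (Z (cosetCocycle ϕ u q)) := by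
      rw [Finset.filter_filter, ← Fintype.card_subtype, ← Nat.card_eq_fintype_card]
      exact Nat.card_congr (Equiv.subtypeEquivRight fun x =>
        ⟨fun k => ⟨k.1.1, k.2⟩, fun k => ⟨⟨k.1, k.2 ▸ q2⟩, k.2⟩⟩)
    have k := sq q
    rw [q1] at k
    rw [this, hm, pow_mul, pow_two, mul_mul_mul_comm, k, s2, one_mul, one_pow]
  have e3 := Finset.prod_filter_mul_prod_filter_not Finset.univ Q (fun q => cosetCocycle ϕ u q * σ)
  rw [e1, e2, Finset.prod_mul_distrib, ← tr_apply, htr, Finset.prod_const, Finset.card_univ,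
    ← Nat.card_eq_fintype_card, ← index, one_mul, one_mul] at e3
  obtain ⟨m, hm⟩ := Nat.odd_iff.2 (Nat.two_dvd_ne_zero.1 hH)
  rw [hm, pow_succ, pow_mul, pow_two, s2, one_pow, one_mul] at e3
  exact s1 e3.symm

theorem T8.trf (h : T8 T x) {K R : Subgroup G} (hc : ∀ a ∈ T, ∀ b ∈ T, a * b * a⁻¹ * b⁻¹ ∈ K) {u : G}
    (uT : u ∈ T) (uK : u ∉ K) (u2 : u * u = 1) (hR : IsPGroup 2 R) (c : ∀ r ∈ R, r * u = u * r) :
    ∃ t, t⁻¹ * u * t ∈ T ∧ t⁻¹ * u * t * u ∉ K ∧ ∀ r ∈ R, t⁻¹ * r * t ∈ T := by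
  have := h.simple
  have hG : commutator G = ⊤ := (IsSimpleGroup.eq_bot_or_eq_top_of_normal _ inferInstance).resolve_left
    fun e => h.na ⟨⟨fun a b => commutatorElement_eq_one_iff_mul_comm.1
      (mem_bot.1 (e.le (commutator_mem_commutator (mem_top a) (mem_top b))))⟩⟩
  have : (K.subgroupOf T).Normal := ⟨fun n hn g => by
    simpa [mem_subgroupOf] using mul_mem (hc g g.2 n n.2) hn⟩
  let _ : CommGroup (T ⧸ K.subgroupOf T) :=
    { (inferInstance : Group (T ⧸ K.subgroupOf T)) with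
      mul_comm := fun a b => by
        obtain ⟨a, rfl⟩ := QuotientGroup.mk_surjective a
        obtain ⟨b, rfl⟩ := QuotientGroup.mk_surjective b
        exact commutatorElement_eq_one_iff_mul_comm.1
          ((QuotientGroup.eq_one_iff (a * b * a⁻¹ * b⁻¹ : T)).2 (hc a a.2 b b.2)) }
  obtain ⟨t, m, k, l⟩ := trf_aux (QuotientGroup.mk' (K.subgroupOf T)) hG h.odd
    (σ := QuotientGroup.mk' (K.subgroupOf T) ⟨u, uT⟩) (fun e => uK ((QuotientGroup.eq_one_iff (N := K.subgroupOf T) ⟨u, uT⟩).1 e))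
    (by rw [← map_mul, show (⟨u, uT⟩ * ⟨u, uT⟩ : T) = 1 from Subtype.ext u2, map_one]) u2 hR
    (fun r hr => mem_cent.2 (c r hr))
  refine ⟨t, m, fun e => k (QuotientGroup.eq.2 ?_), l⟩
  have : (t⁻¹ * u * t)⁻¹ = t⁻¹ * u * t := by rw [mul_inv_rev, mul_inv_rev, inv_inv, inv_eq_of_mul_eq_one_right u2, mul_assoc]
  change (t⁻¹ * u * t)⁻¹ * u ∈ K
  rwa [this]

theorem T8.pow_norm (h : T8 T x) {n : G} (hn : ∀ y ∈ T, n⁻¹ * y * n ∈ T) : ∃ m, Odd m ∧ n ^ m ∈ T := by
  have nN : n ∈ normalizer (T : Set G) := by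
    refine inv_mem_iff.1 (mem_normalizer_fintype fun y hy => ?_)
    simpa using hn y hy
  refine ⟨T.relIndex (normalizer (T : Set G)), Nat.not_even_iff_odd.1 fun e => h.odd
    (e.two_dvd.trans (relIndex_dvd_index_of_le le_normalizer)), ?_⟩
  exact pow_index_mem (T.subgroupOf (normalizer (T : Set G))) ⟨n, nN⟩

/-- `N(T) = T` when the number of elements of order 8 in `T` is 32 -/
theorem T8.mem_of_norm (h : T8 T x) (h32 : Nat.card {y : G // y ∈ T ∧ orderOf y = 8} = 32) {n : G}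
    (hn : ∀ y ∈ T, n⁻¹ * y * n ∈ T) : n ∈ T := by
  have nN : n ∈ normalizer (T : Set G) := by
    refine inv_mem_iff.1 (mem_normalizer_fintype fun y hy => ?_)
    simpa using hn y hy
  have n8 : n ^ 8 = 1 := by
    by_contra ne
    have o1 : orderOf (n ^ 8) ≠ 1 := fun e => ne (orderOf_eq_one_iff.1 e)
    obtain ⟨r, pr, d⟩ := Nat.exists_prime_and_dvd o1
    have r2 : r ≠ 2 := by
      rintro rfl
      have a := h.om n
      rw [orderOf_pow] at d
      generalize orderOf n = k at a d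
      revert k
      decide
    have : Fact r.Prime := ⟨pr⟩
    set s := (n ^ 8) ^ (orderOf (n ^ 8) / r) with hs
    have os : orderOf s = r := h.om.pow_ord d
    have sN : s ∈ normalizer (T : Set G) := pow_mem (pow_mem nN 8) _
    let Z : SubMulAction (zpowers (ConjAct.toConjAct s)) G :=
      { carrier := {y | y ∈ T ∧ orderOf y = 8}
        smul_mem' := fun c y hy => by
          obtain ⟨_, k, rfl⟩ := c
          change ConjAct.toConjAct s ^ k • y ∈ T ∧ orderOf (ConjAct.toConjAct s ^ k • y) = 8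
          rw [← map_zpow, ConjAct.toConjAct_smul]
          exact ⟨(mem_normalizer_iff.1 (zpow_mem sN k) y).1 hy.1,
            ((MulAut.conj (s ^ k)).orderOf_eq y).trans hy.2⟩ }
    have pg : IsPGroup r (zpowers (ConjAct.toConjAct s)) :=
      IsPGroup.of_card (n := 1) (by rw [Nat.card_zpowers, MulEquiv.orderOf_eq, os, pow_one])
    obtain ⟨⟨y, y1, y2⟩, hy⟩ := pg.nonempty_fixed_point_of_prime_not_dvd_card Z (by
      rw [show Nat.card Z = 32 from h32]
      exact fun q => r2 ((Nat.prime_dvd_prime_iff_eq pr Nat.prime_two).1 (pr.dvd_of_dvd_pow (n := 5) q)))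
    have c : s * y * s⁻¹ = y := congrArg Subtype.val (hy ⟨_, mem_zpowers _⟩)
    have m := h.om.comm (a := y) (b := s) (m := 8) (n := r) (mul_inv_eq_iff_eq_mul.1 c).symm (y2 ▸ dvd_rfl)
      (os ▸ dvd_rfl) (((Nat.coprime_primes Nat.prime_two pr).2 r2.symm).pow_left 3)
    have := pr.two_le
    simp only [om, Finset.mem_insert, Finset.mem_singleton] at m
    omega
  obtain ⟨m, ⟨j, rfl⟩, k⟩ := h.pow_norm hn
  have e : n = (n ^ (2 * j + 1)) ^ (2 * j + 1) := by
    obtain ⟨i, hi⟩ := Nat.even_mul_succ_self j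
    rw [← pow_mul, show (2 * j + 1) * (2 * j + 1) = 8 * i + 1 by nlinarith, pow_succ, pow_mul, n8, one_pow, one_mul]
  rw [e]
  exact pow_mem k _

end CfsgLib.A10S
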