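import Mathlib
import Cfsg.Agent.Lib.A10S.T8A

/-! T8M: the subgroup of index two with Frattini subgroup of order two.  See plans/A10S-T8.md. -/

set_option autoImplicit false
set_option linter.unusedSectionVars false

namespace CfsgLib.A10S
open Cfsg Subgroup CfsgLib.Sect

variable {G : Type*} [Group G] [Finite G] {T M : Subgroup G} {x : G}

theorem T8.z1 (h : T8 T x) : x ^ 4 ≠ 1 := fun e => by
  have := orderOf_dvd_of_pow_eq_one e
  rw [h.x8] at this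
  omega

theorem T8.z2 (h : T8 T x) : x ^ 4 * x ^ 4 = 1 := by
  rw [← pow_add, show 4 + 4 = orderOf x from h.x8.symm, pow_orderOf_eq_one]

theorem T8.zi (h : T8 T x) : (x ^ 4)⁻¹ = x ^ 4 := inv_eq_of_mul_eq_one_right h.z2

theorem MZ.rel (h : MZ T M x) : M.relIndex T = 2 := by
  have := card_eq_relIndex' h.le
  rw [h.card, h.cardM] at this
  omega

theorem MZ.idx (h : MZ T M x) {a b : G} (ha : a ∈ T) (hb : b ∈ T) (h1 : a ∉ M) (h2 : b ∉ M) : a * b ∈ M :=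
  mul_mem_of_le_two h.rel.le ha hb h1 h2

theorem MZ.sqT (h : MZ T M x) {a : G} (ha : a ∈ T) : a * a ∈ M := by
  by_cases k : a ∈ M
  · exact mul_mem k k
  · exact h.idx ha ha k k

theorem MZ.nrm (h : MZ T M x) {a m : G} (ha : a ∈ T) (hm : m ∈ M) : a * m * a⁻¹ ∈ M := by
  by_cases k : a ∈ M
  · exact mul_mem (mul_mem k hm) (inv_mem k)
  · exact h.idx (mul_mem ha (h.le hm)) (inv_mem ha) (fun e => k ((mul_mem_cancel_right hm).1 e))
      (fun e => k (inv_mem_iff.1 e))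

theorem MZ.m4 (h : MZ T M x) {m : G} (hm : m ∈ M) : m ^ 4 = 1 := by
  rw [show m ^ 4 = m * m * (m * m) by simp only [pow_succ, pow_zero, one_mul, mul_assoc]]
  rcases h.sq m hm with e | e <;> rw [e]
  · simp
  · exact h.z2

theorem MZ.xM (h : MZ T M x) : x ∉ M := fun e => h.z1 (h.m4 e)

theorem MZ.zM (h : MZ T M x) : x ^ 4 ∈ M := by
  rw [show x ^ 4 = x * x * (x * x) by simp only [pow_succ, pow_zero, one_mul, mul_assoc]]
  exact mul_mem (h.sqT h.xT) (h.sqT h.xT)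

theorem MZ.pow4 (h : MZ T M x) {y : G} (hy : y ∈ T) : y ^ 4 = 1 ∨ y ^ 4 = x ^ 4 := by
  rw [show y ^ 4 = y * y * (y * y) by simp only [pow_succ, pow_zero, one_mul, mul_assoc]]
  exact h.sq _ (h.sqT hy)

theorem MZ.fix (h : MZ T M x) {n : G} (hn : ∀ y ∈ T, n⁻¹ * y * n ∈ T) : n * x ^ 4 = x ^ 4 * n := by
  have e : (n⁻¹ * x * n) ^ 4 = n⁻¹ * x ^ 4 * n := by
    simpa using conj_pow (i := 4) (a := n⁻¹) (b := x)
  rcases h.pow4 (hn x h.xT) with k | k <;> rw [e] at k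
  · refine (h.z1 ?_).elim
    calc x ^ 4 = n * (n⁻¹ * x ^ 4 * n) * n⁻¹ := by group
      _ = 1 := by rw [k]; group
  · calc n * x ^ 4 = n * (n⁻¹ * x ^ 4 * n) := by rw [k]
      _ = x ^ 4 * n := by group

theorem MZ.zc (h : MZ T M x) {y : G} (hy : y ∈ T) : y * x ^ 4 = x ^ 4 * y :=
  h.fix fun _ ha => mul_mem (mul_mem (inv_mem hy) ha) hy

theorem MZ.sqz (h : MZ T M x) : ∀ m ∈ M, m * m ∈ zpowers (x ^ 4) := fun m hm =>
  (mem_zpowers_two h.z2).2 (h.sq m hm)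

theorem MZ.cm (h : MZ T M x) {a b : G} (ha : a ∈ M) (hb : b ∈ M) : a * b = b * a ∨ a * b = b * a * x ^ 4 := by
  refine ((mem_zpowers_two h.z2).1 (comm_mem h.sqz (inv_mem ha) (inv_mem hb))).imp (fun e => ?_) fun e => ?_
  · calc a * b = b * a * (a⁻¹ * b⁻¹ * a⁻¹⁻¹ * b⁻¹⁻¹) := by group
      _ = b * a := by rw [e, mul_one]
  · calc a * b = b * a * (a⁻¹ * b⁻¹ * a⁻¹⁻¹ * b⁻¹⁻¹) := by group
      _ = b * a * x ^ 4 := by rw [e]

/-- a central element of order at most two lies in `M` -/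
theorem MZ.mem_of_cent (h : MZ T M x) {v : G} (hv : v ∈ T) (v2 : v * v = 1) (c : ∀ y ∈ T, y * v = v * y) :
    v ∈ M := by
  by_contra k
  have e := h.m4 (h.idx h.xT hv h.xM k)
  rw [Commute.mul_pow (c x h.xT), show v ^ 4 = v * v * (v * v) by simp only [pow_succ, pow_zero, one_mul, mul_assoc],
    v2, mul_one, mul_one] at e
  exact h.z1 e

theorem MZ.exists_K (h : MZ T M x) {s : G} (sT : s ∈ T) (sM : s ∉ M) :
    ∃ K : Subgroup G, K ≤ M ∧ Nat.card K ≤ 8 ∧ (∀ a ∈ T, ∀ b ∈ T, a * b * a⁻¹ * b⁻¹ ∈ K) ∧ x ^ 4 ∈ K ∧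
      ∀ k ∈ K, ∃ m ∈ M, k = m * s * m⁻¹ * s⁻¹ ∨ k = m * s * m⁻¹ * s⁻¹ * x ^ 4 := by
  set Z := zpowers (x ^ 4) with hZ
  have ZM : Z ≤ M := zpowers_le.2 h.zM
  have Zc : ∀ y ∈ T, ∀ w ∈ Z, y * w * y⁻¹ = w := fun y hy w hw => by
    rcases (mem_zpowers_two h.z2).1 hw with rfl | rfl
    · group
    · rw [h.zc hy]; group
  have cZ : ∀ a ∈ M, ∀ b ∈ M, a * b * a⁻¹ * b⁻¹ ∈ Z := fun a ha b hb => comm_mem h.sqz ha hb
  let f : G → G := fun m => m * s * m⁻¹ * s⁻¹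
  have fM : ∀ m ∈ M, f m ∈ M := fun m hm => by
    have := mul_mem hm (h.nrm sT (inv_mem hm))
    simpa only [f, mul_assoc] using this
  -- `f` is a homomorphism modulo `Z`
  have fm : ∀ a ∈ M, ∀ b ∈ M, (f a * f b)⁻¹ * f (a * b) ∈ Z := fun a ha b hb => by
    have k1 := cZ _ (inv_mem (fM b hb)) _ (h.nrm sT ha)
    have k2 := cZ _ (inv_mem (fM b hb)) _ (inv_mem ha)
    have k3 := Zc _ (h.le (h.nrm sT ha)) _ (inv_mem k2)
    rw [show (f a * f b)⁻¹ * f (a * b) = (f b)⁻¹ * (s * a * s⁻¹) * (f b)⁻¹⁻¹ * (s * a * s⁻¹)⁻¹ by simp only [f]; group]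
    exact k1
  let K : Subgroup G :=
    { carrier := {k | ∃ m ∈ M, (f m)⁻¹ * k ∈ Z}
      one_mem' := ⟨1, one_mem _, by simp [f]⟩
      mul_mem' := by
        rintro a b ⟨m, hm, e⟩ ⟨n, hn, e'⟩
        refine ⟨m * n, mul_mem hm hn, ?_⟩
        have k := Zc _ (inv_mem (h.le (fM n hn))) _ e
        rw [show (f (m * n))⁻¹ * (a * b) = ((f m * f n)⁻¹ * f (m * n))⁻¹ *
          ((f n)⁻¹ * ((f m)⁻¹ * a) * (f n)⁻¹⁻¹) * ((f n)⁻¹ * b) by group, k]
        exact mul_mem (mul_mem (inv_mem (fm m hm n hn)) e) e'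
      inv_mem' := by
        rintro a ⟨m, hm, e⟩
        refine ⟨m⁻¹, inv_mem hm, ?_⟩
        have k := fm m hm m⁻¹ (inv_mem hm)
        rw [mul_inv_cancel, show f 1 = 1 by simp [f], mul_one] at k
        have k2 := Zc _ (h.le (fM m hm)) _ (inv_mem e)
        rw [show (f m⁻¹)⁻¹ * a⁻¹ = (f m * f m⁻¹)⁻¹ * (f m * ((f m)⁻¹ * a)⁻¹ * (f m)⁻¹) by group, k2]
        exact mul_mem k (inv_mem e) }
  have fK : ∀ m ∈ M, f m ∈ K := fun m hm => ⟨m, hm, by simp⟩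
  have ZK : Z ≤ K := fun w hw => ⟨1, one_mem _, by simpa [f] using hw⟩
  have KM : K ≤ M := by
    rintro k ⟨m, hm, e⟩
    simpa using mul_mem (fM m hm) (ZM e)
  -- commutators of `M` with `T`
  have c1 : ∀ m ∈ M, ∀ b ∈ T, m * b * m⁻¹ * b⁻¹ ∈ K := fun m hm b hb => by
    by_cases k : b ∈ M
    · exact ZK (cZ m hm b k)
    · have bs := h.idx (inv_mem sT) hb (fun e => sM (inv_mem_iff.1 e)) k
      have k1 := cZ m hm _ bs
      have k2 := Zc s sT _ k1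
      rw [show m * b * m⁻¹ * b⁻¹ = f m * (s * (m * (s⁻¹ * b) * m⁻¹ * (s⁻¹ * b)⁻¹) * s⁻¹) by simp only [f]; group, k2]
      exact mul_mem (fK m hm) (ZK k1)
  let C : Subgroup G :=
    { carrier := {m | m ∈ M ∧ f m ∈ Z}
      one_mem' := ⟨one_mem _, by simp [f]⟩
      mul_mem' := fun {a b} ha hb => ⟨mul_mem ha.1 hb.1, by
        have := mul_mem (mul_mem ha.2 hb.2) (fm a ha.1 b hb.1)
        rwa [mul_inv_cancel_left] at this⟩
      inv_mem' := fun {a} ha => ⟨inv_mem ha.1, by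
        have k := fm a ha.1 a⁻¹ (inv_mem ha.1)
        rw [mul_inv_cancel, show f 1 = 1 by simp [f], mul_one, inv_mem_iff] at k
        exact (mul_mem_cancel_left ha.2).1 k⟩ }
  have KC : K ≤ C := by
    rintro k ⟨m, hm, e⟩
    have k1 : f m ∈ C := ⟨fM m hm, by
      have n := mul_mem hm (h.nrm sT (inv_mem hm))
      have a1 := cZ _ (h.sqT sT) _ hm
      rw [show f (f m) = m * (s * m⁻¹ * s⁻¹) * (s * s * m * (s * s)⁻¹ * m⁻¹) * (m * (s * m⁻¹ * s⁻¹))⁻¹ *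
        (m * (s * m⁻¹ * s⁻¹) * (m * (s * m⁻¹ * s⁻¹))) by simp only [f]; group, Zc _ (h.le n) _ a1]
      exact mul_mem a1 (h.sqz _ n)⟩
    have k2 : (f m)⁻¹ * k ∈ C := ⟨ZM e, by
      have := Zc s sT _ (inv_mem e)
      simp only [f] at this ⊢
      rw [mul_assoc, mul_assoc, ← mul_assoc s, this, mul_inv_cancel]
      exact one_mem _⟩
    simpa using mul_mem k1 k2
  refine ⟨K, KM, ?_, fun a ha b hb => ?_, ZK (mem_zpowers _), ?_⟩
  · classical
    have ex : ∀ k ∈ K, ∃ m : M, (f m)⁻¹ * k ∈ Z := fun k ⟨m, hm, e⟩ => ⟨⟨m, hm⟩, e⟩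
    choose! μ hμ using ex
    have i1 := index_le K Z (fun k => (μ k : M ⧸ C.subgroupOf M)) Set.univ (fun _ _ => trivial) fun a ha b hb e => by
      have q : ((μ a : G)⁻¹ * μ b) ∈ C := (QuotientGroup.eq (s := C.subgroupOf M)).1 e
      have q1 : f ((μ a : G)⁻¹ * μ b) ∈ Z := q.2
      have q2 := mul_mem q1 (fm _ (μ a).2 _ q.1)
      rw [mul_inv_cancel_left, mul_inv_rev, mul_assoc (f _)⁻¹, mul_inv_cancel_left] at q2
      have := mul_mem (mul_mem (inv_mem (hμ a ha)) q2) (hμ b hb)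
      simpa [mul_assoc] using this
    rw [Nat.card_univ] at i1
    change _ ≤ C.relIndex M at i1
    have i2 := card_eq_relIndex' ZK
    have i3 := card_eq_relIndex' (show C ≤ M from fun _ k => k.1)
    have i4 := card_le_of_le KC
    rw [card_zpowers_two h.z2 h.z1] at i2
    rw [h.cardM] at i3
    refine card_le_pow (h.pg.to_le (KM.trans h.le)) 3 ?_
    by_contra q
    have := Nat.mul_le_mul (show 16 ≤ Nat.card C by omega) (show 8 ≤ C.relIndex M by omega)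
    omega
  · by_cases k : a ∈ M
    · exact c1 a k b hb
    by_cases l : b ∈ M
    · simpa [mul_assoc] using inv_mem (c1 b l a ha)
    · have ab := h.idx ha (inv_mem hb) k (fun e => l (inv_mem_iff.1 e))
      simpa [mul_assoc] using c1 _ ab b hb
  · rintro k ⟨m, hm, e⟩
    refine ⟨m, hm, ((mem_zpowers_two h.z2).1 e).imp (fun q => ?_) fun q => ?_⟩
    · exact (inv_mul_eq_one.1 q).symm
    · exact inv_mul_eq_iff_eq_mul.1 q

theorem MZ.not_cent (h : MZ T M x) (ne : NE G) {g : G} (hne : g * x ^ 4 * g⁻¹ ≠ x ^ 4)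
    (c : ∀ m ∈ M, m * (g * x ^ 4 * g⁻¹) = g * x ^ 4 * g⁻¹ * m) : False := by
  obtain ⟨k, k1, k2⟩ := h.ext (fun y hy => h.zc hy) (h.pg.to_le h.le) c
  have l : cjg k⁻¹ M ≤ T := fun y hy => by simpa [mul_assoc] using k2 _ (mem_cjg.1 hy)
  have a := card_mul_le l h.le
  have b := ne (cjg k⁻¹ M ⊓ M) fun y hy => by
    refine (h.sq y hy.2).resolve_right fun e => ?_
    have e1 : k⁻¹⁻¹ * y * k⁻¹ * (k⁻¹⁻¹ * y * k⁻¹) = k * x ^ 4 * k⁻¹ := by rw [← e]; group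
    rcases h.sq _ (mem_cjg.1 hy.1) with q | q <;> rw [e1] at q
    · exact h.z1 (by simpa using q)
    · exact hne (k1 ▸ q)
  rw [card_cjg, h.cardM, h.card, inf_comm] at a
  omega

end CfsgLib.A10S
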