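import Mathlib
import Cfsg.Agent.Lib.A10S.T8M

/-! T8B: `x ^ 4` not weakly closed in `M`.  See plans/A10S-T8.md. -/

set_option autoImplicit false
set_option linter.unusedSectionVars false

namespace CfsgLib.A10S
open Cfsg Subgroup CfsgLib.Sect

variable {G : Type*} [Group G] [Finite G] {T M C : Subgroup G} {x t c : G}

theorem MZ.b_zi (h : MZ T M x) : (x ^ 4)⁻¹ = x ^ 4 := inv_eq_of_mul_eq_one_right h.toT8.z2

theorem b_pow4 (y : G) : y ^ 4 = y * y * (y * y) := by simp only [pow_succ, pow_zero, one_mul, mul_assoc]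

theorem MZ.b_cm (h : MZ T M x) {a b : G} (ha : a ∈ M) (hb : b ∈ M) :
    a * b * a⁻¹ * b⁻¹ = 1 ∨ a * b * a⁻¹ * b⁻¹ = x ^ 4 := by
  refine (h.cm ha hb).imp (fun e => by rw [e]; group) fun e => ?_
  have := h.zc (h.le (mul_mem hb ha))
  rw [e, this]; group

theorem MZ.b_idx (h : MZ T M x) {w : G} (hw : w ∈ M) {A : Subgroup G} (hA : A ≤ M) :
    (centralizer {w}).relIndex A ≤ 2 :=
  (index_le A _ (fun a => a * w * a⁻¹ * w⁻¹) (zpowers (x ^ 4)) (fun _ ha => (mem_zpowers_two h.toT8.z2).2 (h.b_cm (hA ha) hw))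
    fun _ _ _ _ e => mem_cent.2 (comm_fib' e)).trans (card_zpowers_two h.toT8.z2 h.toT8.z1).le

/-- the configuration -/
structure TB (T M C : Subgroup G) (x t c : G) : Prop extends MZ T M x where
  ne : NE G
  CT : C ≤ T
  c32 : 32 ≤ Nat.card C
  sqC : ∀ y ∈ C, y * y = 1 ∨ y * y = t
  cmC : ∀ a ∈ C, ∀ b ∈ C, a * b * a⁻¹ * b⁻¹ = 1 ∨ a * b * a⁻¹ * b⁻¹ = t
  tC : t ∈ C
  tc : ∀ y ∈ C, y * t = t * y
  zC : x ^ 4 ∈ C
  tz : t ≠ x ^ 4
  nc : ∃ m ∈ M, m * t ≠ t * m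
  cC : c ∈ C
  cM : c ∉ M

theorem MZ.exists_tb (h : MZ T M x) (ne : NE G) {g : G} (hm : g * x ^ 4 * g⁻¹ ∈ M)
    (hne : g * x ^ 4 * g⁻¹ ≠ x ^ 4) : ∃ C t c, TB T M C x t c := by
  obtain ⟨k, hk, hR⟩ := h.toT8.ext (g := g) (fun y hy => h.zc hy) (R := T ⊓ centralizer {g * x ^ 4 * g⁻¹})
    h.toT8.pg.to_inf_left fun r hr => mem_cent.1 hr.2
  rw [← hk] at hm hne hR
  have tz : k⁻¹ * x ^ 4 * k ≠ x ^ 4 := fun e => hne (by nth_rewrite 1 [← e]; group)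
  have mem : ∀ y, y ∈ cjg k⁻¹ (centralizer {k * x ^ 4 * k⁻¹} ⊓ M) → ∃ m ∈ M,
      m * (k * x ^ 4 * k⁻¹) = k * x ^ 4 * k⁻¹ * m ∧ y = k⁻¹ * m * k := fun y hy =>
    ⟨_, (mem_cjg.1 hy).2, mem_cent.1 (mem_cjg.1 hy).1, by group⟩
  have c32 : 32 ≤ Nat.card (cjg k⁻¹ (centralizer {k * x ^ 4 * k⁻¹} ⊓ M)) := by
    have e := card_eq_relIndex (centralizer {k * x ^ 4 * k⁻¹}) M
    have := Nat.mul_le_mul_left (Nat.card (centralizer {k * x ^ 4 * k⁻¹} ⊓ M : Subgroup G)) (h.b_idx hm le_rfl)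
    rw [card_cjg]
    rw [h.cardM] at e
    omega
  have sqC : ∀ y ∈ cjg k⁻¹ (centralizer {k * x ^ 4 * k⁻¹} ⊓ M), y * y = 1 ∨ y * y = k⁻¹ * x ^ 4 * k := fun y hy => by
    obtain ⟨m, hm, -, rfl⟩ := mem y hy
    refine (h.sq m hm).imp (fun e => ?_) fun e => ?_ <;>
      rw [show k⁻¹ * m * k * (k⁻¹ * m * k) = k⁻¹ * (m * m) * k by group, e]
    group
  obtain ⟨c, cC, cM⟩ : ∃ c ∈ cjg k⁻¹ (centralizer {k * x ^ 4 * k⁻¹} ⊓ M), c ∉ M := by
    by_contra! k1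
    have := ne _ fun y hy => (sqC y hy).elim id fun e => (h.sq y (k1 y hy)).resolve_right fun e' => tz (e.symm.trans e')
    omega
  refine ⟨_, _, c, h, ne, fun y hy => ?_, c32, sqC, fun a ha b hb => ?_, mem_cjg.2 ⟨mem_cent.2 ?_, ?_⟩, fun y hy => ?_,
    mem_cjg.2 ⟨mem_cent.2 (by group), by simpa using hm⟩, tz, ?_, cC, cM⟩
  · obtain ⟨m, hm, e, rfl⟩ := mem y hy
    exact hR m ⟨h.le hm, mem_cent.2 e⟩
  · obtain ⟨m, hm, -, rfl⟩ := mem a ha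
    obtain ⟨n, hn, -, rfl⟩ := mem b hb
    refine (h.b_cm hm hn).imp (fun e => ?_) fun e => ?_ <;>
      rw [show k⁻¹ * m * k * (k⁻¹ * n * k) * (k⁻¹ * m * k)⁻¹ * (k⁻¹ * n * k)⁻¹ = k⁻¹ * (m * n * m⁻¹ * n⁻¹) * k by group, e]
    group
  · rw [show k⁻¹⁻¹ * (k⁻¹ * x ^ 4 * k) * k⁻¹ = x ^ 4 by group]
    exact (h.zc (h.le hm)).symm
  · rw [show k⁻¹⁻¹ * (k⁻¹ * x ^ 4 * k) * k⁻¹ = x ^ 4 by group]
    exact h.zM
  · obtain ⟨m, hm, -, rfl⟩ := mem y hy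
    calc _ = k⁻¹ * (m * x ^ 4) * k := by group
      _ = _ := by rw [h.zc (h.le hm)]; group
  · by_contra! k1
    exact h.not_cent ne (g := k⁻¹) (by simpa using tz) (by simpa using k1)

namespace TB
variable (h : TB T M C x t c)
include h

theorem E2 {e : G} (he : e ∈ C ⊓ M) : e * e = 1 :=
  (h.sqC e he.1).elim id fun e1 => (h.sq e he.2).resolve_right fun e2 => h.tz (e1.symm.trans e2)

theorem Ec {a b : G} (ha : a ∈ C ⊓ M) (hb : b ∈ C ⊓ M) : a * b = b * a := comm_of_sq (fun _ => h.E2) ha hb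

theorem cT : c ∈ T := h.CT h.cC

theorem dec {y : G} (hy : y ∈ T) (hn : y ∉ M) : ∃ m ∈ M, y = m * c :=
  ⟨_, h.toMZ.idx hy (inv_mem h.cT) hn fun k => h.cM (inv_mem_iff.1 k), by group⟩

theorem E16 : Nat.card (C ⊓ M : Subgroup G) = 16 := by
  have e := card_eq_relIndex M C
  have := Nat.mul_le_mul_left (Nat.card (M ⊓ C : Subgroup G)) (relIndex_le_two (L := M) (H := C)
    fun a ha b hb h1 h2 => h.toMZ.idx (inv_mem (h.CT ha)) (h.CT hb) (fun k => h1 (inv_mem_iff.1 k)) h2)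
  have h1 := h.c32
  have h2 := h.ne (C ⊓ M) fun _ => h.E2
  rw [inf_comm] at e this
  omega

theorem ex_sq : ∃ y ∈ C, y * y = t := by
  by_contra! k
  have := h.ne C fun y hy => (h.sqC y hy).resolve_right (k y hy)
  have := h.c32
  omega

theorem tM : t ∈ M := by
  obtain ⟨y, hy, rfl⟩ := h.ex_sq
  exact h.toMZ.sqT (h.CT hy)

theorem tE : t ∈ C ⊓ M := ⟨h.tC, h.tM⟩

theorem zE : x ^ 4 ∈ C ⊓ M := ⟨h.zC, h.toMZ.zM⟩

theorem zp {a : G} (k : a = 1 ∨ a = x ^ 4) : a ∈ C ⊓ M := by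
  rcases k with rfl | rfl
  exacts [one_mem _, h.zE]

theorem E_le : C ⊓ M ≤ centralizer {t} ⊓ M := fun _ he => ⟨mem_cent.2 (h.tc _ he.1), he.2⟩

theorem M32 : Nat.card (centralizer {t} ⊓ M : Subgroup G) = 32 := by
  have e := card_eq_relIndex (centralizer {t}) M
  have h1 := h.toMZ.b_idx h.tM le_rfl
  obtain ⟨m, hm, k⟩ := h.nc
  have h2 := two_le_relIndex (K := centralizer {t}) (H := M) fun l => k (mem_cent.1 (l hm))
  rw [h.cardM, le_antisymm h1 h2] at e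
  omega

theorem half {a b : G} (ha : a ∈ centralizer {t} ⊓ M) (hb : b ∈ centralizer {t} ⊓ M) (a1 : a ∉ C ⊓ M)
    (b1 : b ∉ C ⊓ M) : ∃ e ∈ C ⊓ M, b = a * e := by
  have e := card_eq_relIndex' h.E_le
  rw [h.E16, h.M32] at e
  exact ⟨_, mul_mem_of_le_two (by omega) (inv_mem ha) hb (fun k => a1 (inv_mem_iff.1 k)) b1, by group⟩

theorem quo {a b : G} (ha : a ∈ M) (hb : b ∈ M) (a1 : a * t ≠ t * a) (b1 : b ∉ centralizer {t}) :
    a⁻¹ * b ∈ centralizer {t} ⊓ M :=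
  mem_inf.2 ⟨mul_mem_of_le_two (h.toMZ.b_idx h.tM le_rfl) (inv_mem ha) hb
    (fun k => a1 (mem_cent.1 (inv_mem_iff.1 k))) b1, mul_mem (inv_mem ha) hb⟩

theorem ct : c * t = t * c := h.tc c h.cC

theorem cj_t {m : G} : c * m * c⁻¹ * t = t * (c * m * c⁻¹) ↔ m * t = t * m := by
  have e : t = c * t * c⁻¹ := by rw [h.ct]; group
  constructor
  · intro k
    rw [e] at k
    calc m * t = c⁻¹ * (c * m * c⁻¹ * (c * t * c⁻¹)) * c := by group
      _ = _ := by rw [k]; group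
  · intro k
    rw [e]
    calc _ = c * (m * t) * c⁻¹ := by group
      _ = _ := by rw [k]; group

/-- elements of `E` centralising `M` are central in `T` -/
theorem cen {v : G} (hv : v ∈ C ⊓ M) (k : ∀ m ∈ M, m * v = v * m) {y : G} (hy : y ∈ T) : y * v = v * y := by
  have cv : c * v = v * c := by
    rcases h.cmC c h.cC v hv.1 with e | e
    · calc c * v = c * v * c⁻¹ * v⁻¹ * (v * c) := by group
        _ = _ := by rw [e, one_mul]
    · obtain ⟨m, hm, n⟩ := h.nc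
      refine absurd ?_ n
      have k1 := k _ (h.toMZ.nrm (inv_mem h.cT) hm)
      have k2 := k m hm
      calc m * t = c * (c⁻¹ * m * c⁻¹⁻¹ * v) * c⁻¹ * v⁻¹ := by rw [← e]; group
        _ = c * v * c⁻¹ * v⁻¹ * (v * m) * v⁻¹ := by rw [k1]; group
        _ = _ := by rw [← k2, e]; group
  by_cases hm : y ∈ M
  · exact k y hm
  · obtain ⟨m, hm', rfl⟩ := h.dec hy hm
    rw [mul_assoc, cv, ← mul_assoc, k m hm', mul_assoc]

theorem mem_E {v : G} (hv : v ∈ T) (v2 : v * v = 1) (k : ∀ y ∈ T, y * v = v * y) : v ∈ C ⊓ M := by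
  have cm : ∀ a ∈ C ⊓ M, ∀ b ∈ zpowers v, a * b = b * a := fun a ha b hb => by
    rcases (mem_zpowers_two v2).1 hb with rfl | rfl
    exacts [by simp, k a (h.CT ha.1)]
  have := h.ne (C ⊓ M ⊔ zpowers v) fun y hy => by
    obtain ⟨a, ha, b, hb, rfl⟩ := (mem_sup_of_comm cm).1 hy
    have : b * b = 1 := by
      rcases (mem_zpowers_two v2).1 hb with rfl | rfl
      exacts [by simp, v2]
    calc a * b * (a * b) = a * (b * a) * b := by group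
      _ = a * a * (b * b) := by rw [← cm a ha b hb]; group
      _ = 1 := by rw [h.E2 ha, this, one_mul]
  exact (eq_of_le_of_card_ge le_sup_left (h.E16 ▸ this)).ge (mem_sup_right (mem_zpowers v))

theorem sq_mc (m : G) : m * c * (m * c) = m * m * (m⁻¹ * c * m⁻¹⁻¹ * c⁻¹) * (c * c) := by group

theorem ccE : c * c ∈ C ⊓ M := ⟨mul_mem h.cC h.cC, h.toMZ.sqT h.cT⟩

section
variable (cE : ∀ e ∈ C ⊓ M, c * e = e * c)
include cE

theorem cc : c * c = t := by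
  obtain ⟨y, hy, e⟩ := h.ex_sq
  have hn : y ∉ M := fun k => by
    obtain ⟨m, -, n⟩ := h.nc
    exact n (by rw [← e, h.E2 ⟨hy, k⟩]; simp)
  obtain ⟨m, hm, rfl⟩ := h.dec (h.CT hy) hn
  have mE : m ∈ C ⊓ M := ⟨(mul_mem_cancel_right h.cC).1 hy, hm⟩
  calc c * c = m * m * (c * c) := by rw [h.E2 mE, one_mul]
    _ = m * (m * c) * c := by group
    _ = t := by rw [← cE m mE, ← e]; group

theorem out {m : G} (hm : m ∈ M) (n : m * t ≠ t * m) :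
    m * c * m⁻¹ * c⁻¹ ∈ centralizer {t} ⊓ M ∧ m * c * m⁻¹ * c⁻¹ ∉ C ⊓ M ∧
      m * c * m⁻¹ * c⁻¹ * (c * (m * c * m⁻¹ * c⁻¹) * c⁻¹) = x ^ 4 := by
  have e : m * c * m⁻¹ * c⁻¹ * (c * (m * c * m⁻¹ * c⁻¹) * c⁻¹) = x ^ 4 := by
    have := (h.toMZ.b_cm hm h.tM).resolve_left fun e => n (by
      calc m * t = m * t * m⁻¹ * t⁻¹ * (t * m) := by group
        _ = _ := by rw [e, one_mul])
    rw [← this, ← h.cc cE]; group
  have m2 := h.toMZ.nrm h.cT (inv_mem hm)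
  have e2 : m * c * m⁻¹ * c⁻¹ = m * (c * m⁻¹ * c⁻¹) := by group
  refine ⟨e2 ▸ ⟨mul_mem_of_le_two (h.toMZ.b_idx h.tM le_rfl) hm m2 (fun k => n (mem_cent.1 k)) fun k => n ?_,
    mul_mem hm m2⟩, fun k => h.toMZ.toT8.z1 ?_, e⟩
  · exact mem_cent.1 (inv_mem_iff.1 (mem_cent.2 (h.cj_t.1 (mem_cent.1 k))))
  · rw [← e, cE _ k, mul_inv_cancel_right, h.E2 k]

theorem inn {m : G} (hm : m ∈ M) (n : m * t = t * m) : m * c * m⁻¹ * c⁻¹ = 1 ∨ m * c * m⁻¹ * c⁻¹ = x ^ 4 := by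
  by_cases mE : m ∈ C ⊓ M
  · exact .inl (by rw [← cE m mE]; group)
  obtain ⟨m0, h0, n0⟩ := h.nc
  obtain ⟨k1, k2, k3⟩ := h.out cE h0 n0
  generalize m0 * c * m0⁻¹ * c⁻¹ = k at k1 k2 k3
  obtain ⟨e, he, rfl⟩ := h.half k1 ⟨mem_cent.2 n, hm⟩ k2 mE
  have e1 : k * e * c * (k * e)⁻¹ * c⁻¹ = k * k * x ^ 4 := by
    calc _ = k * (e * c) * e⁻¹ * k⁻¹ * c⁻¹ := by group
      _ = k * (k * (c * k * c⁻¹))⁻¹ * k := by rw [← cE e he]; group
      _ = _ := by rw [k3, h.toMZ.b_zi, mul_assoc, ← h.toMZ.zc (h.le k1.2), mul_assoc]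
  rw [e1]
  exact (h.sq k k1.2).symm.imp (fun e => by rw [e, h.toMZ.toT8.z2]) fun e => by rw [e, one_mul]

end

theorem exists_K : ∃ K : Subgroup G, (∀ a ∈ T, ∀ b ∈ T, a * b * a⁻¹ * b⁻¹ ∈ K) ∧ x ^ 4 ∈ K ∧
    ∀ v ∈ K, v ∈ C ⊓ M → (∀ m ∈ M, m * v = v * m) → v = 1 ∨ v = x ^ 4 := by
  obtain ⟨K, -, k8, kc, kz, kd⟩ := h.toMZ.exists_K h.cT h.cM
  refine ⟨K, kc, kz, fun v hv vE vc => ?_⟩
  by_cases cE : ∀ e ∈ C ⊓ M, c * e = e * c
  · obtain ⟨m, hm, e⟩ := kd v hv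
    have hk : m * c * m⁻¹ * c⁻¹ ∈ C ⊓ M := by
      rcases e with rfl | rfl
      exacts [vE, (mul_mem_cancel_right h.zE).1 vE]
    have := h.inn cE hm (by_contra fun n => (h.out cE hm n).2.1 hk)
    rcases e with rfl | rfl
    · exact this
    · exact this.symm.imp (fun e => by rw [e, h.toMZ.toT8.z2]) fun e => by rw [e, one_mul]
  push Not at cE
  obtain ⟨e, he, n⟩ := cE
  have tK : t ∈ K := ((h.cmC c h.cC e he.1).resolve_left fun k => n (by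
    calc c * e = c * e * c⁻¹ * e⁻¹ * (e * c) := by group
      _ = _ := by rw [k, one_mul])) ▸ kc c h.cT e (h.CT he.1)
  have nl : ¬ K ≤ K ⊓ (C ⊓ M) := fun l => by
    obtain ⟨m, hm, e⟩ := h.dec h.xT h.toMZ.xM
    have : x * x ∈ C ⊓ M := by
      rw [e, h.sq_mc]
      exact mul_mem (mul_mem (h.zp (e ▸ h.sq m hm)) (l (kc _ (inv_mem (h.le hm)) c h.cT)).2) h.ccE
    exact h.toMZ.toT8.z1 (by rw [b_pow4, h.E2 this])
  have k4 := two_mul_card_le inf_le_left nl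
  obtain ⟨m, hm, n⟩ := h.nc
  rcases four_cases (W := K ⊓ (C ⊓ M)) (by omega) ⟨kz, h.zE⟩ ⟨tK, h.tE⟩ h.toMZ.toT8.z2 h.toMZ.toT8.z1
    (fun e => n (by rw [e]; simp)) h.tz ⟨hv, vE⟩ with e | e | rfl | rfl
  exacts [.inl e, .inr e, absurd (vc m hm) n, absurd (by
    have := vc m hm
    rwa [← mul_assoc, h.toMZ.zc (h.le hm), mul_assoc, mul_assoc, mul_right_inj] at this) n]

theorem Z4 : 4 ≤ Nat.card (C ⊓ M ⊓ centralizer (M : Set G) : Subgroup G) := by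
  obtain ⟨m0, h0, n0⟩ := h.nc
  obtain ⟨m1, h1, n1⟩ := exists_notMem (K := C ⊓ M) (H := centralizer {t} ⊓ M) (by rw [h.E16, h.M32]; norm_num)
  have e0 := card_eq_relIndex (centralizer {m0}) (C ⊓ M)
  have e1 := card_eq_relIndex (centralizer {m1}) (centralizer {m0} ⊓ (C ⊓ M))
  have i0 := Nat.mul_le_mul_left (Nat.card (centralizer {m0} ⊓ (C ⊓ M) : Subgroup G))
    (h.toMZ.b_idx h0 (A := C ⊓ M) inf_le_right)
  have i1 := Nat.mul_le_mul_left (Nat.card (centralizer {m1} ⊓ (centralizer {m0} ⊓ (C ⊓ M)) : Subgroup G))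
    (h.toMZ.b_idx h1.2 (A := centralizer {m0} ⊓ (C ⊓ M)) (inf_le_right.trans inf_le_right))
  rw [h.E16] at e0
  refine le_trans (by omega) (card_le_of_le (H := centralizer {m1} ⊓ (centralizer {m0} ⊓ (C ⊓ M)))
    fun v hv => ⟨hv.2.2, mem_cent'.2 ?_⟩)
  have k : ∀ m ∈ centralizer {t} ⊓ M, m * v = v * m := fun m hm => by
    by_cases mE : m ∈ C ⊓ M
    · exact h.Ec mE hv.2.2
    obtain ⟨e, he, rfl⟩ := h.half h1 hm n1 mE
    rw [mul_assoc, h.Ec he hv.2.2, ← mul_assoc, ← mem_cent.1 hv.1, mul_assoc]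
  intro m hm
  by_cases mt : m ∈ centralizer {t}
  · exact k m ⟨mt, hm⟩
  have := k _ (h.quo h0 hm n0 mt)
  calc m * v = m0 * (m0⁻¹ * m * v) := by group
    _ = m0 * v * (m0⁻¹ * m) := by rw [this]; group
    _ = _ := by rw [← mem_cent.1 hv.2.1]; group

theorem cnt (h8 : 8 ≤ Nat.card (C ⊓ M ⊓ centralizer (M : Set G) : Subgroup G)) :
    Nat.card {y : G // y ∈ T ∧ orderOf y = 8} = 32 := by
  obtain ⟨m0, h0, n0⟩ := h.nc
  have cE : ∀ y ∈ T, y * t = t * y → ∀ e ∈ C ⊓ M, y * e = e * y := fun y hy yt e he =>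
    mem_cent'.1 (cent_of_cent (W := C ⊓ M ⊓ centralizer (M : Set G)) inf_le_left (by rw [h.E16]; omega) h.tE
      (fun k => n0 (mem_cent'.1 k.2 m0 h0))
      (mem_cent'.2 fun v hv => (h.cen hv.1 (mem_cent'.1 hv.2) hy).symm) yt) e he |>.symm
  have cE' := cE c h.cT h.ct
  have sq : ∀ m ∈ centralizer {t} ⊓ M, m ∉ C ⊓ M → m * m = x ^ 4 := fun m hm n => by
    refine (h.sq m hm.2).resolve_left fun e => ?_
    have := h.ne (centralizer {t} ⊓ M) fun y hy => by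
      by_cases yE : y ∈ C ⊓ M
      · exact h.E2 yE
      obtain ⟨f, hf, rfl⟩ := h.half hm hy n yE
      calc m * f * (m * f) = m * (f * m) * f := by group
        _ = m * m * (f * f) := by rw [← cE m (h.le hm.2) (mem_cent.1 hm.1) f hf]; group
        _ = 1 := by rw [e, h.E2 hf, one_mul]
    rw [h.M32] at this
    omega
  have o8 : ∀ y : G, orderOf y = 8 → y * y ∉ C ⊓ M := fun y hy k => by
    have := orderOf_dvd_of_pow_eq_one (show y ^ 4 = 1 by rw [b_pow4, h.E2 k])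
    rw [hy] at this
    omega
  rw [← h.M32]
  refine (Nat.card_congr (Equiv.ofBijective (fun m : (centralizer {t} ⊓ M : Subgroup G) =>
    (⟨m0 * m * c, mul_mem (h.le (mul_mem h0 m.2.2)) h.cT, ?_⟩ : {y : G // y ∈ T ∧ orderOf y = 8}))
    ⟨fun a b e => Subtype.ext (by simpa using e), fun ⟨y, hy, y8⟩ => ?_⟩)).symm
  · have hm := mul_mem h0 m.2.2
    have n : (m0 * m)⁻¹ * t ≠ t * (m0 * m)⁻¹ := fun k =>
      n0 (mem_cent.1 ((mul_mem_cancel_right (mem_inf.1 m.2).1).1 (inv_mem_iff.1 (mem_cent.2 k))))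
    generalize m0 * m = a at hm n
    obtain ⟨k1, k2, -⟩ := h.out cE' (inv_mem hm) n
    have a2 := h.zp (h.sq a hm)
    have e := sq _ (mul_mem (mul_mem (h.E_le a2) k1) (h.E_le h.ccE)) fun k =>
      k2 ((mul_mem_cancel_left a2).1 ((mul_mem_cancel_right h.ccE).1 k))
    rw [← h.sq_mc] at e
    have e4 : (a * c) ^ 2 ^ 2 = x ^ 4 := (b_pow4 _).trans e
    exact orderOf_eq_prime_pow (p := 2) (n := 2) (e4 ▸ h.toMZ.toT8.z1)
      (by rw [pow_succ 2 2, pow_mul, e4, pow_two, h.toMZ.toT8.z2])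
  · obtain ⟨m, hm, rfl⟩ := h.dec hy fun k => o8 y y8 (h.zp (h.sq y k))
    have n : m ∉ centralizer {t} := fun k => o8 _ y8 (by
      rw [h.sq_mc]
      exact mul_mem (mul_mem (h.zp (h.sq m hm)) (h.zp (h.inn cE' (inv_mem hm) (mem_cent.1 (inv_mem k))))) h.ccE)
    exact ⟨⟨m0⁻¹ * m, h.quo h0 hm n0 n⟩, Subtype.ext (by simp)⟩

theorem false : False := by
  obtain ⟨K, kc, kz, kv⟩ := h.exists_K
  have z2 := h.toMZ.toT8.z2
  obtain ⟨v, hv, vz⟩ := exists_notMem (K := zpowers (x ^ 4)) (H := C ⊓ M ⊓ centralizer (M : Set G)) (by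
    rw [card_zpowers_two z2 h.toMZ.toT8.z1]; have := h.Z4; omega)
  rw [mem_zpowers_two z2] at vz
  have vc := fun y hy => h.cen hv.1 (mem_cent'.1 hv.2) (y := y) hy
  have v2 := h.E2 hv.1
  obtain ⟨n, n1, n2, n3⟩ := h.toMZ.toT8.trf kc (h.CT hv.1.1) (fun k => vz (kv v k hv.1 (mem_cent'.1 hv.2))) v2
    h.toMZ.toT8.pg vc
  by_cases h8 : 8 ≤ Nat.card (C ⊓ M ⊓ centralizer (M : Set G) : Subgroup G)
  · refine n2 ?_
    rw [vc _ (inv_mem (h.toMZ.toT8.mem_of_norm (h.cnt h8) n3)), inv_mul_cancel_right, v2]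
    exact one_mem _
  have h4 := card_le_pow (H := C ⊓ M ⊓ centralizer (M : Set G))
    (h.toMZ.toT8.pg.to_le (inf_le_left.trans (inf_le_left.trans h.CT))) 2 (by omega)
  have c' : ∀ y ∈ T, y * (n⁻¹ * v * n) = n⁻¹ * v * n * y := fun y hy => by
    have := vc _ (conj_inv_mem (g := n⁻¹) (by simpa using n3) hy)
    calc _ = n⁻¹ * (n⁻¹⁻¹ * y * n⁻¹ * v) * n := by group
      _ = _ := by rw [this]; group
  have v' : n⁻¹ * v * n ∈ C ⊓ M ⊓ centralizer (M : Set G) :=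
    ⟨h.mem_E n1 (by rw [show n⁻¹ * v * n * (n⁻¹ * v * n) = n⁻¹ * (v * v) * n by group, v2]; group) c',
      mem_cent'.2 fun m hm => c' m (h.le hm)⟩
  rcases four_cases h4 ⟨h.zE, mem_cent'.2 fun m hm => h.toMZ.zc (h.le hm)⟩ hv z2 h.toMZ.toT8.z1
    (fun e => vz (.inl e)) (fun e => vz (.inr e)) v' with e | e | e | e
  · exact vz (.inl (by rw [show v = n * (n⁻¹ * v * n) * n⁻¹ by group, e]; group))
  · exact vz (.inr (by rw [show v = n * (n⁻¹ * v * n) * n⁻¹ by group, e, h.toMZ.fix n3]; group))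
  · exact n2 (by rw [e, v2]; exact one_mem _)
  · exact n2 (by rw [e, mul_assoc, v2, mul_one]; exact kz)

end TB

theorem MZ.caseB (h : MZ T M x) (ne : NE G) {g : G} (hm : g * x ^ 4 * g⁻¹ ∈ M) (hne : g * x ^ 4 * g⁻¹ ≠ x ^ 4) :
    False := by
  obtain ⟨C, t, c, k⟩ := h.exists_tb ne hm hne
  exact k.false

end CfsgLib.A10S
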