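import Mathlib
import Cfsg.Agent.Lib.A10S.T8M
import Cfsg.Agent.Lib.Fgs.AutBound

/-! T8F: fixed points of normalisers of elementary abelian subgroups.  See plans/A10S-T8.md. -/

set_option autoImplicit false

namespace CfsgLib.A10S
open Cfsg Subgroup CfsgLib.Sect

variable {G : Type*} [Group G] [Finite G] {T M : Subgroup G} {x : G}

/-- a cyclic Sylow 2-subgroup has a normal complement -/
theorem t8f_cpl {H : Type*} [Group H] [Finite H] {ξ : H} (p : IsPGroup 2 (zpowers ξ))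
    (i : ¬ 2 ∣ (zpowers ξ).index) :
    ∃ O : Subgroup H, O.Normal ∧ ¬ 2 ∣ Nat.card O ∧ ∀ n : H, ∃ o ∈ O, ∃ i : ℤ, n = o * ξ ^ i := by
  have := Fact.mk Nat.prime_two
  by_cases e : 2 ∣ Nat.card H
  · have c := IsCyclic.isComplement' ((Nat.minFac_eq_two_iff _).2 e) (P := p.toSylow i)
      (isCyclic_zpowers ξ)
    refine ⟨_, inferInstance, c.index_eq_card ▸ i, fun n => ?_⟩
    obtain ⟨o, ho, _, ⟨j, rfl⟩, rfl⟩ := mem_sup_of_normal_left.1 (c.sup_eq_top ▸ mem_top n)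
    exact ⟨o, ho, j, rfl⟩
  · exact ⟨⊤, inferInstance, by rwa [card_top], fun n => ⟨n, mem_top n, 0, by simp⟩⟩

theorem t8f_fix {V H : Type*} [Group V] [Finite V] [Group H] (ρ : H →* MulAut V) {r : ℕ} (hr : r.Prime)
    {F : Subgroup H} (hF : IsPGroup r F) : ∃ W : Subgroup V, (∀ v, v ∈ W ↔ ∀ f ∈ F, ρ f v = v) ∧
      Nat.card V % r = Nat.card W % r ∧ (F.Normal → ∀ n, ∀ v ∈ W, ρ n v ∈ W) := by
  have := Fact.mk hr
  let W : Subgroup V :=
    { carrier := {v | ∀ f ∈ F, ρ f v = v}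
      one_mem' := fun f _ => map_one _
      mul_mem' := fun ha hb f hf => by rw [map_mul, ha f hf, hb f hf]
      inv_mem' := fun ha f hf => by rw [map_inv, ha f hf] }
  let _ : MulAction F V := MulAction.compHom V (ρ.comp F.subtype)
  refine ⟨W, fun _ => Iff.rfl, (hF.card_modEq_card_fixedPoints V).trans (by
    rw [Nat.card_congr (Equiv.subtypeEquivRight (p := (· ∈ MulAction.fixedPoints F V)) (q := (· ∈ W)) fun v =>
      ⟨fun t f hf => t ⟨f, hf⟩, fun t f => t f f.2⟩)]), fun nF n v hv f hf => ?_⟩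
  rw [← MulAut.mul_apply, ← map_mul, show f * n = n * (n⁻¹ * f * n) by group, map_mul, MulAut.mul_apply,
    hv _ (nF.conj_mem' f hf n)]

/-- averaging over the normal subgroup `O` of odd order -/
theorem t8f_avg {V H : Type*} [Group V] [Group H] [Finite H] (ρ : H →* MulAut V) (O : Subgroup H) [nO : O.Normal]
    (odd : ¬ 2 ∣ Nat.card O) (el : ∀ v : V, v * v = 1) {ξ : H} (ξξ : ξ * ξ = 1) {z : V} (zξ : ρ ξ z = z)
    {W : Subgroup V} (mW : ∀ v, v ∈ W ↔ ∀ o ∈ O, ρ o v = v) (zW : z ∈ W)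
    (all : ∀ d ∈ W, ∃ e, d = e * (ρ ξ e)⁻¹ ∨ d = e * (ρ ξ e)⁻¹ * z) : ∀ d ∈ W, d = 1 ∨ d = z := by
  let _ : CommGroup V := { (inferInstance : Group V) with
    mul_comm := fun a b => comm_of_sq (V := ⊤) (fun v _ => el v) (mem_top a) (mem_top b) }
  have := Fintype.ofFinite O
  have iv : ∀ v : V, v⁻¹ = v := fun v => inv_eq_of_mul_eq_one_right (el v)
  let π : V →* V := MonoidHom.mk' (fun e => ∏ o : O, ρ o e) fun a b => by
    simp only [map_mul, Finset.prod_mul_distrib]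
  have hπ : ∀ e, π e = ∏ o : O, ρ o e := fun _ => rfl
  have p1 : ∀ e, π e ∈ W := fun e => (mW _).2 fun o ho => by
    rw [hπ, map_prod]
    exact Fintype.prod_equiv (Equiv.mulLeft ⟨o, ho⟩) _ _ fun a => by simp
  have p2 : ∀ d ∈ W, π d = d := fun d hd => by
    obtain ⟨j, hj⟩ := Nat.odd_iff.2 (Nat.two_dvd_ne_zero.1 odd)
    rw [hπ, Finset.prod_congr rfl fun (o : O) _ => (mW d).1 hd o o.2, Finset.prod_const, Finset.card_univ,
      ← Nat.card_eq_fintype_card, hj, pow_succ, pow_mul, pow_two, el, one_pow, one_mul]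
  have p3 : ∀ e, π (ρ ξ e) = ρ ξ (π e) := fun e => by
    rw [hπ, hπ, map_prod]
    refine Fintype.prod_equiv (MulAut.conjNormal ξ⁻¹ : MulAut O).toEquiv _ _ fun a => ?_
    rw [← MulAut.mul_apply, ← MulAut.mul_apply, ← map_mul, ← map_mul]
    congr 2
    simp [mul_assoc]
  have f1 : ∀ e, ρ ξ (e * (ρ ξ e)⁻¹) = e * (ρ ξ e)⁻¹ := fun e => by
    rw [iv, map_mul, ← MulAut.mul_apply (e₂ := ρ ξ), ← map_mul, ξξ, map_one, MulAut.one_apply, mul_comm]
  have f2 : ∀ d ∈ W, ρ ξ d = d := fun d hd => by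
    obtain ⟨e, rfl | rfl⟩ := all d hd
    exacts [f1 e, by rw [map_mul, f1, zξ]]
  have f3 : ∀ e, π (e * (ρ ξ e)⁻¹) = 1 := fun e => by
    rw [map_mul, map_inv, p3, f2 _ (p1 e), mul_inv_cancel]
  intro d hd
  obtain ⟨e, t | t⟩ := all d hd
  · exact .inl (by rw [← p2 d hd, t, f3])
  · exact .inr (by rw [← p2 d hd, t, map_mul, f3, one_mul, p2 z zW])

/-- the action of an overgroup of `T` on `V` -/
theorem T8.f_act (h : T8 T x) {V N : Subgroup G} (TN : T ≤ N) (NV : N ≤ normalizer (V : Set G))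
    (pV : IsPGroup 2 V) (c7 : Nat.card V % 7 ≠ 1)
    (cyc : ∀ y ∈ T, ∃ i : ℕ, ∀ v ∈ V, y * x ^ i * v = v * (y * x ^ i)) :
    ∃ (H : Subgroup (MulAut V)) (O : Subgroup H) (ψ : N →* H), O.Normal ∧ Function.Surjective ψ ∧
      (∀ (n : N) (v : V), (H.subtype (ψ n) v : G) = n * v * (n : G)⁻¹) ∧ ¬ 2 ∣ Nat.card O ∧ ¬ 7 ∣ Nat.card O ∧
      ¬ 31 ∣ Nat.card O ∧ Nat.card O ∣ Nat.card (MulAut V) ∧
      ∀ n : H, ∃ o ∈ O, ∃ i : ℤ, n = o * ψ ⟨x, TN h.xT⟩ ^ i := by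
  let φ : N →* MulAut V := V.normalizerMonoidHom.comp (inclusion NV)
  have hφ : ∀ (n : N) (v : V), (φ.range.subtype (φ.rangeRestrict n) v : G) = n * v * (n : G)⁻¹ :=
    fun _ _ => rfl
  have sur := φ.rangeRestrict_surjective
  generalize φ.rangeRestrict = ψ at hφ sur
  have le : (T.subgroupOf N).map ψ ≤ zpowers (ψ ⟨x, TN h.xT⟩) := by
    rintro _ ⟨y, hy, rfl⟩
    obtain ⟨i, hi⟩ := cyc y hy
    have : ψ (y * ⟨x, TN h.xT⟩ ^ i) = 1 := Subtype.ext (MulEquiv.ext fun v => Subtype.ext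
      ((hφ _ v).trans (mul_inv_eq_iff_eq_mul.2 (hi v v.2))))
    rw [map_mul, map_pow, mul_eq_one_iff_eq_inv] at this
    exact this ▸ inv_mem (pow_mem (mem_zpowers _) i)
  obtain ⟨O, nO, o2, dec⟩ := t8f_cpl (ξ := ψ ⟨x, TN h.xT⟩)
    (MonoidHom.map_zpowers ψ _ ▸ ((h.pg.comap_subtype (K := N)).to_le (zpowers_le.2 h.xT)).map ψ)
    fun d => h.odd (((d.trans (index_dvd_of_le le)).trans (index_map_dvd _ sur)).trans
      (relIndex_dvd_index_of_le TN))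
  have d1 : Nat.card O ∣ Nat.card N := (card_subgroup_dvd_card O).trans (card_dvd_of_surjective ψ sur)
  refine ⟨_, O, ψ, nO, sur, hφ, o2, fun d => ?_, fun d => ?_,
    (card_subgroup_dvd_card O).trans (card_subgroup_dvd_card _), dec⟩
  · obtain ⟨a, ha, o⟩ := exists_mem_orderOf (by norm_num) (d.trans d1)
    exact c7 (h.om.mod7 (.inl rfl) pV o (NV ha))
  · have := h.om.prime (by norm_num) ((d.trans d1).trans (card_subgroup_dvd_card N))
    omega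

theorem t8f_45 {n a : ℕ} (h2 : ¬ 2 ∣ n) (h7 : ¬ 7 ∣ n) (h31 : ¬ 31 ∣ n) (d : n ∣ 2 ^ a * (7 * (31 * 45))) :
    n ∣ 45 :=
  ((Nat.Prime.coprime_iff_not_dvd (by norm_num)).2 h31).symm.dvd_of_dvd_mul_left
    (((Nat.Prime.coprime_iff_not_dvd (by norm_num)).2 h7).symm.dvd_of_dvd_mul_left
      ((((Nat.Prime.coprime_iff_not_dvd (by norm_num)).2 h2).symm.pow_right a).dvd_of_dvd_mul_left d))

theorem t8f_three {O : Type*} [Group O] (d : Nat.card O ∣ 45) (h5 : ¬ 5 ∣ Nat.card O) : IsPGroup 3 O := by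
  obtain ⟨k, -, e⟩ := (Nat.dvd_prime_pow Nat.prime_three).1
    (((Nat.Prime.coprime_iff_not_dvd (by norm_num)).2 h5).symm.dvd_of_dvd_mul_left (n := 3 ^ 2) d)
  exact IsPGroup.of_card e

omit [Finite G] in
theorem t8f_el {V : Subgroup G} (el : ∀ a ∈ V, a * a = 1) :
    IsMulCommutative V ∧ (∀ v : V, v ^ 2 = 1) ∧ ∀ v : V, v * v = 1 :=
  ⟨⟨⟨fun a b => Subtype.ext (comm_of_sq el a.2 b.2)⟩⟩, fun v => Subtype.ext ((pow_two _).trans (el v v.2)),
    fun v => Subtype.ext (el v v.2)⟩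

theorem T8.fx5 (h : T8 T x) {A : Subgroup G} (le : A ≤ T) (el : ∀ a ∈ A, a * a = 1) (cA : Nat.card A = 32)
    (nA : ∀ y ∈ T, ∀ a ∈ A, y * a * y⁻¹ ∈ A) (cyc : ∀ y ∈ T, ∃ i : ℕ, y * x ^ i ∈ A) :
    ∃ w ∈ A, w ≠ 1 ∧ ∀ n : G, (∀ a ∈ A, n * a * n⁻¹ ∈ A) → n * w = w * n := by
  have := Fact.mk Nat.prime_two
  have := Fact.mk Nat.prime_five
  obtain ⟨_, e2, -⟩ := t8f_el el
  have TN : T ≤ normalizer (A : Set G) := fun y hy => mem_normalizer_fintype (nA y hy)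
  obtain ⟨H, O, ψ, nO, -, hψ, o2, o7, o31, d, dec⟩ := h.f_act TN le_rfl (h.pg.to_le le) (by rw [cA]; decide)
    fun y hy => (cyc y hy).imp fun i hi v hv => comm_of_sq el hi hv
  have d45 := t8f_45 (a := 10) o2 o7 o31
    (d.trans ((Fgs.card_mulAut_dvd_of_elementary (r := 5) e2 cA).trans (by decide)))
  obtain ⟨W, W1, nW, fW⟩ : ∃ W : Subgroup A, W ≠ ⊥ ∧ (∀ n, ∀ v ∈ W, H.subtype n v ∈ W) ∧
      ∀ o ∈ O, ∀ v ∈ W, H.subtype o v = v := by
    by_cases h5 : 5 ∣ Nat.card O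
    · let P : Sylow 5 O := default
      have : Subsingleton (Sylow 5 O) := by
        have d1 := (P.card_dvd_index.trans (index_dvd_card _)).trans d45
        have d2 : Nat.card (Sylow 5 O) % 5 = 1 % 5 := card_sylow_modEq_one 5 O
        have d3 := Nat.le_of_dvd (by norm_num) d1
        refine (Nat.card_eq_one_iff_unique.1 ?_).1
        generalize Nat.card (Sylow 5 O) = n at d1 d2 d3
        interval_cases n <;> omega
      obtain ⟨W, mW, cW, nW⟩ := t8f_fix H.subtype Nat.prime_five (P.2.map O.subtype)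
      have c2 : Nat.card W = 2 := by
        obtain ⟨k, hk, e⟩ := (Nat.dvd_prime_pow Nat.prime_two (m := 5)).1 (cA ▸ card_subgroup_dvd_card W)
        have : k ≠ 5 := fun t => P.ne_bot_of_dvd_card h5 ((eq_bot_iff_forall _).2 fun f hf =>
          Subtype.ext (Subtype.ext (MulEquiv.ext fun v => (mW v).1
            (eq_top_of_card_eq W (by rw [e, t, cA]; rfl) ▸ mem_top v) f ⟨f, hf, rfl⟩)))
        rw [cA, e] at cW
        rw [e]
        interval_cases k <;> omega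
      refine ⟨W, fun t => by rw [t, card_bot] at c2; omega, nW inferInstance, fun o _ v hv => ?_⟩
      by_cases v1 : v = 1
      · rw [v1, map_one]
      · exact (two_cases c2.le hv v1 (nW inferInstance o v hv)).resolve_left
          fun t => v1 ((map_eq_one_iff _ (H.subtype o).injective).1 t)
    · obtain ⟨W, mW, cW, nW⟩ := t8f_fix H.subtype Nat.prime_three (t8f_three d45 h5)
      exact ⟨W, fun t => by rw [t, card_bot, cA] at cW; omega, nW nO, fun o ho v hv => (mW v).1 hv o ho⟩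
  obtain ⟨_, ⟨w, wW, rfl⟩, w1, wc⟩ := exists_cent_of_norm (N := W.map A.subtype) h.pg
    ((map_subtype_le W).trans le) (by
      rintro g hg _ ⟨v, hv, rfl⟩
      exact ⟨_, nW (ψ ⟨g, TN hg⟩) v hv, hψ _ v⟩) (mt (map_eq_bot_iff_of_injective W A.subtype_injective).1 W1)
  refine ⟨w, w.2, w1, fun n hn => ?_⟩
  obtain ⟨o, ho, i, e⟩ := dec (ψ ⟨n, mem_normalizer_fintype hn⟩)
  have e1 : H.subtype (ψ (⟨x, TN h.xT⟩ ^ i)) w = w := Subtype.ext
    ((hψ _ w).trans (mul_inv_eq_iff_eq_mul.2 (wc _ (zpow_mem h.xT i))))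
  have := hψ ⟨n, mem_normalizer_fintype hn⟩ w
  rw [e, map_mul, MulAut.mul_apply, ← map_zpow, e1, fW o ho w wW] at this
  exact mul_inv_eq_iff_eq_mul.1 this.symm

theorem T8.fx4 (h : T8 T x) {D : Subgroup G} (el : ∀ a ∈ D, a * a = 1) (cD : Nat.card D = 16)
    (nD : ∀ y ∈ T, ∀ a ∈ D, y * a * y⁻¹ ∈ D) (zD : x ^ 4 ∈ D) (zc : ∀ y ∈ T, y * x ^ 4 = x ^ 4 * y)
    (cyc : ∀ y ∈ T, (∀ a ∈ D, y * a = a * y) ∨ ∀ a ∈ D, y * x * a = a * (y * x)) :
    ∃ d ∈ D, (∀ e ∈ D, d ≠ e * x * e⁻¹ * x⁻¹ ∧ d ≠ e * x * e⁻¹ * x⁻¹ * x ^ 4) ∧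
      ∀ n : G, (∀ a ∈ D, n * a * n⁻¹ ∈ D) → n * x ^ 4 = x ^ 4 * n → n * d * n⁻¹ = d ∨ n * d * n⁻¹ = x * d * x⁻¹ := by
  have := Fact.mk Nat.prime_two
  obtain ⟨_, e2, e3⟩ := t8f_el el
  have TN : T ≤ normalizer (D : Set G) ⊓ centralizer {x ^ 4} := fun y hy =>
    ⟨mem_normalizer_fintype (nD y hy), mem_cent.2 (zc y hy)⟩
  obtain ⟨H, O, ψ, nO, sur, hψ, o2, o7, o31, d, dec⟩ := h.f_act TN inf_le_left
    (IsPGroup.of_card (n := 4) cD) (by rw [cD]; decide) fun y hy => (cyc y hy).elim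
      (fun t => ⟨0, by simpa using t⟩) fun t => ⟨1, by simpa using t⟩
  have d45 := t8f_45 (a := 6) o2 o7 o31
    (d.trans ((Fgs.card_mulAut_dvd_of_elementary (r := 4) e2 cD).trans (by decide)))
  have fz : ∀ n, H.subtype n ⟨x ^ 4, zD⟩ = ⟨x ^ 4, zD⟩ := fun n => by
    obtain ⟨n, rfl⟩ := sur n
    exact Subtype.ext ((hψ n _).trans (mul_inv_eq_iff_eq_mul.2 (mem_cent.1 n.2.2)))
  have z1 : (⟨x ^ 4, zD⟩ : D) ≠ 1 := fun t => h.z1 (congrArg Subtype.val t)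
  have h5 : ¬ 5 ∣ Nat.card O := fun h5 => by
    obtain ⟨a, -, o⟩ := exists_mem_orderOf Nat.prime_five h5
    obtain ⟨W, mW, cW, -⟩ := t8f_fix H.subtype Nat.prime_five (F := zpowers a)
      (IsPGroup.of_card (n := 1) (by rw [Nat.card_zpowers, o, pow_one]))
    obtain ⟨k, hk, e⟩ := (Nat.dvd_prime_pow Nat.prime_two (m := 4)).1 (cD ▸ card_subgroup_dvd_card W)
    have c2 := two_le_card ((mW _).2 fun f _ => fz f) z1
    have : k ≠ 4 := fun t => by
      have : a = 1 := Subtype.ext (MulEquiv.ext fun v => (mW v).1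
        (eq_top_of_card_eq W (by rw [e, t, cD]; rfl) ▸ mem_top v) a (mem_zpowers a))
      rw [this, orderOf_one] at o
      omega
    rw [e] at c2
    rw [cD, e] at cW
    interval_cases k <;> omega
  obtain ⟨W, mW, cW, nW⟩ := t8f_fix H.subtype Nat.prime_three (t8f_three d45 h5)
  have zW := (mW _).2 fun f _ => fz f
  have one : ∀ n : ↥(normalizer (D : Set G) ⊓ centralizer {x ^ 4}), (∀ a ∈ D, (n : G) * a = a * n) → ψ n = 1 := fun n t =>
    Subtype.ext (MulEquiv.ext fun v => Subtype.ext ((hψ n v).trans (mul_inv_eq_iff_eq_mul.2 (t v v.2))))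
  have ξξ : ψ ⟨x, TN h.xT⟩ * ψ ⟨x, TN h.xT⟩ = 1 := by
    rcases cyc x h.xT with t | t
    · rw [one ⟨x, TN h.xT⟩ t, one_mul]
    · rw [← map_mul, one _ t]
  have := t8f_avg H.subtype O o2 e3 ξξ (fz _) mW zW
  by_contra! hn
  have c1 := card_le_two (this fun v hv => by_contra fun t => ?_)
  · have c2 := two_le_card zW z1
    rw [cD] at cW
    omega
  push Not at t
  obtain ⟨n, n1, n2, n3, n4⟩ := hn v v.2 fun e he => ⟨fun k => (t ⟨e, he⟩).1 (Subtype.ext (by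
    rw [k, coe_mul, coe_inv, hψ]; group)), fun k => (t ⟨e, he⟩).2 (Subtype.ext (by
    rw [k, coe_mul, coe_mul, coe_inv, hψ]; group))⟩
  obtain ⟨o, ho, i, e⟩ := dec (ψ ⟨n, mem_normalizer_fintype n1, mem_cent.2 n2⟩)
  have k := hψ ⟨n, mem_normalizer_fintype n1, mem_cent.2 n2⟩ v
  rw [e, map_mul, MulAut.mul_apply, (mW _).1 (nW nO _ v hv) o ho] at k
  rcases (mem_zpowers_two ξξ).1 (zpow_mem (mem_zpowers _) i) with t | t <;> rw [t] at k
  · exact n3 k.symm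
  · exact n4 (k.symm.trans (hψ _ v))

end CfsgLib.A10S
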