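import Mathlib
import Cfsg.Agent.Lib.A10S.T8F

/-! T8E1: an elementary abelian subgroup of order 32 which is not normal.  See plans/A10S-T8.md. -/

set_option autoImplicit false

namespace CfsgLib.A10S
open Cfsg Subgroup CfsgLib.Sect

variable {G : Type*} [Group G] [Finite G] {T M : Subgroup G} {x : G}

theorem e1_idx {L H : Subgroup G} (le : L ≤ H) (h : Nat.card H = 2 * Nat.card L) : L.relIndex H ≤ 2 := by
  have k := card_eq_relIndex' le
  rw [h, mul_comm] at k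
  exact (Nat.eq_of_mul_eq_mul_left Nat.card_pos k).ge

theorem T8.e1 (h : T8 T x) {A : Subgroup G} (le : A ≤ T) (el : ∀ a ∈ A, a * a = 1) (cA : Nat.card A = 32)
    (nA : ¬ ∀ y ∈ T, ∀ a ∈ A, y * a * y⁻¹ ∈ A) : False := by
  obtain ⟨M, hM⟩ : ∃ M : Subgroup G, ∀ m, m ∈ M ↔ m ∈ T ∧ ∀ a ∈ A, m * a * m⁻¹ ∈ A :=
    ⟨T ⊓ normalizer (A : Set G), fun m => and_congr_right fun _ =>
      ⟨fun k a ha => (mem_normalizer_iff.1 k a).1 ha, fun k => mem_normalizer_fintype k⟩⟩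
  have cT := h.card
  have xT := h.xT
  have MT : M ≤ T := fun m hm => ((hM m).1 hm).1
  have AM : A ≤ M := fun a ha => (hM a).2 ⟨le ha, fun b hb => mul_mem (mul_mem ha hb) (inv_mem ha)⟩
  have cM : Nat.card M = 64 := by
    obtain ⟨n, n1, n2, -, n3⟩ := exists_norm_sq h.pg le fun k => by have := card_le_of_le k; omega
    have k1 := two_mul_card_le AM fun k => n2 (k ((hM n).2 ⟨n1, n3⟩))
    have k2 := two_mul_card_le MT fun k => nA fun y hy => ((hM y).1 (k hy)).2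
    omega
  have iT := e1_idx MT (by omega)
  have iM := e1_idx AM (by omega)
  have xM : x ∉ M := fun k => h.z1 (by
    have : x * x ∈ A := by
      by_cases a : x ∈ A
      exacts [mul_mem a a, mul_mem_of_le_two iM k k a a]
    rw [show 4 = 2 + 2 from rfl, pow_add, sq, el _ this])
  have out : ∀ {u v : G}, u ∈ T → v ∈ T → u ∉ M → v ∉ M → u * v ∈ M := mul_mem_of_le_two iT
  have xi : x⁻¹ ∉ M := fun k => xM (inv_mem_iff.1 k)
  have nM : ∀ y ∈ T, ∀ m ∈ M, y * m * y⁻¹ ∈ M := fun y hy m hm => by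
    by_cases a : y ∈ M
    · exact mul_mem (mul_mem a hm) (inv_mem a)
    · exact out (mul_mem hy (MT hm)) (inv_mem hy) (fun k => a ((mul_mem_cancel_right hm).1 k))
        fun k => a (inv_mem_iff.1 k)
  obtain ⟨B, hB, cB⟩ : ∃ B : Subgroup G, (∀ y, y ∈ B ↔ x⁻¹ * y * x ∈ A) ∧ Nat.card B = 32 :=
    ⟨cjg x A, fun _ => mem_cjg, (card_cjg x A).trans cA⟩
  have BM : B ≤ M := fun b hb => by simpa [mul_assoc] using nM x xT _ (AM ((hB b).1 hb))
  have elB : ∀ b ∈ B, b * b = 1 := fun b hb => by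
    have k := el _ ((hB b).1 hb)
    rw [show x⁻¹ * b * x * (x⁻¹ * b * x) = x⁻¹ * (b * b) * x⁻¹⁻¹ by group] at k
    exact conj_eq_one_iff.1 k
  have sw1 : ∀ u ∈ T, u ∉ M → ∀ a ∈ A, u * a * u⁻¹ ∈ B := fun u hu k a ha => (hB _).2 (by
    simpa [mul_assoc] using ((hM _).1 (out (inv_mem xT) hu xi k)).2 a ha)
  have sw2 : ∀ u ∈ T, u ∉ M → ∀ b ∈ B, u * b * u⁻¹ ∈ A := fun u hu k b hb => by
    simpa [mul_assoc] using ((hM _).1 (out hu xT k xM)).2 _ ((hB b).1 hb)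
  have nBA : ¬ B ≤ A := fun k => xM ((hM x).2 ⟨xT, fun a ha => k (sw1 x xT xM a ha)⟩)
  obtain ⟨D, hD, cD⟩ : ∃ D : Subgroup G, (∀ y, y ∈ D ↔ y ∈ B ∧ y ∈ A) ∧ Nat.card D = 16 :=
    ⟨B ⊓ A, fun _ => Iff.rfl, by
      have k1 := card_mul_le AM BM
      have k2 := two_mul_card_le (inf_le_left : B ⊓ A ≤ B) fun k => nBA (k.trans inf_le_right)
      rw [cA, cB, cM] at k1
      omega⟩
  have DA : D ≤ A := fun d hd => ((hD d).1 hd).2
  have DB : D ≤ B := fun d hd => ((hD d).1 hd).1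
  obtain ⟨a, aA, aD⟩ := exists_notMem (K := D) (H := A) (by omega)
  obtain ⟨b, bB, bD⟩ := exists_notMem (K := D) (H := B) (by omega)
  have bA : b ∉ A := fun k => bD ((hD b).2 ⟨bB, k⟩)
  have decA : ∀ m ∈ A, ∃ d ∈ D, m = d ∨ m = a * d := fun m hm => by
    by_cases k : m ∈ D
    · exact ⟨m, k, .inl rfl⟩
    · exact ⟨a * m, mul_mem_of_le_two (e1_idx DA (by omega)) aA hm aD k, .inr (by rw [← mul_assoc, el a aA, one_mul])⟩
  have dec : ∀ m ∈ M, ∃ d ∈ D, m = d ∨ m = a * d ∨ m = b * d ∨ m = b * a * d := fun m hm => by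
    by_cases k : m ∈ A
    · obtain ⟨d, hd, e | e⟩ := decA m k
      exacts [⟨d, hd, .inl e⟩, ⟨d, hd, .inr (.inl e)⟩]
    · have e0 : m = b * (b * m) := by rw [← mul_assoc, elB b bB, one_mul]
      obtain ⟨d, hd, e | e⟩ := decA _ (mul_mem_of_le_two iM (BM bB) hm bA k)
      · exact ⟨d, hd, .inr (.inr (.inl (by rw [← e, ← e0])))⟩
      · exact ⟨d, hd, .inr (.inr (.inr (by rw [mul_assoc, ← e, ← e0])))⟩
  have cen : ∀ m ∈ M, ∀ d ∈ D, Commute m d := fun m hm d hd => by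
    have k1 : Commute a d := comm_of_sq el aA (DA hd)
    have k2 : Commute b d := comm_of_sq elB bB (DB hd)
    obtain ⟨e, he, k⟩ := dec m hm
    have k3 : Commute e d := comm_of_sq el (DA he) (DA hd)
    rcases k with rfl | rfl | rfl | rfl
    exacts [k3, k1.mul_left k3, k2.mul_left k3, (k2.mul_left k1).mul_left k3]
  have baM : b * a ∈ M := mul_mem (BM bB) (AM aA)
  have sq4 : ∀ d ∈ D, b * a * d * (b * a * d) = b * a * (b * a) := fun d hd => by
    rw [← sq, (cen _ baM d hd).mul_pow, sq d, el d (DA hd), mul_one, sq]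
  have x2M : x * x ∈ M := out xT xT xM xM
  have x4 : x * x * (x * x) = x ^ 4 := by rw [show 4 = 2 + 2 from rfl, pow_add, sq]
  obtain ⟨d0, hd0, e0⟩ : ∃ d ∈ D, x * x = b * a * d := by
    obtain ⟨d, hd, e | e | e | e⟩ := dec _ x2M
    · exact (h.z1 (by rw [← x4, e, el d (DA hd)])).elim
    · exact (h.z1 (by rw [← x4, e, el _ (mul_mem aA (DA hd))])).elim
    · exact (h.z1 (by rw [← x4, e, elB _ (mul_mem bB (DB hd))])).elim
    · exact ⟨d, hd, e⟩
  have baz : b * a * (b * a) = x ^ 4 := by rw [← x4, e0, sq4 d0 hd0]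
  have dec' : ∀ m ∈ M, m ∈ A ∨ m ∈ B ∨ m * m = x ^ 4 := fun m hm => by
    obtain ⟨d, hd, rfl | rfl | rfl | rfl⟩ := dec m hm
    exacts [.inl (DA hd), .inl (mul_mem aA (DA hd)), .inr (.inl (mul_mem bB (DB hd))),
      .inr (.inr ((sq4 d hd).trans baz))]
  have mz : MZ T M x := ⟨h, MT, cM, fun m hm => by
    rcases dec' m hm with k | k | k
    exacts [.inl (el m k), .inl (elB m k), .inr k]⟩
  have nab : ¬ Commute b a := fun k => h.z1 (by rw [← baz, ← sq, k.mul_pow, sq, sq, el a aA, elB b bB, mul_one])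
  have zM : ∀ m ∈ M, (∀ y ∈ M, Commute m y) → m ∈ D := fun m hm k => by
    have k1 := k a (AM aA)
    have k2 := k b (BM bB)
    obtain ⟨d, hd, rfl | rfl | rfl | rfl⟩ := dec m hm
    · exact hd
    · have k3 := k2.mul_left (cen b (BM bB) d hd).symm.inv_left
      rw [mul_inv_cancel_right] at k3
      exact (nab k3.symm).elim
    · have k3 := k1.mul_left (cen a (AM aA) d hd).symm.inv_left
      rw [mul_inv_cancel_right] at k3
      exact (nab k3).elim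
    · have k3 := (k1.mul_left (cen a (AM aA) d hd).symm.inv_left).mul_left (Commute.refl a).inv_left
      rw [mul_inv_cancel_right, mul_inv_cancel_right] at k3
      exact (nab k3).elim
  have nrm : ∀ g : G, (∀ m ∈ M, g * m * g⁻¹ ∈ M) → ∀ d ∈ D, g * d * g⁻¹ ∈ D := fun g hg d hd =>
    zM _ (hg d (AM (DA hd))) fun y hy => by
      have k : Commute (g * d * g⁻¹) (g * (g⁻¹ * y * g) * g⁻¹) :=
        (cen _ (conj_inv_mem hg hy) d hd).symm.map (MulAut.conj g)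
      rwa [show g * (g⁻¹ * y * g) * g⁻¹ = y by group] at k
  have nD : ∀ y ∈ T, ∀ d ∈ D, y * d * y⁻¹ ∈ D := fun y hy => nrm y (nM y hy)
  have zD : x ^ 4 ∈ D := zM _ mz.zM fun y hy => (mz.zc (MT hy)).symm
  obtain ⟨d, hd, f1, f2⟩ := h.fx4 (fun a ha => el a (DA ha)) cD nD zD (fun y hy => mz.zc hy) fun y hy => by
    by_cases k : y ∈ M
    exacts [.inl (cen y k), .inr (cen _ (out hy xT k xM))]
  obtain ⟨K, -, -, K1, -, K2⟩ := mz.exists_K xT xM
  have red : ∀ m ∈ M, m * x * m⁻¹ * x⁻¹ ∈ D → ∃ e ∈ D, m * x * m⁻¹ * x⁻¹ = e * x * e⁻¹ * x⁻¹ := fun m hm k => by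
    have k1 : x * m⁻¹ * x⁻¹ ∈ D → m ∈ D := fun k2 => by simpa [mul_assoc] using inv_mem (nD _ (inv_mem xT) _ k2)
    rw [mul_assoc m, mul_assoc m] at k
    obtain ⟨e, he, k2 | k2 | k2 | k2⟩ := dec m hm
    · exact ⟨m, k2 ▸ he, rfl⟩
    · have mA : m ∈ A := k2 ▸ mul_mem aA (DA he)
      exact ⟨m, k1 ((hD _).2 ⟨sw1 x xT xM _ (inv_mem mA), (mul_mem_cancel_left mA).1 (DA k)⟩), rfl⟩
    · have mB : m ∈ B := k2 ▸ mul_mem bB (DB he)
      exact ⟨m, k1 ((hD _).2 ⟨(mul_mem_cancel_left mB).1 (DB k), sw2 x xT xM _ (inv_mem mB)⟩), rfl⟩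
    · have he' := mul_mem (inv_mem hd0) he
      have k3 : m = x * x * (d0⁻¹ * e) := by rw [k2, e0]; group
      refine ⟨_, he', ?_⟩
      generalize d0⁻¹ * e = f at he' k3
      have k4 : f * x * f⁻¹ * x⁻¹ ∈ D := by
        rw [mul_assoc f, mul_assoc f]; exact mul_mem he' (nD x xT _ (inv_mem he'))
      calc _ = x * x * (f * x * f⁻¹ * x⁻¹) * (x * x)⁻¹ := by rw [k3]; group
        _ = _ := by rw [(cen _ x2M _ k4).eq, mul_inv_cancel_right]
  have dK : d ∉ K := fun k => by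
    obtain ⟨m, hm, e | e⟩ := K2 d k
    · obtain ⟨f, hf, e1⟩ := red m hm (e ▸ hd)
      exact (f1 f hf).1 (e.trans e1)
    · obtain ⟨f, hf, e1⟩ := red m hm ((mul_mem_cancel_right zD).1 (e ▸ hd))
      exact (f1 f hf).2 (e1 ▸ e)
  have d2 := el d (DA hd)
  obtain ⟨t, -, t2, t3⟩ := h.trf (R := T ⊓ centralizer (D : Set G)) K1 (le (DA hd)) dK d2 (h.pg.to_le inf_le_left)
    fun r hr => (hr.2 d hd).symm
  have fin : (∀ a ∈ D, t⁻¹ * a * t⁻¹⁻¹ ∈ D) → t * x ^ 4 = x ^ 4 * t → False := fun k1 k2 => by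
    rcases f2 t⁻¹ k1 (Commute.inv_left k2).eq with k | k <;> rw [inv_inv] at k <;> refine t2 ?_ <;> rw [k]
    · rw [d2]; exact one_mem _
    · nth_rw 2 [← inv_eq_of_mul_eq_one_right d2]
      exact K1 x xT d (le (DA hd))
  by_cases cx : ∀ e ∈ D, Commute x e
  · have cT' : ∀ y ∈ T, ∀ e ∈ D, Commute y e := fun y hy e he => by
      by_cases k : y ∈ M
      · exact cen y k e he
      · have k1 := (cen _ (out hy xT k xM) e he).mul_left (cx e he).inv_left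
        rwa [mul_inv_cancel_right] at k1
    have tT : ∀ y ∈ T, t⁻¹ * y * t ∈ T := fun y hy => t3 y ⟨hy, fun e he => (cT' y hy e he).eq.symm⟩
    refine fin (fun e he => ?_) (mz.fix tT)
    have k : ∀ y ∈ T, Commute y (t⁻¹ * e * t⁻¹⁻¹) := fun y hy => by
      have k1 : Commute (t⁻¹ * (t⁻¹⁻¹ * y * t⁻¹) * t⁻¹⁻¹) (t⁻¹ * e * t⁻¹⁻¹) :=
        (cT' _ (conj_inv_mem (g := t⁻¹) (by simpa using tT) hy) e he).map (MulAut.conj t⁻¹)
      rwa [show t⁻¹ * (t⁻¹⁻¹ * y * t⁻¹) * t⁻¹⁻¹ = y by group] at k1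
    exact zM _ (mz.mem_of_cent (by simpa using tT e (le (DA he))) (by rw [conj_mul, el e (DA he)]; group) k)
      fun y hy => (k y (MT hy)).symm
  have big : ∀ C : Subgroup G, C ≤ T → (∀ c ∈ C, c * c = 1) → Nat.card C = 32 → C ≤ M := fun C hC eC cC u hu => by
    by_contra uM
    have k1 : M ⊓ C ≤ D := fun c hc => by
      have k2 : u * c * u⁻¹ = c := by rw [comm_of_sq eC hu hc.2, mul_inv_cancel_right]
      rcases dec' c hc.1 with k | k | k
      · exact (hD c).2 ⟨k2 ▸ sw1 u (hC hu) uM c k, k⟩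
      · exact (hD c).2 ⟨k, k2 ▸ sw2 u (hC hu) uM c k⟩
      · exact (h.z1 (k.symm.trans (eC c hc.2))).elim
    have k2 := card_eq_relIndex M C
    have k3 := Nat.mul_le_mul_left (Nat.card (M ⊓ C : Subgroup G)) ((relIndex_mono_right M hC).trans iT)
    refine cx fun e he => ?_
    have k4 : Commute u e := comm_of_sq eC hu (eq_of_card_lt k1 (by omega) he).2
    have k5 := k4.mul_left (cen _ (out (inv_mem (hC hu)) xT (fun k => uM (inv_mem_iff.1 k)) xM) e he)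
    rwa [mul_inv_cancel_left] at k5
  have tr : ∀ C : Subgroup G, C ≤ M → (∀ c ∈ C, c * c = 1) → Nat.card C = 32 → ∀ c ∈ C, t⁻¹ * c * t⁻¹⁻¹ ∈ M :=
    fun C hC eC cC c hc => big (cjg t⁻¹ C) (fun y hy => by
      have k := hC (mem_cjg.1 hy)
      simpa [mul_assoc] using t3 _ ⟨MT k, fun e he => (cen _ k e he).eq.symm⟩) (fun y hy => by
      have k := eC _ (mem_cjg.1 hy)
      rw [show t⁻¹⁻¹ * y * t⁻¹ * (t⁻¹⁻¹ * y * t⁻¹) = t * (y * y) * t⁻¹ by group] at k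
      exact conj_eq_one_iff.1 k) ((card_cjg _ _).trans cC) (mem_cjg.2 (by simpa [mul_assoc] using hc))
  have tM : ∀ m ∈ M, t⁻¹ * m * t⁻¹⁻¹ ∈ M := fun m hm => by
    have k1 := tr A AM el cA
    have k2 := tr B BM elB cB b bB
    obtain ⟨e, he, rfl | rfl | rfl | rfl⟩ := dec m hm
    · exact k1 _ (DA he)
    · exact k1 _ (mul_mem aA (DA he))
    · rw [← conj_mul]; exact mul_mem k2 (k1 _ (DA he))
    · rw [mul_assoc b, ← conj_mul]; exact mul_mem k2 (k1 _ (mul_mem aA (DA he)))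
  refine fin (nrm _ tM) ?_
  rcases mz.sq _ (tM _ x2M) with k | k <;> rw [conj_mul, x4] at k
  · exact (h.z1 (conj_eq_one_iff.1 k)).elim
  · nth_rw 1 [← k]; group

end CfsgLib.A10S
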