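import Mathlib
import Cfsg.Agent.Lib.A10S.T8F

/-! T8E2: a normal elementary abelian subgroup of order 32.  See plans/A10S-T8.md. -/

set_option autoImplicit false

namespace CfsgLib.A10S
open Cfsg Subgroup CfsgLib.Sect

variable {G : Type*} [Group G] [Finite G] {T M : Subgroup G} {x : G}

/-- the hypothesis of T8E2 -/
structure E2H (T A : Subgroup G) (x : G) : Prop extends T8 T x where
  le : A ≤ T
  el : ∀ a ∈ A, a * a = 1
  cA : Nat.card A = 32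
  nA : ∀ y ∈ T, ∀ a ∈ A, y * a * y⁻¹ ∈ A

namespace E2H

variable {A B : Subgroup G} {u v : G} (h : E2H T A x)
include h

theorem yy : x ^ 2 * x ^ 2 ≠ 1 := by rw [← pow_add]; exact h.toT8.z1

theorem quo : (∀ y ∈ T, ∃ i : ℕ, y * x ^ i ∈ A) ∧ ∀ u ∈ T, u * u = 1 → u ∉ A → u * x ^ 2 ∈ A := by
  classical
  have nrm : (A.subgroupOf T).Normal := ⟨fun a ha y => h.nA y y.2 a ha⟩
  have c4 : Nat.card (T ⧸ A.subgroupOf T) = 4 := by
    have := card_eq_relIndex' h.le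
    rw [h.card, h.cA] at this
    exact (show A.relIndex T = 4 by omega)
  let f := QuotientGroup.mk' (A.subgroupOf T)
  have k : ∀ y : T, f y = 1 ↔ (y : G) ∈ A := fun y => QuotientGroup.eq_one_iff y
  obtain ⟨ξ, hξ⟩ : ∃ ξ, ξ = f ⟨x, h.xT⟩ := ⟨_, rfl⟩
  have o : orderOf ξ = 2 ^ 2 := orderOf_eq_prime_pow (n := 1)
    (fun e => h.yy (h.el _ ((k (⟨x, h.xT⟩ ^ 2)).1 (by rw [map_pow, ← hξ]; exact e))))
    (by rw [show 2 ^ (1 + 1) = 4 from rfl, ← c4, pow_card_eq_one'])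
  have top : zpowers ξ = ⊤ := eq_top_of_card_eq _ (by rw [Nat.card_zpowers, o, c4]; rfl)
  have gen : ∀ y, ∃ i < 4, ξ ^ i = y := fun y => by
    obtain ⟨i, hi, e⟩ := Finset.mem_image.1 (mem_zpowers_iff_mem_range_orderOf.1 (top ▸ mem_top y))
    exact ⟨i, by rwa [o, Finset.mem_range] at hi, e⟩
  refine ⟨fun y hy => ?_, fun u hu uu uA => ?_⟩
  · obtain ⟨i, -, e⟩ := gen (f ⟨y, hy⟩)⁻¹
    exact ⟨i, (k (⟨y, hy⟩ * ⟨x, h.xT⟩ ^ i)).1 (by rw [map_mul, map_pow, ← hξ, e, mul_inv_cancel])⟩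
  obtain ⟨i, hi, e⟩ := gen (f ⟨u, hu⟩)
  have e2 : f ⟨u, hu⟩ * f ⟨u, hu⟩ = 1 := by rw [← map_mul, k]; exact (show u * u ∈ A from uu ▸ one_mem A)
  refine (k (⟨u, hu⟩ * ⟨x, h.xT⟩ ^ 2)).1 ?_
  rw [← e, ← pow_add, ← orderOf_dvd_iff_pow_eq_one, o] at e2
  have : i ≠ 0 := fun t => uA ((k ⟨u, hu⟩).1 (by rw [← e, t, pow_zero]))
  rw [map_mul, map_pow, ← hξ, ← e, ← pow_add, ← orderOf_dvd_iff_pow_eq_one, o]
  omega

theorem tw (hu : u ∈ T) (uu : u * u = 1) (uA : u ∉ A) (hv : v ∈ T) (vv : v * v = 1) (vA : v ∉ A) :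
    u * v ∈ A := by
  have := mul_mem (h.quo.2 u hu uu uA) (inv_mem (h.quo.2 v hv vv vA))
  rwa [mul_inv_rev, mul_assoc, mul_inv_cancel_left, inv_eq_of_mul_eq_one_right vv] at this

theorem nc (hu : u ∈ T) (uu : u * u = 1) (uA : u ∉ A) : u * x ^ 2 ≠ x ^ 2 * u := fun c => by
  have := h.el _ (h.quo.2 u hu uu uA)
  rw [mul_assoc, ← mul_assoc (x ^ 2), ← c, mul_assoc u, ← mul_assoc, uu, one_mul] at this
  exact h.yy this

theorem iff (hu : u ∈ T) (uu : u * u = 1) (uA : u ∉ A) (hv : v ∈ A) :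
    v * u = u * v ↔ v * x ^ 2 = x ^ 2 * v := by
  have c : Commute v (u * x ^ 2) := comm_of_sq h.el hv (h.quo.2 u hu uu uA)
  exact ⟨fun e => by simpa using ((show Commute v u from e).inv_right.mul_right c).eq,
    fun e => by simpa using (c.mul_right (show Commute v (x ^ 2) from e).inv_right).eq⟩

theorem chr (le : B ≤ T) (el : ∀ b ∈ B, b * b = 1) (cB : Nat.card B = 32) (n : ¬ B ≤ A) :
    v ∈ B ↔ v ∈ T ∧ v * v = 1 ∧ (v ∈ A → v * x ^ 2 = x ^ 2 * v) := by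
  obtain ⟨u, uB, uA⟩ := SetLike.not_le_iff_exists.1 n
  have iff := fun {v} => h.iff (v := v) (le uB) (el u uB) uA
  refine ⟨fun hv => ⟨le hv, el v hv, fun a => (iff a).1 (comm_of_sq el hv uB)⟩, fun ⟨hv, vv, c⟩ => ?_⟩
  have F : A ⊓ centralizer {x ^ 2} ≤ A ⊓ B := by
    refine eq_of_card_lt (fun b hb => ⟨hb.1, mem_cent.2 ((iff hb.1).1 (comm_of_sq el hb.2 uB))⟩) ?_
    have c1 := two_mul_card_le (inf_le_left : A ⊓ centralizer {x ^ 2} ≤ A) fun l => by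
      have := mem_cent.1 (l (h.quo.2 u (le uB) (el u uB) uA)).2
      rw [← mul_assoc (x ^ 2), mul_left_inj] at this
      exact h.nc (le uB) (el u uB) uA this
    have c2 := card_eq_relIndex A B
    have c3 := Nat.mul_le_mul_left (Nat.card (A ⊓ B : Subgroup G)) (relIndex_le_two (L := A) (H := B)
      fun p hp q hq p1 q1 => by
        rw [inv_eq_of_mul_eq_one_right (el p hp)]
        exact h.tw (le hp) (el p hp) p1 (le hq) (el q hq) q1)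
    have := h.cA
    omega
  by_cases a : v ∈ A
  · exact (F ⟨a, mem_cent.2 (c a)⟩).2
  have m := h.tw hv vv a (le uB) (el u uB) uA
  have : v * u * u = u * (v * u) := by
    rw [mul_assoc, el u uB, mul_one, ← mul_right_inj v, vv, ← mul_assoc, h.el _ m]
  exact (mul_mem_cancel_right uB).1 (F ⟨m, mem_cent.2 ((iff m).1 this)⟩).2

omit [Finite G] h in
theorem cj_el (el : ∀ b ∈ B, b * b = 1) (g : G) : ∀ b ∈ cjg g B, b * b = 1 := fun b hb => by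
  have := el _ (mem_cjg.1 hb)
  rw [show g⁻¹ * b * g * (g⁻¹ * b * g) = g⁻¹ * (b * b) * g⁻¹⁻¹ by group] at this
  exact conj_eq_one_iff.1 this

/-- weak closure -/
theorem wc {g : G} (hg : ∀ a ∈ A, g * a * g⁻¹ ∈ T) : ∀ a ∈ A, g * a * g⁻¹ ∈ A := by
  have cle : ∀ {n : G} {B C : Subgroup G}, cjg n B ≤ C ↔ ∀ b ∈ B, n * b * n⁻¹ ∈ C := map_le_iff_le_comap
  refine cle.1 (by_contra fun n => ?_)
  have BT := cle.2 hg
  have el := cj_el h.el g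
  have cB : Nat.card (cjg g A) = 32 := (card_cjg g A).trans h.cA
  have uq : ∀ s, cjg s (cjg g A) ≤ T → ¬ cjg s (cjg g A) ≤ A → cjg s (cjg g A) = cjg g A := fun s l m =>
    Subgroup.ext fun v => (h.chr l (cj_el el s) ((card_cjg s _).trans cB) m).trans (h.chr BT el cB n).symm
  have TN : T ≤ normalizer (cjg g A : Set G) := fun s hs => mem_normalizer_fintype (cle.1 (uq s
    (cle.2 fun b hb => mul_mem (mul_mem hs (BT hb)) (inv_mem hs))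
    fun l => n fun b hb => by simpa [mul_assoc] using conj_inv_mem (h.nA s hs) (cle.1 l b hb)).le)
  obtain ⟨k, hk, e⟩ := h.toT8.syl_in TN (R := cjg g T) (h.toT8.pg.map _) fun r hr =>
    mem_normalizer_fintype fun b hb => mem_cjg.2 (by
      have := h.nA _ (mem_cjg.1 hr) _ (mem_cjg.1 hb)
      rwa [show g⁻¹ * r * g * (g⁻¹ * b * g) * (g⁻¹ * r * g)⁻¹ = g⁻¹ * (r * b * r⁻¹) * g by group] at this)
  have nT : ∀ y ∈ T, (g⁻¹ * k)⁻¹ * y * (g⁻¹ * k) ∈ T := fun y hy => by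
    have := e _ (cle.1 le_rfl y hy)
    rwa [show k⁻¹ * (g * y * g⁻¹) * k = (g⁻¹ * k)⁻¹ * y * (g⁻¹ * k) by group] at this
  have AB : ∀ a, (g⁻¹ * k)⁻¹ * a * (g⁻¹ * k) ∈ cjg g A ↔ a ∈ A := fun a => by
    rw [mem_normalizer_iff.1 hk, mem_cjg,
      show g⁻¹ * (k * ((g⁻¹ * k)⁻¹ * a * (g⁻¹ * k)) * k⁻¹) * g = a by group]
  generalize g⁻¹ * k = p at nT AB
  have BA : cjg p⁻¹ (cjg g A) ≤ A := by_contra fun m => n fun b hb => by
    have := cle.1 (uq p⁻¹ (cle.2 fun b hb => by rw [inv_inv]; exact nT b (BT hb)) m).le b hb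
    rwa [inv_inv, AB] at this
  have p2 : p⁻¹ ^ 2 ∈ normalizer (A : Set G) := mem_normalizer_fintype fun a ha => by
    have := cle.1 BA _ ((AB a).2 ha)
    rwa [show p⁻¹ * (p⁻¹ * a * p) * p⁻¹⁻¹ = p⁻¹ ^ 2 * a * (p⁻¹ ^ 2)⁻¹ by
      simp only [pow_two, mul_inv_rev, mul_assoc, inv_inv]] at this
  obtain ⟨_, ⟨j, rfl⟩, hm⟩ := h.toT8.pow_norm nT
  have p1 : p ∈ normalizer (A : Set G) := by
    have := mul_mem (pow_mem p2 j) (mem_normalizer_fintype (h.nA _ hm))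
    rwa [show (p⁻¹ ^ 2) ^ j * p ^ (2 * j + 1) = p by group] at this
  refine n fun b hb => ?_
  rw [mem_normalizer_iff.1 p1, ← AB]
  rwa [show p⁻¹ * (p * b * p⁻¹) * p = b by group]

end E2H

theorem T8.e2 (h : T8 T x) {A : Subgroup G} (le : A ≤ T) (el : ∀ a ∈ A, a * a = 1) (cA : Nat.card A = 32)
    (nA : ∀ y ∈ T, ∀ a ∈ A, y * a * y⁻¹ ∈ A) : False := by
  have H : E2H T A x := ⟨h, le, el, cA, nA⟩
  obtain ⟨w, wA, w1, fx⟩ := h.fx5 le el cA nA H.quo.1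
  have zc : ∀ y ∈ T, y * w = w * y := fun y hy => fx y (nA y hy)
  have iso : ∀ g : G, g * w * g⁻¹ ∈ A → g * w * g⁻¹ = w := fun g hg => by
    obtain ⟨k, e, hk⟩ := h.ext zc (h.pg.to_le le) fun r hr => comm_of_sq el hr hg
    have := fx k⁻¹ (H.wc fun a ha => by rw [inv_inv]; exact hk a ha)
    rw [← e, mul_assoc, ← this, mul_inv_cancel_left]
  obtain ⟨g, uT, uw, ex⟩ := h.zst w1 (el w wA) zc
  have uA := fun e => uw (iso g e)
  have uu : g * w * g⁻¹ * (g * w * g⁻¹) = 1 := by rw [conj_mul, el w wA]; group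
  have cw : g⁻¹ * (g * w * g⁻¹) * g ∈ A := by simpa [mul_assoc] using wA
  have iso' : ∀ s : G, g⁻¹ * (s * (g * w * g⁻¹) * s⁻¹) * g ∈ A → s * (g * w * g⁻¹) = g * w * g⁻¹ * s := by
    intro s e
    have e1 : g⁻¹ * (s * (g * w * g⁻¹) * s⁻¹) * g = g⁻¹ * s * g * w * (g⁻¹ * s * g)⁻¹ := by group
    have := iso _ (e1 ▸ e)
    rw [← mul_inv_eq_iff_eq_mul]
    conv_rhs => rw [← this]
    group
  generalize g * w * g⁻¹ = u at *
  have nc := H.nc uT uu uA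
  have a1 : ∀ s ∈ T, s * u * s⁻¹ ∈ T := fun s hs => mul_mem (mul_mem hs uT) (inv_mem hs)
  have a2 : ∀ s : G, s * u * s⁻¹ * (s * u * s⁻¹) = 1 := fun s => by rw [conj_mul, uu]; group
  have a3 : ∀ s ∈ T, s * u * s⁻¹ ∉ A := fun s hs e => uA (by
    simpa [mul_assoc] using conj_inv_mem (nA s hs) e)
  have a4 : ∀ s ∈ T, s * u * s⁻¹ * u = u * (s * u * s⁻¹) := fun s hs => by
    have := el _ (H.tw (a1 s hs) (a2 s) (a3 s hs) uT uu uA)
    rw [← inv_eq_of_mul_eq_one_right this, mul_inv_rev, inv_eq_of_mul_eq_one_right uu,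
      inv_eq_of_mul_eq_one_right (a2 s)]
  have a5 : ∀ s ∈ T, g⁻¹ * (s * u * s⁻¹) * g ∈ T := fun s hs => ex _ (a1 s hs) (a4 s hs)
  have a6 : ∀ s : G, g⁻¹ * (s * u * s⁻¹) * g * (g⁻¹ * (s * u * s⁻¹) * g) = 1 := fun s => by
    rw [show g⁻¹ * (s * u * s⁻¹) * g * (g⁻¹ * (s * u * s⁻¹) * g) = g⁻¹ * s * (u * u) * s⁻¹ * g by group, uu]
    group
  have eA := H.tw uT uu uA (a1 x h.xT) (a2 x) (a3 x h.xT)
  have ey := (H.iff uT uu uA eA).1 (by rw [mul_assoc u, a4 x h.xT])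
  have n1 : g⁻¹ * (x * u * x⁻¹) * g ∉ A := fun e =>
    nc ((show Commute x u from iso' x e).pow_left 2).symm.eq
  have n2 : g⁻¹ * (x ^ 2 * u * (x ^ 2)⁻¹) * g ∉ A := fun e => nc (iso' _ e).symm
  have n3 : g⁻¹ * (x ^ 3 * u * (x ^ 3)⁻¹) * g ∉ A := fun e => nc (by
    have := ((show Commute (x ^ 3) u from iso' _ e).pow_left 6).symm.eq
    rwa [← pow_mul, show 3 * 6 = 8 * 2 + 2 from rfl, pow_add, pow_mul, ← h.x8, pow_orderOf_eq_one, one_pow,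
      one_mul] at this)
  have m := mul_mem cw (H.tw (a5 x h.xT) (a6 x) n1 (a5 _ (pow_mem h.xT 2)) (a6 _) n2)
  refine n3 ((mul_mem_cancel_left m).1 ?_)
  rw [show g⁻¹ * u * g * (g⁻¹ * (x * u * x⁻¹) * g * (g⁻¹ * (x ^ 2 * u * (x ^ 2)⁻¹) * g)) *
      (g⁻¹ * (x ^ 3 * u * (x ^ 3)⁻¹) * g) = g⁻¹ * (u * (x * u * x⁻¹) *
      (x ^ 2 * (u * (x * u * x⁻¹)) * (x ^ 2)⁻¹)) * g by group, ← ey, mul_inv_cancel_right, el _ eA,
    mul_one, inv_mul_cancel]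
  exact one_mem A

end CfsgLib.A10S
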