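import Mathlib
import Cfsg.Agent.Lib.A10S.T8M

/-! T8P: cyclic Frattini subgroup; `x ^ 4` weakly closed in `M`.  See plans/A10S-T8.md. -/

set_option autoImplicit false

namespace CfsgLib.A10S
open Cfsg Subgroup CfsgLib.Sect

variable {G : Type*} [Group G] [Finite G] {T M : Subgroup G} {x : G}

theorem T8.p_ord (h : T8 T x) : orderOf (x ^ 2) = 4 := by rw [orderOf_pow, h.x8]; rfl

theorem T8.p_sq (h : T8 T x) {e : G} (he : e ∈ zpowers (x ^ 2)) :
    e = 1 ∨ e = x ^ 4 ∨ e * e = x ^ 4 := by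
  classical
  obtain ⟨k, hk, rfl⟩ := Finset.mem_image.1 (mem_zpowers_iff_mem_range_orderOf.1 he)
  rw [h.p_ord, Finset.mem_range] at hk
  interval_cases k
  · exact .inl (pow_zero _)
  · exact .inr (.inr (by group))
  · exact .inr (.inl (by group))
  · exact .inr (.inr (by rw [← mul_one (x ^ 4), ← h.z2]; group))

theorem T8.phi4 (h : T8 T x) (ne : NE G) (sq : ∀ y ∈ T, y * y ∈ zpowers (x ^ 2)) : False := by
  have k : ∀ e ∈ zpowers (x ^ 2), e * e ≠ 1 → e * e = x ^ 4 := fun e he n => by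
    rcases h.p_sq he with rfl | rfl | t
    exacts [absurd (one_mul 1) n, absurd h.z2 n, t]
  have c1 : ∀ g : G, g * x ^ 4 * g⁻¹ ≠ 1 := fun g e => h.z1 (conj_eq_one_iff.1 e)
  have zc : ∀ y ∈ T, y * x ^ 4 = x ^ 4 * y := fun y hy => by
    have e : y * x * y⁻¹ * (y * x * y⁻¹) * (y * x * y⁻¹ * (y * x * y⁻¹)) = y * x ^ 4 * y⁻¹ := by
      simp only [conj_mul, pow_succ, pow_zero, one_mul, mul_assoc x]
    rw [← mul_inv_eq_iff_eq_mul, ← e]
    exact k _ (sq _ (mul_mem (mul_mem hy h.xT) (inv_mem hy))) (e ▸ c1 y)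
  obtain ⟨g, tT, tz, ex⟩ := h.zst h.z1 h.z2 zc
  have c2 : g⁻¹ * x ^ 4 * g ≠ x ^ 4 := fun e => tz (by conv_lhs => rw [← e]
                                                       group)
  have c3 : g⁻¹ * x ^ 4 * g ≠ 1 := by simpa using c1 g⁻¹
  have el : ∀ y ∈ centralizer {g * x ^ 4 * g⁻¹} ⊓ T, y * y = 1 := fun y hy => by
    have m := sq _ (ex y hy.2 (mem_cent.1 hy.1))
    rw [show g⁻¹ * y * g * (g⁻¹ * y * g) = g⁻¹ * (y * y) * g by group] at m
    rcases h.p_sq (sq y hy.2) with e | e | e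
    · exact e
    · rw [e] at m
      rcases h.p_sq m with t | t | t
      · exact absurd t c3
      · exact absurd t c2
      · rw [show g⁻¹ * x ^ 4 * g * (g⁻¹ * x ^ 4 * g) = g⁻¹ * (x ^ 4 * x ^ 4) * g by group, h.z2] at t
        exact absurd (by simpa using t.symm) h.z1
    · have e1 : g⁻¹ * (y * y) * g * (g⁻¹ * (y * y) * g) = g⁻¹ * x ^ 4 * g := by rw [← e]; group
      exact absurd (e1.symm.trans (k _ m (e1 ▸ c3))) c2
  have i1 := index_le T (centralizer {g * x ^ 4 * g⁻¹})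
    (fun a => a * (g * x ^ 4 * g⁻¹) * a⁻¹ * (g * x ^ 4 * g⁻¹)⁻¹) (zpowers (x ^ 2) : Set G)
    (fun a ha => comm_mem sq ha tT) fun a _ b _ e => mem_cent.2 (comm_fib' e)
  have i2 := card_eq_relIndex (centralizer {g * x ^ 4 * g⁻¹}) T
  have i3 := Nat.mul_le_mul (ne _ el) i1
  rw [← i2, h.card, SetLike.coe_sort_coe, Nat.card_zpowers, h.p_ord] at i3
  omega

theorem MZ.caseA (h : MZ T M x) (ne : NE G) (wc : ∀ g : G, g * x ^ 4 * g⁻¹ ∈ M → g * x ^ 4 * g⁻¹ = x ^ 4) :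
    False := by
  have z1 := h.toT8.z1
  have z2 := h.toT8.z2
  obtain ⟨g, tT, tz, ex⟩ := h.toT8.zst z1 z2 fun _ => h.zc
  have tM := fun e => tz (wc g e)
  have wc' : ∀ n : G, g⁻¹ * (n * (g * x ^ 4 * g⁻¹) * n⁻¹) * g ∈ M →
      n * (g * x ^ 4 * g⁻¹) * n⁻¹ = g * x ^ 4 * g⁻¹ := fun n e => by
    have e1 : g⁻¹ * (n * (g * x ^ 4 * g⁻¹) * n⁻¹) * g = g⁻¹ * n * g * x ^ 4 * (g⁻¹ * n * g)⁻¹ := by group
    have := wc _ (e1 ▸ e)
    rw [← e1] at this
    conv_rhs => rw [← this]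
    group
  have zM' : g⁻¹ * x ^ 4 * g ∉ M := fun e => tz (by
    have := wc g⁻¹ (by rwa [inv_inv])
    conv_lhs => rw [← this]
    group)
  have zT := h.le h.zM
  have zT' := ex _ zT (h.zc tT).symm
  have cz : ∀ y, g⁻¹ * y * g = x ^ 4 → y = g * x ^ 4 * g⁻¹ := fun y e => by rw [← e]; group
  have tt : g * x ^ 4 * g⁻¹ * (g * x ^ 4 * g⁻¹) = 1 := by rw [conj_mul, z2]; group
  generalize g * x ^ 4 * g⁻¹ = t at *
  have sq : ∀ {y v : G}, y ∈ T → v ∈ T → v ∉ M → v * v = 1 → y * v = v * y → y * y = 1 ∨ y * y = x ^ 4 := by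
    intro y v hy hv vM vv c
    by_cases e : y ∈ M
    · exact h.sq y e
    · have := h.sq _ (h.idx hy hv e vM)
      rwa [mul_assoc, ← mul_assoc v, ← c, mul_assoc, vv, mul_one] at this
  have el : ∀ y ∈ centralizer {t} ⊓ T, y * y = 1 := fun y hy => by
    refine (sq hy.2 tT tM tt (mem_cent.1 hy.1)).resolve_right fun e => ?_
    have := sq (ex y hy.2 (mem_cent.1 hy.1)) zT' zM' (by
      rw [show g⁻¹ * x ^ 4 * g * (g⁻¹ * x ^ 4 * g) = g⁻¹ * (x ^ 4 * x ^ 4) * g by group, z2]; group) (by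
      rw [show g⁻¹ * y * g * (g⁻¹ * x ^ 4 * g) = g⁻¹ * (y * x ^ 4) * g by group, h.zc hy.2]; group)
    rw [show g⁻¹ * y * g * (g⁻¹ * y * g) = g⁻¹ * (y * y) * g by group, e] at this
    rcases this with k | k
    · exact zM' (k ▸ one_mem M)
    · exact tz (cz _ k).symm
  have c1 := two_mul_card_le (inf_le_inf_left (centralizer {t}) h.le)
    fun l => tM (l (mem_inf.2 ⟨mem_cent.2 rfl, tT⟩)).2
  have c2 := ne _ el
  have c3 := card_eq_relIndex (centralizer {t}) M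
  obtain ⟨K, KM, K8, hc, zK, -⟩ := h.exists_K tT tM
  have f1 : ∀ a ∈ M, a * t * a⁻¹ * t⁻¹ ∈ (K : Set G) := fun a ha => hc a (h.le ha) t tT
  have f2 : ∀ a ∈ M, ∀ b ∈ M, a * t * a⁻¹ * t⁻¹ = b * t * b⁻¹ * t⁻¹ → a⁻¹ * b ∈ centralizer {t} :=
    fun a _ b _ e => mem_cent.2 (comm_fib' e)
  have c4 : 8 ≤ (centralizer {t}).relIndex M := by
    rw [h.cardM] at c3
    by_contra n
    have := Nat.mul_le_mul (show Nat.card (centralizer {t} ⊓ M : Subgroup G) ≤ 8 by omega)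
      (show (centralizer {t}).relIndex M ≤ 7 by omega)
    omega
  have c5 : 8 ≤ Nat.card K := c4.trans (index_le M _ _ (K : Set G) f1 f2)
  have sur : ∀ k ∈ K, ∃ n : G, n * t * n⁻¹ = k * t := fun k hk => by
    obtain ⟨n, -, e⟩ := exists_of_index M _ _ (K : Set G) f1 f2 (K8.trans c4) hk
    exact ⟨n, mul_inv_eq_iff_eq_mul.1 e⟩
  have inv : ∀ k ∈ K, t * k * t = k⁻¹ := fun k hk => by
    obtain ⟨n, e⟩ := sur k hk
    rw [eq_inv_iff_mul_eq_one, ← mul_left_inj t, ← mul_right_inj k,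
      show k * (t * k * t * k * t) = k * t * (k * t) * (k * t) by group, ← e, conj_mul, tt]
    rw [e]; group
  obtain ⟨p, pK, pp, p1, pz⟩ : ∃ p ∈ K, p * p = 1 ∧ p ≠ 1 ∧ p ≠ x ^ 4 := by
    obtain ⟨p, pK, n1⟩ := exists_notMem (K := zpowers (x ^ 4)) (H := K) (by
      rw [card_zpowers_two z2 z1]; omega)
    rcases h.sq p (KM pK) with e | e
    · exact ⟨p, pK, e, fun k => n1 (k ▸ one_mem _), fun k => n1 (k ▸ mem_zpowers _)⟩
    obtain ⟨q, qK, n2⟩ := exists_notMem (K := zpowers p) (H := K) (by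
      have : orderOf p ≤ 4 := orderOf_le_of_pow_eq_one (by norm_num) (by
        rw [← z2, ← e]; simp only [pow_succ, pow_zero, one_mul, mul_assoc])
      rw [Nat.card_zpowers]; omega)
    have zp : x ^ 4 ∈ zpowers p := e ▸ mul_mem (mem_zpowers p) (mem_zpowers p)
    rcases h.sq q (KM qK) with e' | e'
    · exact ⟨q, qK, e', fun k => n2 (k ▸ one_mem _), fun k => n2 (k ▸ zp)⟩
    have n3 : p * q ∉ zpowers p := fun k => n2 ((mul_mem_cancel_left (mem_zpowers p)).1 k)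
    refine ⟨p * q, mul_mem pK qK, ?_, fun k => n3 (k ▸ one_mem _), fun k => n3 (k ▸ zp)⟩
    have c : q * p = p * q := by
      rw [← inv_inj, ← inv _ (mul_mem qK pK), mul_inv_rev, ← inv q qK, ← inv p pK,
        show t * q * t * (t * p * t) = t * q * (t * t) * p * t by group, tt]
      group
    rw [mul_assoc, ← mul_assoc q, c, mul_assoc, ← mul_assoc, e, e', z2]
  have cm : ∀ k ∈ K, k * k = 1 → g⁻¹ * (k * t) * g ∈ T := fun k hk kk =>
    ex _ (mul_mem (h.le (KM hk)) tT) (by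
      rw [mul_assoc, tt, mul_one, ← mul_assoc, inv k hk, inv_eq_of_mul_eq_one_right kk])
  have fx : ∀ k ∈ K, g⁻¹ * (k * t) * g ∈ M → k = 1 := fun k hk m => by
    obtain ⟨n, e⟩ := sur k hk
    exact mul_eq_right.1 (e.symm.trans (wc' n (e ▸ m)))
  have := h.idx zT' (cm p pK pp) zM' fun m => p1 (fx p pK m)
  rw [show g⁻¹ * x ^ 4 * g * (g⁻¹ * (p * t) * g) = g⁻¹ * (x ^ 4 * p * t) * g by group] at this
  exact pz (by rw [← inv_eq_of_mul_eq_one_right (fx _ (mul_mem zK pK) this), inv_eq_of_mul_eq_one_right z2])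

end CfsgLib.A10S
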