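import Mathlib
import Cfsg.Agent.Lib.A10S.Bas
import Cfsg.Agent.Lib.Comp.FStar
import Cfsg.Agent.Lib.Transfer.Abelian
import Cfsg.Agent.S0144

/-! CON: a 2-constrained involution centralizer.  See plans/A10S.md. -/

set_option autoImplicit false

namespace CfsgLib.A10S
open Cfsg Subgroup
open scoped commutatorElement

universe u

theorem con_zp {X : Type*} [Group X] [Finite X] {a x : X} (ha : orderOf a = 2) (hx : x ∈ zpowers a) :
    x = 1 ∨ x = a := by
  classical
  rw [mem_zpowers_iff_mem_range_orderOf, ha] at hx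
  simp only [Finset.mem_image, Finset.mem_range] at hx
  obtain ⟨i, hi, rfl⟩ := hx
  interval_cases i <;> simp

theorem con_two {X : Type*} [Group X] [Finite X] {p q : ℕ} (hp : p.Prime) (hq : q.Prime)
    (h : ∀ r : ℕ, r.Prime → r ∣ Nat.card X → r = p ∨ r = q) : Group.IsSolvable X := by
  obtain ⟨a, m, hm, e⟩ := Nat.exists_eq_pow_mul_and_not_dvd (Nat.card_pos (α := X)).ne' p hp.ne_one
  have m0 : m ≠ 0 := fun e1 => hm (e1 ▸ dvd_zero p)
  have h1 := Nat.eq_prime_pow_of_unique_prime_dvd (p := q) m0 fun {d} hd hdm =>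
    (h d hd (e ▸ hdm.mul_left _)).resolve_left fun e1 => hm (e1 ▸ hdm)
  exact Cfsg.Agent.S0144.result p q a _ hp hq (e.trans (by rw [← h1]))

theorem con_dvd {X : Type*} [Group X] [Finite X] {J : Subgroup X} (hJ : Group.IsPerfect J) (J1 : J ≠ ⊥)
    (h : ∀ r : ℕ, r.Prime → r ∣ Nat.card J → r = 2 ∨ r = 3 ∨ r = 5) : 2 ∣ Nat.card J ∧ 5 ∣ Nat.card J := by
  have := (nontrivial_iff_ne_bot J).2 J1
  refine ⟨by_contra fun n => Group.IsPerfect.not_isSolvable J (con_two Nat.prime_three Nat.prime_five fun r hr d => ?_),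
    by_contra fun n => Group.IsPerfect.not_isSolvable J (con_two Nat.prime_two Nat.prime_three fun r hr d => ?_)⟩
  · exact (h r hr d).resolve_left fun e => n (e ▸ d)
  · rcases h r hr d with e | e | e
    exacts [.inl e, .inr e, absurd (e ▸ d) n]

theorem con_perf {X : Type*} [Group X] [Finite X] (hX : Group.IsPerfect X) (h8 : ¬ 8 ∣ Nat.card X) {z : X}
    (hz : orderOf z = 2) (c : z ∈ center X ∨ ¬ 4 ∣ Nat.card X) : False := by
  have := Fact.mk Nat.prime_two
  obtain ⟨P, hP⟩ := (IsPGroup.of_card (p := 2) (n := 1) (G := zpowers z) (by rw [Nat.card_zpowers, hz, pow_one])).exists_le_sylow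
  obtain ⟨n, hn⟩ := IsPGroup.iff_card.1 P.isPGroup'
  have hd := card_subgroup_dvd_card (P : Subgroup X)
  have h2 := card_dvd_of_le hP
  rw [Nat.card_zpowers, hz, hn] at h2
  have n12 : n = 1 ∨ n = 2 := by
    rcases n with _ | _ | _ | n
    · simp at h2
    · exact .inl rfl
    · exact .inr rfl
    · exact absurd ((pow_dvd_pow 2 (by omega : 3 ≤ n + 1 + 1 + 1)).trans (hn ▸ hd)) h8
  have hab : IsMulCommutative P := by
    rcases n12 with rfl | rfl
    · exact (isCyclic_of_prime_card (p := 2) hn).isMulCommutative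
    · exact IsPGroup.isMulCommutative_of_card_eq_prime_sq hn
  have hb := Transfer.inf_centralizer_normalizer_eq_bot P hab
    (top_le_iff.1 (hX.commutator_eq_top ▸ Transfer.commutator_le_pResidual_of_abelian_sylow P hab))
  have z1 : z ≠ 1 := fun e => by simp [e] at hz
  refine z1 (mem_bot.1 (hb ▸ mem_inf.2 ⟨hP (mem_zpowers z), mem_centralizer_iff.2 fun g hg => ?_⟩))
  rcases c with c | c
  · exact mem_center_iff.1 c g
  · have e : zpowers z = (P : Subgroup X) := eq_of_le_of_card_ge hP (by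
      rcases n12 with rfl | rfl
      · rw [hn, Nat.card_zpowers, hz, pow_one]
      · exact absurd (by rwa [hn] at hd) c)
    have h3 := (mem_normalizer_iff.1 hg z).1 (hP (mem_zpowers z))
    rw [← e] at h3
    exact mul_inv_eq_iff_eq_mul.1 ((con_zp hz h3).resolve_left fun e1 => z1 (conj_eq_one_iff.1 e1))

theorem con_pr {H : Type*} [Group H] [Finite H] (om : Om H) {t : H} (ht : orderOf t = 2) (tc : t ∈ center H) (r : ℕ)
    (hr : r.Prime) (d : r ∣ Nat.card H) : r = 2 ∨ r = 3 ∨ r = 5 := by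
  rcases om.prime hr d with e | e | e | rfl
  exacts [.inl e, .inr (.inl e), .inr (.inr e), by
    have := Fact.mk hr
    obtain ⟨x, hx⟩ := exists_prime_orderOf_dvd_card' 7 d
    exact absurd (om.comm (show Commute x t from mem_center_iff.1 tc x) hx.symm.dvd ht.symm.dvd (by norm_num))
      (by decide)]

theorem con_main {H : Type*} [Group H] [Finite H] (om : Om H) (two : ¬ 256 ∣ Nat.card H) {t : H}
    (ht : orderOf t = 2) (tc : t ∈ center H) {Q : Subgroup H} [Q.Normal] (hQ : IsPGroup 2 Q)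
    (self : centralizer (Q : Set H) ≤ Q) {J : Subgroup H} (hJ : Group.IsPerfect J) (J1 : J ≠ ⊥) {s : H}
    (hs : s * s = 1) (s1 : s ≠ 1) (c : s ∈ centralizer (J : Set H)) : s = t := by
  have := Fact.mk Nat.prime_two
  have pr := con_pr om ht tc
  obtain ⟨x, xJ, hx⟩ := exists_mem_orderOf Nat.prime_five
    (con_dvd hJ J1 fun r hr d => pr r hr (d.trans (card_subgroup_dvd_card J))).2
  have xQ : x ∉ Q := fun e => by
    have := dvd_orderOf_of_pgroup Nat.prime_two hQ e (fun e => by simp [e] at hx)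
    rw [hx] at this
    exact absurd this (by norm_num)
  have tQ : t ∈ Q := self (center_le_centralizer _ tc)
  let f := QuotientGroup.mk' Q
  have hJ' : Group.IsPerfect (J.map f) := Group.IsPerfect.map f
  have J1' : J.map f ≠ ⊥ := fun e => xQ (by
    rw [Subgroup.map_eq_bot_iff, QuotientGroup.ker_mk'] at e
    exact e xJ)
  have cH : Nat.card H = Nat.card (H ⧸ Q) * Nat.card Q := card_eq_card_quotient_mul_card_subgroup Q
  have dJ := card_subgroup_dvd_card (J.map f)
  have h4 : 4 ∣ Nat.card (H ⧸ Q) := by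
    refine Dvd.dvd.trans (by_contra fun n => ?_) dJ
    obtain ⟨z, hz⟩ := exists_prime_orderOf_dvd_card' 2
      (con_dvd hJ' J1' fun r hr d => pr r hr (cH ▸ (d.trans dJ).mul_right _)).1
    exact con_perf hJ' (fun e => n (Dvd.dvd.trans (by norm_num) e)) hz (.inr n)
  obtain ⟨a, ha⟩ := IsPGroup.iff_card.1 hQ
  obtain ⟨b, hb⟩ := IsPGroup.iff_card.1 (hQ.to_inf_left (K := centralizer ({x} : Set H)))
  have tx : zpowers t ≤ Q ⊓ centralizer ({x} : Set H) := zpowers_le.2 ⟨tQ, center_le_centralizer _ tc⟩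
  have b1 : b ≠ 0 := fun e => by
    have := card_dvd_of_le tx
    rw [Nat.card_zpowers, ht, hb, e] at this
    simp at this
  have ab : b < a := by
    rw [← Nat.pow_lt_pow_iff_right (a := 2) one_lt_two, ← ha, ← hb]
    refine lt_of_not_ge fun e => xQ (self (mem_centralizer_iff.2 fun q hq => ?_))
    exact mem_centralizer_singleton_iff.1 ((eq_of_le_of_card_ge inf_le_left e).ge hq).2
  have a5 : a ≤ 5 := by
    by_contra n
    refine two (cH ▸ Dvd.dvd.trans ?_ (mul_dvd_mul h4 (ha ▸ pow_dvd_pow 2 (by omega : 6 ≤ a))))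
    norm_num
  have md := card_mod_fix Nat.prime_five hx (le_normalizer_of_normal (H := Q) (mem_top x))
  rw [ha, hb] at md
  obtain ⟨rfl, rfl⟩ : a = 5 ∧ b = 1 := by
    interval_cases a <;> interval_cases b <;> first | exact ⟨rfl, rfl⟩ | exact absurd rfl b1 | exact absurd md (by decide)
  have h8 : ¬ 8 ∣ Nat.card (H ⧸ Q) := fun e => two (cH ▸ ha ▸ mul_dvd_mul e dvd_rfl)
  have sQ : s ∈ Q := by
    by_contra n
    have o : orderOf (f s) = 2 := orderOf_eq_prime (by rw [pow_two, ← map_mul, hs, map_one])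
      fun e => n ((QuotientGroup.eq_one_iff s).1 e)
    have cj : ∀ y ∈ J.map f, y * f s = f s * y := by
      rintro _ ⟨y, hy, rfl⟩
      rw [← map_mul, ← map_mul, c y hy]
    by_cases m : f s ∈ J.map f
    · exact con_perf hJ' (fun e => h8 (e.trans dJ)) (z := ⟨f s, m⟩) (by rw [← o]; exact (orderOf_coe _).symm)
        (.inl (mem_center_iff.2 fun y => Subtype.ext (cj y y.2)))
    · have h4' : 4 ∣ Nat.card (J.map f) := by_contra fun n => by
        obtain ⟨z, hz⟩ := exists_prime_orderOf_dvd_card' 2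
          (con_dvd hJ' J1' fun r hr d => pr r hr (cH ▸ (d.trans dJ).mul_right _)).1
        exact con_perf hJ' (fun e => n (Dvd.dvd.trans (by norm_num) e)) hz (.inr n)
      let g : (J.map f) × zpowers (f s) →* H ⧸ Q := MonoidHom.noncommCoprod (Subgroup.subtype _) (Subgroup.subtype _) fun y u => by
        obtain ⟨_, i, rfl⟩ := u
        exact (show Commute (y : H ⧸ Q) (f s) from cj y y.2).zpow_right i
      have inj : Function.Injective g := (injective_iff_map_eq_one g).2 fun ⟨y, u⟩ e => by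
        have e1 : (y : H ⧸ Q) * u = 1 := e
        rcases con_zp o u.2 with e2 | e2
        · rw [e2, mul_one] at e1
          exact Prod.ext (Subtype.ext e1) (Subtype.ext e2)
        · rw [e2, mul_eq_one_iff_inv_eq] at e1
          exact absurd (e1 ▸ inv_mem y.2) m
      have := card_dvd_of_injective g inj
      rw [Nat.card_prod, Nat.card_zpowers, o] at this
      exact h8 ((mul_dvd_mul h4' dvd_rfl).trans this)
  have e : zpowers t = Q ⊓ centralizer ({x} : Set H) :=
    eq_of_le_of_card_ge tx (by rw [hb, Nat.card_zpowers, ht, pow_one])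
  have h3 : s ∈ zpowers t := e ▸ mem_inf.2 ⟨sQ, mem_centralizer_singleton_iff.2 (c x xJ).symm⟩
  exact (con_zp ht h3).resolve_left s1

theorem con {C : Type u} [Group C] [Finite C] (om : Om C) (two : ¬ 256 ∣ Nat.card C) {t : C}
    (ht : orderOf t = 2) (tc : t ∈ center C) (hc : ¬ HasComponent (C ⧸ oddCore C)) {J : Subgroup C}
    (hJ : Group.IsPerfect J) (J1 : J ≠ ⊥) {s : C} (hs : orderOf s = 2) (c : s ∈ centralizer (J : Set C)) :
    s = t := by
  have := Fact.mk Nat.prime_two
  let f := QuotientGroup.mk' (oddCore C)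
  have hf : Function.Surjective f := QuotientGroup.mk'_surjective _
  have od := Core.odd_card_oddCore C
  have key : ∀ u : C, u * u = 1 → f u = 1 → u = 1 := fun u uu e => by
    have h1 := orderOf_dvd_natCard (⟨u, (QuotientGroup.eq_one_iff u).1 e⟩ : oddCore C)
    rw [← orderOf_coe] at h1
    exact orderOf_eq_one_iff.1 (Nat.eq_one_of_dvd_coprimes (Nat.coprime_two_left.2 od)
      (orderOf_dvd_of_pow_eq_one (by rw [pow_two, uu])) h1)
  have sq : ∀ u : C, orderOf u = 2 → u * u = 1 ∧ u ≠ 1 := fun u o =>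
    ⟨by rw [← pow_two, ← o, pow_orderOf_eq_one], fun e => by simp [e] at o⟩
  have st : s * t = t * s := mem_center_iff.1 tc s
  have e : f s = f t := by
    refine con_main (om.quot _) (fun e => two (e.trans (card_quotient_dvd_card _))) (t := f t)
      (orderOf_eq_prime (by rw [pow_two, ← map_mul, (sq t ht).1, map_one]) fun e => (sq t ht).2 (key t (sq t ht).1 e))
      (mem_center_iff.2 fun y => ?_) (Core.isPGroup_pCore 2 _)
      (Comp.fstar_eq_pCore_iff.1 (Comp.fstar_eq_pCore_iff'.2 ⟨Comp.layer_eq_bot_iff.2 fun L hL => hc ⟨L, hL⟩,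
        Core.pPrimeCore_quotient_pPrimeCore 2 C⟩)) (J := J.map f) (Group.IsPerfect.map f) (fun e => ?_)
      (by rw [← map_mul, (sq s hs).1, map_one]) (fun e => (sq s hs).2 (key s (sq s hs).1 e)) ?_
    · obtain ⟨y, rfl⟩ := hf y
      rw [← map_mul, ← map_mul, mem_center_iff.1 tc y]
    · rw [Subgroup.map_eq_bot_iff, QuotientGroup.ker_mk'] at e
      exact (Nat.not_even_iff_odd.2 od) (even_iff_two_dvd.2 ((con_dvd hJ J1 fun r hr d =>
        con_pr om ht tc r hr (d.trans (card_subgroup_dvd_card J))).1.trans (card_dvd_of_le e)))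
    · rintro _ ⟨y, hy, rfl⟩
      rw [← map_mul, ← map_mul, c y hy]
  have e1 := key (s * t) (by rw [mul_assoc, ← mul_assoc t, ← st, mul_assoc, (sq t ht).1, mul_one, (sq s hs).1])
    (by rw [map_mul, e, ← map_mul, (sq t ht).1, map_one])
  rw [eq_inv_of_mul_eq_one_left e1, inv_eq_of_mul_eq_one_right (sq t ht).1]

end CfsgLib.A10S
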